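import Cfsg.Agent.Lib.M24.Basic

/-!
# The stabiliser of five points of `M24` and six-point configurations
-/

set_option autoImplicit false

namespace Cfsg.Agent.Lib.M24

open Cfsg Cfsg.Agent.Lib.Compute Cfsg.Agent.Lib.Golay
open scoped Pointwise

/-- The octad through the five base points. -/
abbrev O0 : ℕ := 8536111

theorem O0_octad : enc.finOf O0 ∈ octads := octad_of_mask (by decide +kernel)

theorem L5_sub_O0 : ∀ i ∈ L5, pt i ∈ (enc.finOf O0 : Finset GolayPt) := by decide +kernel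

theorem H_check : allBelow (fun i => L5.contains i ||
    (bcond (tb O0 i) ((T7.map fun p => pc p 5).contains i) ((T6.map fun p => pc p 4).contains i))) 24 = true := by
  decide +kernel

/-- The five base points as a finset. -/
noncomputable def F5 : Finset GolayPt := (L5.map pt).toFinset

theorem F5_card : F5.card = 5 := by decide +kernel

theorem F5_sub : F5 ⊆ enc.finOf O0 := by decide +kernel

theorem H_mem_O0 {σ : Equiv.Perm GolayPt} (hσ : σ ∈ stabL M24 (L5.map pt)) :
    (enc.finOf O0).image σ = enc.finOf O0 :=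
  image_octad_eq hσ.1 O0_octad F5_sub (by rw [F5_card]) fun a ha => hσ.2 a (by simpa [F5] using ha)

/-- `H` moves `pt 4` or `pt 5` to any point outside the five base points, according to the octad. -/
theorem H_orbit (a : GolayPt) (ha : idx a ∉ L5) :
    (a ∈ enc.finOf O0 → ∃ p ∈ T7, ppm p (pt 5) = a) ∧ (a ∉ enc.finOf O0 → ∃ p ∈ T6, ppm p (pt 4) = a) := by
  have h1 := (allBelow_iff _ _).1 H_check _ (idx_lt a)
  rw [Bool.or_eq_true] at h1
  have h2 : L5.contains (idx a) = false := by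
    cases h : L5.contains (idx a)
    · rfl
    · exact absurd (by simpa using h) ha
  rw [h2] at h1
  have h1' : bcond (tb O0 (idx a)) ((T7.map fun p => pc p 5).contains (idx a))
      ((T6.map fun p => pc p 4).contains (idx a)) = true := by
    rcases h1 with h1 | h1
    · exact Bool.noConfusion h1
    · exact h1
  constructor
  · intro hO
    have h3 : tb O0 (idx a) = true := by
      rw [tb_eq]
      simpa using hO
    rw [h3, bcond_true] at h1'
    simp only [List.contains_iff_mem, List.mem_map] at h1'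
    obtain ⟨p, hp, hpa⟩ := h1'
    refine ⟨p, hp, ?_⟩
    rw [code_pt (vld_code (T7_vld hp)) (by norm_num), hpa, pt_idx]
  · intro hO
    have h3 : tb O0 (idx a) = false := by
      rw [tb_eq]
      simpa using hO
    rw [h3, bcond_false] at h1'
    simp only [List.contains_iff_mem, List.mem_map] at h1'
    obtain ⟨p, hp, hpa⟩ := h1'
    refine ⟨p, hp, ?_⟩
    rw [code_pt (vld_code (T6_vld hp)) (by norm_num), hpa, pt_idx]

theorem H_trans {a b : GolayPt} (ha : idx a ∉ L5) (hb : idx b ∉ L5)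
    (hab : a ∈ enc.finOf O0 ↔ b ∈ enc.finOf O0) : ∃ h ∈ stabL M24 (L5.map pt), h a = b := by
  by_cases hO : a ∈ enc.finOf O0
  · obtain ⟨p, hp, hpa⟩ := (H_orbit a ha).1 hO
    obtain ⟨q, hq, hqb⟩ := (H_orbit b hb).1 (hab.1 hO)
    refine ⟨ppm q * (ppm p)⁻¹, (stabL M24 _).mul_mem (L5_mem_stab' hq)
      ((stabL M24 _).inv_mem (L5_mem_stab' hp)), ?_⟩
    rw [Equiv.Perm.mul_apply, ← hpa, ← hqb]
    simp
  · obtain ⟨p, hp, hpa⟩ := (H_orbit a ha).2 hO
    obtain ⟨q, hq, hqb⟩ := (H_orbit b hb).2 (fun h => hO (hab.2 h))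
    refine ⟨ppm q * (ppm p)⁻¹, (stabL M24 _).mul_mem (L5_mem_stab hq)
      ((stabL M24 _).inv_mem (L5_mem_stab hp)), ?_⟩
    rw [Equiv.Perm.mul_apply, ← hpa, ← hqb]
    simp

/-! ### Orders of the small stabilisers -/

theorem check_tail6 : checkChain [] m24Final [m24Level7] [4, 3, 2, 1, 0, 23] = true :=
  checkChain_tail' (b := 4) rfl check_tail5

theorem check_tail7 : checkChain [] m24Final [] [5, 4, 3, 2, 1, 0, 23] = true :=
  checkChain_tail' (b := 5) rfl check_tail6

theorem card_H : Nat.card (stabL M24 (L5.map pt)) = 48 := by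
  have h := card_of_chainOK (GE []) _ _ (chainOK_of_check [] m24Final _ L5 L5_lt check_tail5)
  rw [GE_nil] at h
  rw [h]
  decide +kernel

theorem card_H4 : Nat.card (stabL M24 ((4 :: L5).map pt)) = 3 := by
  have h := card_of_chainOK (GE []) _ _ (chainOK_of_check [] m24Final _ (4 :: L5) (by decide) check_tail6)
  rw [GE_nil] at h
  rw [h]
  decide +kernel

/-- The seven base points have a trivial pointwise stabiliser. -/
theorem eq_one_of_fix7 {σ : Equiv.Perm GolayPt} (hσ : σ ∈ M24)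
    (h : ∀ i ∈ [5, 4, 3, 2, 1, 0, 23], σ (pt i) = pt i) : σ = 1 := by
  rw [← GE_nil] at hσ
  obtain ⟨ps, hps, hprod⟩ := chain_decomp (L := [5, 4, 3, 2, 1, 0, 23]) (by decide) check_tail7
    (σ := σ) ⟨hσ, fun x hx => by
      obtain ⟨i, hi, rfl⟩ := List.mem_map.1 hx
      exact h i hi⟩
  cases hps
  simpa using hprod

theorem T7_images : (T7.map fun p => pc p 5).Nodup := by decide +kernel

theorem card_H5 : Nat.card (stabL M24 ((5 :: L5).map pt)) = 16 := by
  have h := card_stabL_cons (G := M24) (l := L5.map pt) (b := pt 5) (T := T7.map ppm)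
    (fun t ht => by
      obtain ⟨p, hp, rfl⟩ := List.mem_map.1 ht
      exact L5_mem_stab' hp)
    (fun σ hσ => by
      have h1 : σ (pt 5) ∈ (enc.finOf O0 : Finset GolayPt) := by
        rw [← H_mem_O0 hσ]
        exact Finset.mem_image_of_mem _ (by decide +kernel)
      have h2 : idx (σ (pt 5)) ∉ L5 := by
        intro h3
        have h4 : σ (pt (idx (σ (pt 5)))) = pt (idx (σ (pt 5))) := hσ.2 _ (List.mem_map_of_mem h3)
        rw [pt_idx] at h4
        have h5 := σ.injective h4
        have h6 : idx (pt 5) ∈ L5 := by rw [← h5]; exact h3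
        revert h6
        decide
      obtain ⟨p, hp, hpa⟩ := (H_orbit _ h2).1 h1
      exact ⟨ppm p, List.mem_map_of_mem hp, hpa⟩)
    (by
      have h5 : ((T7.map ppm).map fun t => t (pt 5)).map idx = T7.map fun p => pc p 5 := by
        simp only [List.map_map]
        apply List.map_congr_left
        intro p hp
        simp only [Function.comp_apply]
        have := (vld_code (T7_vld hp)) (pt 5)
        simp only [enc_idx] at this
        rw [← this]
        rfl
      exact List.Nodup.of_map idx (h5 ▸ T7_images))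
  rw [card_H] at h
  simp only [List.length_map] at h
  have h3 : T7.length = 3 := by decide +kernel
  rw [h3] at h
  change Nat.card (stabL M24 ((pt 5) :: L5.map pt)) = 16
  omega

/-! ### Six-point sets -/

/-- The pointwise stabiliser of a finite set, as a subtype. -/
abbrev Fixer (E : Finset GolayPt) : Type := {g : Equiv.Perm GolayPt // g ∈ M24 ∧ ∀ p ∈ E, g p = p}

/-- A six-set is carried to the five base points and `4` or `5`. -/
theorem exists_normal_six {E : Finset GolayPt} (hE : E.card = 6) :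
    ∃ c ∈ M24, ∃ x, (x = 4 ∨ x = 5) ∧ ∀ p, p ∈ E ↔ c p ∈ (x :: L5).map pt := by
  let e := (Finset.equivFinOfCardEq hE).symm
  have he : ∀ i j, (e i : GolayPt) = e j → i = j := fun i j h => e.injective (Subtype.ext h)
  have hall : ∀ p ∈ E, ∃ i, (e i : GolayPt) = p := fun p hp =>
    ⟨(Finset.equivFinOfCardEq hE) ⟨p, hp⟩, by simp [e]⟩
  have hne : ∀ i j : Fin 6, i ≠ j → (e i : GolayPt) ≠ e j := fun i j h h' => h (he i j h')
  obtain ⟨k, hk, k0, k1, k2, k3, k4⟩ := exists_map5 (hne 0 1 (by decide)) (hne 0 2 (by decide))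
    (hne 0 3 (by decide)) (hne 0 4 (by decide)) (hne 1 2 (by decide)) (hne 1 3 (by decide))
    (hne 1 4 (by decide)) (hne 2 3 (by decide)) (hne 2 4 (by decide)) (hne 3 4 (by decide))
  have hy : idx (k (e 5)) ∉ L5 := by
    intro h
    have h' : idx (k (e 5)) = 3 ∨ idx (k (e 5)) = 2 ∨ idx (k (e 5)) = 1 ∨ idx (k (e 5)) = 0 ∨
        idx (k (e 5)) = 23 := by simpa using h
    have hpt : ∀ j, idx (k (e 5)) = j → k (e 5) = pt j := fun j hj => by rw [← hj, pt_idx]
    rcases h' with h' | h' | h' | h' | h'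
    · exact hne 5 4 (by decide) (k.injective ((hpt _ h').trans k4.symm))
    · exact hne 5 3 (by decide) (k.injective ((hpt _ h').trans k3.symm))
    · exact hne 5 2 (by decide) (k.injective ((hpt _ h').trans k2.symm))
    · exact hne 5 1 (by decide) (k.injective ((hpt _ h').trans k1.symm))
    · exact hne 5 0 (by decide) (k.injective ((hpt _ h').trans k0.symm))
  obtain ⟨h, hh, h6⟩ := H_reduce _ hy
  have hfix : ∀ i ∈ L5, h⁻¹ (pt i) = pt i := fun i hi => by
    rw [Equiv.Perm.inv_eq_iff_eq]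
    exact (hh.2 _ (List.mem_map_of_mem hi)).symm
  have vals : (h⁻¹ * k) (e 0) = pt 23 ∧ (h⁻¹ * k) (e 1) = pt 0 ∧ (h⁻¹ * k) (e 2) = pt 1 ∧
      (h⁻¹ * k) (e 3) = pt 2 ∧ (h⁻¹ * k) (e 4) = pt 3 := by
    simp only [Equiv.Perm.mul_apply, k0, k1, k2, k3, k4]
    exact ⟨hfix _ (by simp), hfix _ (by simp), hfix _ (by simp), hfix _ (by simp), hfix _ (by simp)⟩
  obtain ⟨x, hx, hxv⟩ : ∃ x, (x = 4 ∨ x = 5) ∧ (h⁻¹ * k) (e 5) = pt x := by
    rcases h6 with h6 | h6
    · refine ⟨4, Or.inl rfl, ?_⟩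
      rw [Equiv.Perm.mul_apply, ← h6]
      simp
    · refine ⟨5, Or.inr rfl, ?_⟩
      rw [Equiv.Perm.mul_apply, ← h6]
      simp
  refine ⟨h⁻¹ * k, M24.mul_mem (M24.inv_mem hh.1) hk, x, hx, fun p => ?_⟩
  obtain ⟨v0, v1, v2, v3, v4⟩ := vals
  set c := h⁻¹ * k with hc
  constructor
  · intro hp
    obtain ⟨i, rfl⟩ := hall p hp
    fin_cases i
    · show c (e 0) ∈ _
      rw [v0]; simp
    · show c (e 1) ∈ _
      rw [v1]; simp
    · show c (e 2) ∈ _
      rw [v2]; simp
    · show c (e 3) ∈ _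
      rw [v3]; simp
    · show c (e 4) ∈ _
      rw [v4]; simp
    · show c (e 5) ∈ _
      rw [hxv]; simp
  · intro hp
    have hmem : ∀ i, (e i : GolayPt) ∈ E := fun i => (e i).2
    simp only [L5, List.map_cons, List.map_nil, List.mem_cons, List.not_mem_nil, or_false] at hp
    rcases hp with hp | hp | hp | hp | hp | hp
    · rw [c.injective (hp.trans hxv.symm)]; exact hmem 5
    · rw [c.injective (hp.trans v4.symm)]; exact hmem 4
    · rw [c.injective (hp.trans v3.symm)]; exact hmem 3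
    · rw [c.injective (hp.trans v2.symm)]; exact hmem 2
    · rw [c.injective (hp.trans v1.symm)]; exact hmem 1
    · rw [c.injective (hp.trans v0.symm)]; exact hmem 0

/-- Conjugation identifies pointwise stabilisers. -/
noncomputable def fixerEquiv {E : Finset GolayPt} {c : Equiv.Perm GolayPt} (hc : c ∈ M24) {l : List GolayPt}
    (h : ∀ p, p ∈ E ↔ c p ∈ l) : Fixer E ≃ stabL M24 l where
  toFun g := ⟨c * g.1 * c⁻¹, M24.mul_mem (M24.mul_mem hc g.2.1) (M24.inv_mem hc), fun x hx => by
    have h1 : c⁻¹ x ∈ E := by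
      rw [h]
      simpa using hx
    show c (g.1 (c⁻¹ x)) = x
    rw [g.2.2 _ h1]
    simp⟩
  invFun g := ⟨c⁻¹ * g.1 * c, M24.mul_mem (M24.mul_mem (M24.inv_mem hc) g.2.1) hc, fun x hx => by
    show c⁻¹ (g.1 (c x)) = x
    rw [g.2.2 _ ((h x).1 hx)]
    simp⟩
  left_inv g := by
    apply Subtype.ext
    show c⁻¹ * (c * g.1 * c⁻¹) * c = g.1
    group
  right_inv g := by
    apply Subtype.ext
    show c * (c⁻¹ * g.1 * c) * c⁻¹ = g.1
    group

theorem card_fixer_four {E : Finset GolayPt} {c : Equiv.Perm GolayPt} (hc : c ∈ M24)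
    (h : ∀ p, p ∈ E ↔ c p ∈ (4 :: L5).map pt) : Nat.card (Fixer E) = 3 := by
  rw [Nat.card_congr (fixerEquiv hc h), card_H4]

theorem card_fixer_five {E : Finset GolayPt} {c : Equiv.Perm GolayPt} (hc : c ∈ M24)
    (h : ∀ p, p ∈ E ↔ c p ∈ (5 :: L5).map pt) : Nat.card (Fixer E) = 16 := by
  rw [Nat.card_congr (fixerEquiv hc h), card_H5]

/-- The octad of a six-set in normal form. -/
theorem six_in_octad_of_five {E : Finset GolayPt} {c : Equiv.Perm GolayPt} (hc : c ∈ M24)
    (h : ∀ p, p ∈ E ↔ c p ∈ (5 :: L5).map pt) : ∃ o ∈ octads, E ⊆ o := by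
  refine ⟨(enc.finOf O0).image (⇑(c⁻¹ : Equiv.Perm GolayPt)), image_mem_octads (M24.inv_mem hc) O0_octad, fun p hp => ?_⟩
  rw [Finset.mem_image]
  refine ⟨c p, ?_, by simp⟩
  have h1 := (h p).1 hp
  revert h1
  generalize c p = q
  revert q
  decide +kernel

theorem not_six_in_octad_of_four {E : Finset GolayPt} {c : Equiv.Perm GolayPt} (hc : c ∈ M24)
    (h : ∀ p, p ∈ E ↔ c p ∈ (4 :: L5).map pt) : ¬ ∃ o ∈ octads, E ⊆ o := by
  rintro ⟨o, ho, hE⟩
  have hmem : ∀ q ∈ (4 :: L5).map pt, q ∈ o.image c := fun q hq => by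
    rw [Finset.mem_image]
    refine ⟨c⁻¹ q, hE ((h _).2 (by simpa using hq)), by simp⟩
  have h1 : o.image c = enc.finOf O0 := by
    apply octads_unique (s := F5) (image_mem_octads hc ho) O0_octad F5_card
    · intro q hq
      exact hmem q (List.mem_cons_of_mem _ (by simpa [F5] using hq))
    · exact F5_sub
  have h2 := hmem (pt 4) (by simp)
  rw [h1] at h2
  revert h2
  decide +kernel

/-! ### Every permutation of a six-set is induced -/

theorem exists_induce {E : Finset GolayPt} (hE : E.card = 6) (σ : Equiv.Perm ↥E) :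
    ∃ g ∈ M24, ∀ p : ↥E, g p = σ p := by
  let e := (Finset.equivFinOfCardEq hE).symm
  have hne : ∀ i j : Fin 6, i ≠ j → (e i : GolayPt) ≠ e j := fun i j h h' =>
    h (e.injective (Subtype.ext h'))
  have hne' : ∀ i j : Fin 6, i ≠ j → (σ (e i) : GolayPt) ≠ σ (e j) := fun i j h h' =>
    h (e.injective (σ.injective (Subtype.ext h')))
  obtain ⟨k, hk, k0, k1, k2, k3, k4⟩ := exists_map5 (hne 0 1 (by decide)) (hne 0 2 (by decide))
    (hne 0 3 (by decide)) (hne 0 4 (by decide)) (hne 1 2 (by decide)) (hne 1 3 (by decide))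
    (hne 1 4 (by decide)) (hne 2 3 (by decide)) (hne 2 4 (by decide)) (hne 3 4 (by decide))
  obtain ⟨l, hl, l0, l1, l2, l3, l4⟩ := exists_map5 (hne' 0 1 (by decide)) (hne' 0 2 (by decide))
    (hne' 0 3 (by decide)) (hne' 0 4 (by decide)) (hne' 1 2 (by decide)) (hne' 1 3 (by decide))
    (hne' 1 4 (by decide)) (hne' 2 3 (by decide)) (hne' 2 4 (by decide)) (hne' 3 4 (by decide))
  -- the two images of the sixth point, in normal position
  have hidx : ∀ (m : Equiv.Perm GolayPt) (y : GolayPt) (z : Fin 5 → GolayPt) ,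
      (∀ i, y ≠ z i) → m (z 0) = pt 23 → m (z 1) = pt 0 → m (z 2) = pt 1 → m (z 3) = pt 2 →
      m (z 4) = pt 3 → idx (m y) ∉ L5 := by
    intro m y z hyz z0 z1 z2 z3 z4 h
    have h' : idx (m y) = 3 ∨ idx (m y) = 2 ∨ idx (m y) = 1 ∨ idx (m y) = 0 ∨
        idx (m y) = 23 := by simpa using h
    have hpt : ∀ j, idx (m y) = j → m y = pt j := fun j hj => by rw [← hj, pt_idx]
    rcases h' with h' | h' | h' | h' | h'
    · exact hyz 4 (m.injective ((hpt _ h').trans z4.symm))
    · exact hyz 3 (m.injective ((hpt _ h').trans z3.symm))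
    · exact hyz 2 (m.injective ((hpt _ h').trans z2.symm))
    · exact hyz 1 (m.injective ((hpt _ h').trans z1.symm))
    · exact hyz 0 (m.injective ((hpt _ h').trans z0.symm))
  have hk5 : idx (k (e 5)) ∉ L5 := hidx k _ (fun i => (e (Fin.castLE (by norm_num) i) : GolayPt))
    (fun i => hne 5 _ (by revert i; decide)) k0 k1 k2 k3 k4
  have hl5 : idx (l (σ (e 5))) ∉ L5 := hidx l _ (fun i => (σ (e (Fin.castLE (by norm_num) i)) : GolayPt))
    (fun i => hne' 5 _ (by revert i; decide)) l0 l1 l2 l3 l4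
  -- the octad test is the same
  have hoct : ∀ (m : Equiv.Perm GolayPt) (t : Fin 6 → GolayPt), m ∈ M24 → (∀ i, t i ∈ E) →
      Function.Injective t → m (t 0) = pt 23 → m (t 1) = pt 0 → m (t 2) = pt 1 → m (t 3) = pt 2 →
      m (t 4) = pt 3 → (m (t 5) ∈ enc.finOf O0 ↔ ∃ o ∈ octads, E ⊆ o) := by
    intro m t hm htE htinj t0 t1 t2 t3 t4
    have hF : F5 ⊆ (E.image m) := by
      intro q hq
      have hq' : q = pt 3 ∨ q = pt 2 ∨ q = pt 1 ∨ q = pt 0 ∨ q = pt 23 := by
        simpa [F5] using hq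
      rw [Finset.mem_image]
      rcases hq' with rfl | rfl | rfl | rfl | rfl
      · exact ⟨_, htE 4, t4⟩
      · exact ⟨_, htE 3, t3⟩
      · exact ⟨_, htE 2, t2⟩
      · exact ⟨_, htE 1, t1⟩
      · exact ⟨_, htE 0, t0⟩
    have himg : E ⊆ (Finset.univ.image t) := by
      apply Finset.eq_of_subset_of_card_le (s := Finset.univ.image t)
        (fun x hx => by
          obtain ⟨i, _, rfl⟩ := Finset.mem_image.1 hx
          exact htE i)
        (by rw [Finset.card_image_of_injective _ htinj, hE]; simp) |>.symm.subset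
    constructor
    · intro h
      refine ⟨(enc.finOf O0).image (⇑(m⁻¹ : Equiv.Perm GolayPt)), image_mem_octads (M24.inv_mem hm) O0_octad, ?_⟩
      intro p hp
      obtain ⟨i, _, rfl⟩ := Finset.mem_image.1 (himg hp)
      rw [Finset.mem_image]
      refine ⟨m (t i), ?_, by simp⟩
      fin_cases i
      · show m (t 0) ∈ _
        rw [t0]; decide +kernel
      · show m (t 1) ∈ _
        rw [t1]; decide +kernel
      · show m (t 2) ∈ _
        rw [t2]; decide +kernel
      · show m (t 3) ∈ _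
        rw [t3]; decide +kernel
      · show m (t 4) ∈ _
        rw [t4]; decide +kernel
      · exact h
    · rintro ⟨o, ho, hEo⟩
      have h1 : o.image m = enc.finOf O0 := by
        apply octads_unique (s := F5) (image_mem_octads hm ho) O0_octad F5_card
        · exact hF.trans (Finset.image_subset_image hEo)
        · exact F5_sub
      rw [← h1]
      exact Finset.mem_image_of_mem _ (hEo (htE 5))
  have h1 := hoct k (fun i => (e i : GolayPt)) hk (fun i => (e i).2)
    (fun i j h => e.injective (Subtype.ext h)) k0 k1 k2 k3 k4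
  have h2 := hoct l (fun i => (σ (e i) : GolayPt)) hl (fun i => (σ (e i)).2)
    (fun i j h => e.injective (σ.injective (Subtype.ext h))) l0 l1 l2 l3 l4
  obtain ⟨h, hh, hhv⟩ := H_trans hk5 hl5 (h1.trans h2.symm)
  refine ⟨l⁻¹ * h * k, M24.mul_mem (M24.mul_mem (M24.inv_mem hl) hh.1) hk, ?_⟩
  have hfix : ∀ i ∈ L5, h (pt i) = pt i := fun i hi => hh.2 _ (List.mem_map_of_mem hi)
  intro p
  obtain ⟨i, rfl⟩ : ∃ i, e i = p := ⟨e.symm p, by simp⟩
  show l⁻¹ (h (k (e i))) = σ (e i)
  rw [Equiv.Perm.inv_eq_iff_eq]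
  fin_cases i
  · show h (k (e 0)) = l (σ (e 0))
    rw [k0, l0, hfix 23 (by simp)]
  · show h (k (e 1)) = l (σ (e 1))
    rw [k1, l1, hfix 0 (by simp)]
  · show h (k (e 2)) = l (σ (e 2))
    rw [k2, l2, hfix 1 (by simp)]
  · show h (k (e 3)) = l (σ (e 3))
    rw [k3, l3, hfix 2 (by simp)]
  · show h (k (e 4)) = l (σ (e 4))
    rw [k4, l4, hfix 3 (by simp)]
  · exact hhv

end Cfsg.Agent.Lib.M24
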