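import Mathlib

/-!
# Maximality of a point stabiliser from its orbits

If `G` acts on the orbit of `x` and the orbits of the stabiliser of `x` have sizes `c i`, pairwise
distinct, and the only partial sums containing the size 1 which divide the total are the trivial
ones, then the stabiliser is a maximal proper subgroup.
-/

set_option autoImplicit false

namespace Cfsg.Agent.Lib.M24.Coatom

open MulAction

variable {G X : Type*} [Group G] [MulAction G X]

theorem orbit_stab_eq_of_eq (x : X) {y : X} (h : x ∈ orbit ↥(stabilizer G x) y) :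
    orbit ↥(stabilizer G x) y = {x} := by
  obtain ⟨s, hs⟩ := h
  have hs' : s.1 • y = x := hs
  have h2 : s.1 • x = x := s.2
  have hy : y = x := smul_left_cancel s.1 (hs'.trans h2.symm)
  subst hy
  ext z
  constructor
  · rintro ⟨t, rfl⟩
    exact t.2
  · intro hz
    have hz' : z = y := hz
    subst hz'
    exact ⟨1, one_smul _ _⟩

/-- The number of points in the orbit of a larger subgroup divides the size of the orbit. -/
theorem ncard_orbit_dvd (x : X) (K : Subgroup G) (hK : stabilizer G x ≤ K) :
    (orbit ↥K x).ncard ∣ (orbit G x).ncard := by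
  have h1 : (orbit ↥K x).ncard = (stabilizer ↥K x).index := (index_stabilizer ↥K x).symm
  have h2 : (stabilizer ↥K x) = (stabilizer G x).subgroupOf K := by
    ext k
    simp only [mem_stabilizer_iff, Subgroup.mem_subgroupOf]
    rfl
  have h3 : (orbit G x).ncard = (stabilizer G x).index := (index_stabilizer G x).symm
  rw [h1, h2, h3]
  have h4 := Subgroup.relIndex_mul_index hK
  rw [Subgroup.relIndex] at h4
  exact ⟨_, h4.symm⟩

/-- The general criterion. -/
theorem isCoatom_stabilizer_of_orbits [Finite G] (x : X) {k : ℕ} (y : Fin k → X) (c : Fin k → ℕ)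
    (hcard : ∀ i, (orbit ↥(stabilizer G x) (y i)).ncard = c i) (hinj : Function.Injective c)
    (hA : orbit G x = ⋃ i, orbit ↥(stabilizer G x) (y i))
    (hnum : ∀ I : Finset (Fin k), (∃ i ∈ I, c i = 1) → (∑ i ∈ I, c i) ∣ (∑ i, c i) → I.card = 1 ∨ I = Finset.univ)
    (hne : 1 < ∑ i, c i) : IsCoatom (stabilizer G x) := by
  classical
  have hfin : ∀ i, (orbit ↥(stabilizer G x) (y i)).Finite := fun i => Set.finite_range _
  have hdisj : ∀ i j, i ≠ j → Disjoint (orbit ↥(stabilizer G x) (y i)) (orbit ↥(stabilizer G x) (y j)) := by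
    intro i j hij
    rw [Set.disjoint_left]
    intro z hz hz'
    have h1 : orbit ↥(stabilizer G x) (y i) = orbit ↥(stabilizer G x) z := (orbit_eq_iff.2 hz).symm
    have h2 : orbit ↥(stabilizer G x) (y j) = orbit ↥(stabilizer G x) z := (orbit_eq_iff.2 hz').symm
    exact hij (hinj (by rw [← hcard i, ← hcard j, h1, h2]))
  have hsum : ∀ I : Finset (Fin k), (⋃ i ∈ I, orbit ↥(stabilizer G x) (y i)).ncard = ∑ i ∈ I, c i := by
    intro I
    induction I using Finset.induction_on with
    | empty => simp
    | insert a s ha ih =>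
      have hd : Disjoint (orbit ↥(stabilizer G x) (y a)) (⋃ i ∈ s, orbit ↥(stabilizer G x) (y i)) := by
        rw [Set.disjoint_iUnion₂_right]
        intro j hj
        exact hdisj a j (fun h => ha (h ▸ hj))
      rw [Finset.sum_insert ha, Finset.set_biUnion_insert,
        Set.ncard_union_eq hd (hfin a) (Set.Finite.biUnion (Finset.finite_toSet s) fun i _ => hfin i), ih, hcard]
  have hx : x ∈ orbit G x := mem_orbit_self x
  have hx' := hx
  rw [hA, Set.mem_iUnion] at hx'
  obtain ⟨i0, hi0⟩ := hx'
  have hi0' : orbit ↥(stabilizer G x) (y i0) = {x} := orbit_stab_eq_of_eq x hi0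
  have hc0 : c i0 = 1 := by
    rw [← hcard i0, hi0', Set.ncard_singleton]
  have hunion : (orbit G x).ncard = ∑ i, c i := by
    rw [hA, ← hsum Finset.univ]
    simp
  constructor
  · intro htop
    have h1 : orbit G x = {x} := by
      ext z
      constructor
      · rintro ⟨g, rfl⟩
        have : g ∈ stabilizer G x := htop ▸ Subgroup.mem_top g
        exact this
      · intro hz
        have hz' : z = x := hz
        rw [hz']
        exact hx
    rw [h1, Set.ncard_singleton] at hunion
    omega
  · intro K hK
    have hKle : stabilizer G x ≤ K := hK.le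
    let I : Finset (Fin k) := Finset.univ.filter fun i => y i ∈ orbit ↥K x
    have hsub : ∀ z ∈ orbit ↥(stabilizer G x) x, True := fun _ _ => trivial
    have hstep : ∀ {z w : X}, w ∈ orbit ↥(stabilizer G x) z → z ∈ orbit ↥K x → w ∈ orbit ↥K x := by
      rintro z w ⟨s, rfl⟩ ⟨t, rfl⟩
      refine ⟨⟨s.1, hKle s.2⟩ * t, ?_⟩
      show (⟨s.1, hKle s.2⟩ * t : ↥K) • x = s.1 • t.1 • x
      rw [mul_smul]
      rfl
    have hOK : orbit ↥K x = ⋃ i ∈ I, orbit ↥(stabilizer G x) (y i) := by
      ext z
      simp only [Set.mem_iUnion]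
      constructor
      · intro hz
        have hz1 : z ∈ orbit G x := by
          obtain ⟨t, rfl⟩ := hz
          exact ⟨t.1, rfl⟩
        rw [hA, Set.mem_iUnion] at hz1
        obtain ⟨i, hi⟩ := hz1
        refine ⟨i, ?_, hi⟩
        have h1 : y i ∈ orbit ↥(stabilizer G x) z := by
          rw [orbit_eq_iff.2 hi]
          exact mem_orbit_self _
        simp only [I, Finset.mem_filter, Finset.mem_univ, true_and]
        exact hstep h1 hz
      · rintro ⟨i, hi, hz⟩
        simp only [I, Finset.mem_filter, Finset.mem_univ, true_and] at hi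
        exact hstep hz hi
    have hcardK : (orbit ↥K x).ncard = ∑ i ∈ I, c i := by rw [hOK, hsum]
    have hdvd := ncard_orbit_dvd x K hKle
    rw [hcardK, hunion] at hdvd
    have hi0I : i0 ∈ I := by
      simp only [I, Finset.mem_filter, Finset.mem_univ, true_and]
      have h1 : y i0 ∈ orbit ↥(stabilizer G x) x := by
        rw [orbit_eq_iff.2 hi0]
        exact mem_orbit_self _
      exact hstep h1 (mem_orbit_self x)
    rcases hnum I ⟨i0, hi0I, hc0⟩ hdvd with h1 | h1
    · exfalso
      have hI : I = {i0} := by
        obtain ⟨a, ha⟩ := Finset.card_eq_one.1 h1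
        rw [ha] at hi0I ⊢
        rw [Finset.mem_singleton.1 hi0I]
      have hOK1 : orbit ↥K x = {x} := by
        rw [hOK, hI]
        simp only [Finset.mem_singleton, Set.iUnion_iUnion_eq_left]
        exact hi0'
      apply hK.not_ge
      intro g hg
      have : (⟨g, hg⟩ : ↥K) • x ∈ orbit ↥K x := ⟨_, rfl⟩
      rw [hOK1] at this
      exact this
    · rw [eq_top_iff]
      intro g _
      have hg : g • x ∈ orbit ↥K x := by
        rw [hOK, h1]
        have : g • x ∈ orbit G x := ⟨g, rfl⟩
        rw [hA, Set.mem_iUnion] at this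
        obtain ⟨i, hi⟩ := this
        simp only [Set.mem_iUnion]
        exact ⟨i, Finset.mem_univ _, hi⟩
      obtain ⟨t, ht⟩ := hg
      have ht' : t.1 • x = g • x := ht
      have h3 : t.1⁻¹ * g ∈ stabilizer G x := by
        show (t.1⁻¹ * g) • x = x
        rw [mul_smul, ← ht', inv_smul_smul]
      have h4 : t.1 * (t.1⁻¹ * g) = g := by group
      rw [← h4]
      exact K.mul_mem t.2 (hKle h3)

end Cfsg.Agent.Lib.M24.Coatom
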