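import Cfsg.Agent.Lib.M24.Orbits
import Cfsg.Agent.Lib.M24.Coatom

/-!
# Maximal stabilisers from orbit decompositions
-/

set_option autoImplicit false
set_option linter.constructorNameAsVariable false

namespace Cfsg.Agent.Lib.M24

open Cfsg Cfsg.Agent.Lib.Compute Cfsg.Agent.Lib.Golay MulAction
open scoped Pointwise

section general

variable {G W : Type*} [Group G] [MulAction G W]

/-- Maximality of a stabiliser is transported along the group. -/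
theorem isCoatom_stabilizer_smul (g : G) (x : W) (h : IsCoatom (stabilizer G x)) :
    IsCoatom (stabilizer G (g • x)) := by
  rw [stabilizer_smul_eq_stabilizer_map_conj]
  exact (OrderIso.isCoatom_iff (MulEquiv.mapSubgroup (MulAut.conj g)) _).2 h

/-- If a point is in the union of orbits, then its orbit is one of them. -/
theorem orbit_of_self_mem (x : W) {y : W} (h : x ∈ orbit ↥(stabilizer G x) y) :
    orbit ↥(stabilizer G x) y = {x} := Coatom.orbit_stab_eq_of_eq x h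

theorem coatom_of_decomp3 [Finite G] {w : W} {c₁ c₂ c₃ : ℕ} (h : OrbDecomp3 (G := G) w (orbit G w) c₁ c₂ c₃)
    (h12 : c₁ ≠ c₂) (h13 : c₁ ≠ c₃) (h23 : c₂ ≠ c₃)
    (hnum : ∀ I : Finset (Fin 3), (∃ i ∈ I, (![c₁, c₂, c₃] : Fin 3 → ℕ) i = 1) →
      (∑ i ∈ I, (![c₁, c₂, c₃] : Fin 3 → ℕ) i) ∣ (∑ i, (![c₁, c₂, c₃] : Fin 3 → ℕ) i) → I.card = 1 ∨ I = Finset.univ)
    (hne : 1 < c₁ + c₂ + c₃) : IsCoatom (stabilizer G w) := by
  obtain ⟨X₁, _, X₂, _, X₃, _, e1, e2, e3, hA⟩ := h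
  refine Coatom.isCoatom_stabilizer_of_orbits w ![X₁, X₂, X₃] ![c₁, c₂, c₃] ?_ ?_ ?_ hnum ?_
  · intro i
    fin_cases i <;> assumption
  · intro i j hij
    fin_cases i <;> fin_cases j <;> first | rfl | (exfalso; simp_all)
  · rw [hA]
    ext z
    simp only [Set.mem_union, Set.mem_iUnion, Fin.exists_fin_succ, Matrix.cons_val_zero, Matrix.cons_val_succ,
      IsEmpty.exists_iff, or_false, or_assoc]
  · simp [Fin.sum_univ_succ]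
    omega

theorem coatom_of_decomp4 [Finite G] {w : W} {c₁ c₂ c₃ c₄ : ℕ} (h : OrbDecomp4 (G := G) w (orbit G w) c₁ c₂ c₃ c₄)
    (hc : ([c₁, c₂, c₃, c₄] : List ℕ).Nodup)
    (hnum : ∀ I : Finset (Fin 4), (∃ i ∈ I, (![c₁, c₂, c₃, c₄] : Fin 4 → ℕ) i = 1) →
      (∑ i ∈ I, (![c₁, c₂, c₃, c₄] : Fin 4 → ℕ) i) ∣ (∑ i, (![c₁, c₂, c₃, c₄] : Fin 4 → ℕ) i) → I.card = 1 ∨ I = Finset.univ)
    (hne : 1 < c₁ + c₂ + c₃ + c₄) : IsCoatom (stabilizer G w) := by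
  obtain ⟨X₁, _, X₂, _, X₃, _, X₄, _, e1, e2, e3, e4, hA⟩ := h
  refine Coatom.isCoatom_stabilizer_of_orbits w ![X₁, X₂, X₃, X₄] ![c₁, c₂, c₃, c₄] ?_ ?_ ?_ hnum ?_
  · intro i
    fin_cases i <;> assumption
  · simp only [List.nodup_cons, List.mem_cons, List.not_mem_nil, or_false, not_or] at hc
    intro i j hij
    fin_cases i <;> fin_cases j <;> first | rfl | (exfalso; simp_all)
  · rw [hA]
    ext z
    simp only [Set.mem_union, Set.mem_iUnion, Fin.exists_fin_succ, Matrix.cons_val_zero, Matrix.cons_val_succ,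
      IsEmpty.exists_iff, or_false, or_assoc]
  · simp [Fin.sum_univ_succ]
    omega

/-- A decomposition of an invariant set into five orbits. -/
def OrbDecomp5 (w : W) (A : Set W) (c₁ c₂ c₃ c₄ c₅ : ℕ) : Prop :=
  ∃ X₁ ∈ A, ∃ X₂ ∈ A, ∃ X₃ ∈ A, ∃ X₄ ∈ A, ∃ X₅ ∈ A, (orbit ↥(stabilizer G w) X₁).ncard = c₁ ∧
    (orbit ↥(stabilizer G w) X₂).ncard = c₂ ∧
    (orbit ↥(stabilizer G w) X₃).ncard = c₃ ∧
    (orbit ↥(stabilizer G w) X₄).ncard = c₄ ∧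
    (orbit ↥(stabilizer G w) X₅).ncard = c₅ ∧
    A = orbit ↥(stabilizer G w) X₁ ∪ orbit ↥(stabilizer G w) X₂ ∪
      orbit ↥(stabilizer G w) X₃ ∪ orbit ↥(stabilizer G w) X₄ ∪ orbit ↥(stabilizer G w) X₅

theorem OrbDecomp5.smul {w : W} {A : Set W} {c₁ c₂ c₃ c₄ c₅ : ℕ} (h : OrbDecomp5 (G := G) w A c₁ c₂ c₃ c₄ c₅)
    (hA : ∀ (g : G), ∀ x ∈ A, g • x ∈ A) (g : G) : OrbDecomp5 (G := G) (g • w) A c₁ c₂ c₃ c₄ c₅ := by
  obtain ⟨X₁, h1, X₂, h2, X₃, h3, X₄, h4, X₅, h5, e1, e2, e3, e4, e5, hU⟩ := h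
  refine ⟨g • X₁, hA g _ h1, g • X₂, hA g _ h2, g • X₃, hA g _ h3, g • X₄, hA g _ h4, g • X₅, hA g _ h5,
    ?_, ?_, ?_, ?_, ?_, ?_⟩
  · rw [ncard_orbit_smul, e1]
  · rw [ncard_orbit_smul, e2]
  · rw [ncard_orbit_smul, e3]
  · rw [ncard_orbit_smul, e4]
  · rw [ncard_orbit_smul, e5]
  · rw [orbit_stabilizer_smul, orbit_stabilizer_smul, orbit_stabilizer_smul, orbit_stabilizer_smul,
      orbit_stabilizer_smul,
      ← Set.image_union, ← Set.image_union, ← Set.image_union, ← Set.image_union, ← hU,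
      image_smul_of_invariant hA]

theorem coatom_of_decomp5 [Finite G] {w : W} {c₁ c₂ c₃ c₄ c₅ : ℕ} (h : OrbDecomp5 (G := G) w (orbit G w) c₁ c₂ c₃ c₄ c₅)
    (hc : ([c₁, c₂, c₃, c₄, c₅] : List ℕ).Nodup)
    (hnum : ∀ I : Finset (Fin 5), (∃ i ∈ I, (![c₁, c₂, c₃, c₄, c₅] : Fin 5 → ℕ) i = 1) →
      (∑ i ∈ I, (![c₁, c₂, c₃, c₄, c₅] : Fin 5 → ℕ) i) ∣ (∑ i, (![c₁, c₂, c₃, c₄, c₅] : Fin 5 → ℕ) i) →
        I.card = 1 ∨ I = Finset.univ)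
    (hne : 1 < c₁ + c₂ + c₃ + c₄ + c₅) : IsCoatom (stabilizer G w) := by
  obtain ⟨X₁, _, X₂, _, X₃, _, X₄, _, X₅, _, e1, e2, e3, e4, e5, hA⟩ := h
  refine Coatom.isCoatom_stabilizer_of_orbits w ![X₁, X₂, X₃, X₄, X₅] ![c₁, c₂, c₃, c₄, c₅] ?_ ?_ ?_ hnum ?_
  · intro i
    fin_cases i <;> assumption
  · simp only [List.nodup_cons, List.mem_cons, List.not_mem_nil, or_false, not_or] at hc
    intro i j hij
    fin_cases i <;> fin_cases j <;> first | rfl | (exfalso; simp_all)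
  · rw [hA]
    ext z
    simp only [Set.mem_union, Set.mem_iUnion, Fin.exists_fin_succ, Matrix.cons_val_zero, Matrix.cons_val_succ,
      IsEmpty.exists_iff, or_false, or_assoc]
  · simp [Fin.sum_univ_succ]
    omega

theorem ne_of_orbit_ne_one {w : W} {X : W} {c : ℕ} (e : (orbit ↥(stabilizer G w) X).ncard = c) (hc : c ≠ 1) :
    w ∉ orbit ↥(stabilizer G w) X := by
  intro h
  rw [orbit_of_self_mem w h, Set.ncard_singleton] at e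
  exact hc e.symm

/-- Separating off the orbit of the base point. -/
theorem OrbDecomp4.single {w : W} {A : Set W} {c₂ c₃ c₄ : ℕ} (h : OrbDecomp4 (G := G) w A 1 c₂ c₃ c₄) (hw : w ∈ A)
    (h2 : c₂ ≠ 1) (h3 : c₃ ≠ 1) (h4 : c₄ ≠ 1) :
    ∃ X₂ ∈ A, ∃ X₃ ∈ A, ∃ X₄ ∈ A, (orbit ↥(stabilizer G w) X₂).ncard = c₂ ∧
      (orbit ↥(stabilizer G w) X₃).ncard = c₃ ∧ (orbit ↥(stabilizer G w) X₄).ncard = c₄ ∧
      A = {w} ∪ orbit ↥(stabilizer G w) X₂ ∪ orbit ↥(stabilizer G w) X₃ ∪ orbit ↥(stabilizer G w) X₄ := by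
  obtain ⟨X₁, _, X₂, m2, X₃, m3, X₄, m4, _, e2, e3, e4, hU⟩ := h
  refine ⟨X₂, m2, X₃, m3, X₄, m4, e2, e3, e4, ?_⟩
  have hw' := hw
  rw [hU] at hw'
  simp only [Set.mem_union] at hw'
  have hn2 := ne_of_orbit_ne_one e2 h2
  have hn3 := ne_of_orbit_ne_one e3 h3
  have hn4 := ne_of_orbit_ne_one e4 h4
  have h1 : w ∈ orbit ↥(stabilizer G w) X₁ := by tauto
  rw [← orbit_of_self_mem w h1]
  exact hU

/-- Separating off the orbit of the base point. -/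
theorem OrbDecomp5.single {w : W} {A : Set W} {c₂ c₃ c₄ c₅ : ℕ} (h : OrbDecomp5 (G := G) w A 1 c₂ c₃ c₄ c₅) (hw : w ∈ A)
    (h2 : c₂ ≠ 1) (h3 : c₃ ≠ 1) (h4 : c₄ ≠ 1) (h5 : c₅ ≠ 1) :
    ∃ X₂ ∈ A, ∃ X₃ ∈ A, ∃ X₄ ∈ A, ∃ X₅ ∈ A, (orbit ↥(stabilizer G w) X₂).ncard = c₂ ∧
      (orbit ↥(stabilizer G w) X₃).ncard = c₃ ∧ (orbit ↥(stabilizer G w) X₄).ncard = c₄ ∧
      (orbit ↥(stabilizer G w) X₅).ncard = c₅ ∧
      A = {w} ∪ orbit ↥(stabilizer G w) X₂ ∪ orbit ↥(stabilizer G w) X₃ ∪ orbit ↥(stabilizer G w) X₄ ∪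
        orbit ↥(stabilizer G w) X₅ := by
  obtain ⟨X₁, _, X₂, m2, X₃, m3, X₄, m4, X₅, m5, _, e2, e3, e4, e5, hU⟩ := h
  refine ⟨X₂, m2, X₃, m3, X₄, m4, X₅, m5, e2, e3, e4, e5, ?_⟩
  have hw' := hw
  rw [hU] at hw'
  simp only [Set.mem_union] at hw'
  have hn2 := ne_of_orbit_ne_one e2 h2
  have hn3 := ne_of_orbit_ne_one e3 h3
  have hn4 := ne_of_orbit_ne_one e4 h4
  have hn5 := ne_of_orbit_ne_one e5 h5
  have h1 : w ∈ orbit ↥(stabilizer G w) X₁ := by tauto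
  rw [← orbit_of_self_mem w h1]
  exact hU

end general

section cert

variable {W Z : Type*} [MulAction ↥M24 W] [MulAction ↥M24 Z]

theorem cert5 {A : Set W} {zt : ℕ → W} {K : ℕ} {Ψ : W → Finset (Finset GolayPt)} {T : ℕ → ℕ → ℕ} {n : ℕ}
    {x₀ : W} {Φ : W → Finset (Finset GolayPt)} {T₀ : ℕ → ℕ} {n₀ : ℕ}
    (ht : ZTable A zt K Ψ T n) (hb : WBase x₀ Φ T₀ n₀) {gens : List ℕ} {r₁ r₂ r₃ r₄ r₅ : ℕ} {par gen dist : ℕ → ℕ}
    (hgens : ∀ p ∈ gens, ∃ hv : vld p = true, gOf hv • x₀ = x₀)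
    (h : descChk gens K (fun f k k' => famEq f (T k) (T k') n) [r₁, r₂, r₃, r₄, r₅] par gen dist = true)
    (h1 : r₁ < K) (h2 : r₂ < K) (h3 : r₃ < K) (h4 : r₄ < K) (h5 : r₅ < K)
    (hd : (List.map (tblInv T₀ n₀ T n) [r₁, r₂, r₃, r₄, r₅]).Nodup)
    {c₁ c₂ c₃ c₄ c₅ : ℕ}
    (e1 : countBelow (fun k => Nat.beq (tblInv T₀ n₀ T n k) (tblInv T₀ n₀ T n r₁)) K = c₁)
    (e2 : countBelow (fun k => Nat.beq (tblInv T₀ n₀ T n k) (tblInv T₀ n₀ T n r₂)) K = c₂)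
    (e3 : countBelow (fun k => Nat.beq (tblInv T₀ n₀ T n k) (tblInv T₀ n₀ T n r₃)) K = c₃)
    (e4 : countBelow (fun k => Nat.beq (tblInv T₀ n₀ T n k) (tblInv T₀ n₀ T n r₄)) K = c₄)
    (e5 : countBelow (fun k => Nat.beq (tblInv T₀ n₀ T n k) (tblInv T₀ n₀ T n r₅)) K = c₅) :
    OrbDecomp5 (G := ↥M24) x₀ A c₁ c₂ c₃ c₄ c₅ := by
  have hr : ∀ r ∈ [r₁, r₂, r₃, r₄, r₅], r < K := by
    intro r hr
    simp only [List.mem_cons, List.not_mem_nil, or_false] at hr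
    rcases hr with rfl | rfl | rfl | rfl | rfl <;> assumption
  have hdist : ∀ r ∈ [r₁, r₂, r₃, r₄, r₅], ∀ r' ∈ [r₁, r₂, r₃, r₄, r₅], tblInv T₀ n₀ T n r = tblInv T₀ n₀ T n r' → r = r' :=
    fun r hr r' hr' he => (List.inj_on_of_nodup_map hd) hr hr' he
  obtain ⟨hc, hu⟩ := cert_main ht hb hgens h hr hdist
  have hin : ∀ r ∈ [r₁, r₂, r₃, r₄, r₅], zt r ∈ A := fun r hrr => (ht.mem_iff _).2 ⟨r, hr r hrr, rfl⟩
  refine ⟨zt r₁, hin _ (by simp), zt r₂, hin _ (by simp), zt r₃, hin _ (by simp), zt r₄, hin _ (by simp),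
    zt r₅, hin _ (by simp), ?_, ?_, ?_, ?_, ?_, ?_⟩
  · rw [hc _ (by simp), e1]
  · rw [hc _ (by simp), e2]
  · rw [hc _ (by simp), e3]
  · rw [hc _ (by simp), e4]
  · rw [hc _ (by simp), e5]
  · ext y
    rw [hu y]
    simp only [List.mem_cons, List.not_mem_nil, or_false, exists_eq_or_imp, exists_eq_left, Set.mem_union, or_assoc]

end cert

end Cfsg.Agent.Lib.M24
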