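import Cfsg.Agent.Lib.M24.OrbCerts
import Cfsg.Agent.Lib.M24.Coatom2
import Cfsg.Agent.Lib.M24.DdData
import Cfsg.Agent.Lib.Golay.Dodecad

/-!
# Dodecads: a table, intersection numbers, orbits of a dodecad stabiliser
-/

set_option autoImplicit false
set_option linter.constructorNameAsVariable false

namespace Cfsg.Agent.Lib.M24

open Cfsg Cfsg.Agent.Lib.Compute Cfsg.Agent.Lib.Golay
open scoped Pointwise

/-- Dodecad number `k`. -/
noncomputable def zdT (k : ℕ) : ℕ := pget 24 16777215 zdData k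

theorem zdT_lt (k : ℕ) : zdT k < 2 ^ 24 := by
  have h : zdT k = Nat.shiftRight zdData (Nat.mul 24 k) &&& (2 ^ 24 - 1) := rfl
  rw [h]
  exact Nat.and_lt_two_pow _ (by norm_num)

theorem zd_check : allBelow (fun k => inCode (zdT k) && Nat.beq (Enc.popAux (zdT k) 24) 12) 2576 = true := by
  decide +kernel

theorem zd_sorted : allBelow (fun k => Nat.blt (zdT k) (zdT (k + 1))) 2575 = true := by
  decide +kernel

theorem zd_lt_of_lt {a b : ℕ} (hab : a < b) (hb : b < 2576) : zdT a < zdT b := by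
  have step : ∀ k, k + 1 < 2576 → zdT k < zdT (k + 1) := fun k hk => by
    have := (allBelow_iff _ _).1 zd_sorted k (by omega)
    simpa [Nat.blt_eq] using this
  induction b, hab using Nat.le_induction with
  | base => exact step a hb
  | succ n hn ih => exact lt_trans (ih (by omega)) (step n hb)

theorem dodecad_of_mask {m : ℕ} (h : (inCode m && Nat.beq (Enc.popAux m 24) 12) = true) :
    enc.finOf m ∈ dodecads := by
  simp only [Bool.and_eq_true] at h
  obtain ⟨h1, h2⟩ := h
  have hm : word (Nat.mod m 4096) = m := Nat.eq_of_beq_eq_true h1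
  rw [mem_dodecads_iff]
  refine ⟨Nat.mod m 4096, Nat.mod_lt _ (by norm_num), ?_, ?_⟩
  · rw [hm]
    exact Nat.eq_of_beq_eq_true h2
  · rw [hm]

theorem zd_mem {k : ℕ} (hk : k < 2576) : enc.finOf (zdT k) ∈ dodecads :=
  dodecad_of_mask ((allBelow_iff _ _).1 zd_check k hk)

theorem zd_injOn {a b : ℕ} (ha : a < 2576) (hb : b < 2576) (h : (enc.finOf (zdT a) : Finset GolayPt) = enc.finOf (zdT b)) :
    a = b := by
  have h1 := enc.finOf_injOn (zdT_lt a) (zdT_lt b) h
  by_contra hne
  rcases Nat.lt_or_gt_of_ne hne with h2 | h2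
  · have := zd_lt_of_lt h2 hb
    omega
  · have := zd_lt_of_lt h2 ha
    omega

/-- The table of dodecads is complete. -/
theorem mem_dodecads_table {o : Finset GolayPt} : o ∈ dodecads ↔ ∃ k, k < 2576 ∧ o = enc.finOf (zdT k) := by
  classical
  have hset : (fun k => (enc.finOf (zdT k) : Finset GolayPt)) '' {k | k < 2576} = dodecads := by
    apply Set.eq_of_subset_of_ncard_le
    · rintro _ ⟨k, hk, rfl⟩
      exact zd_mem hk
    · rw [Set.InjOn.ncard_image, ncard_dodecads]
      · have : {k | k < 2576} = ((Finset.range 2576 : Finset ℕ) : Set ℕ) := by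
          ext k
          simp
        rw [this, Set.ncard_coe_finset, Finset.card_range]
      · intro a ha b hb h
        exact zd_injOn ha hb h
    · exact Set.toFinite _
  constructor
  · intro ho
    rw [← hset] at ho
    obtain ⟨k, hk, rfl⟩ := ho
    exact ⟨k, hk, rfl⟩
  · rintro ⟨k, hk, rfl⟩
    exact zd_mem hk

/-- The table of dodecads. -/
theorem zdTable : ZTable (Z := Finset GolayPt) dodecads (fun k => enc.finOf (zdT k)) 2576 (fun z => {z})
    (fun k _ => zdT k) 1 where
  mem_iff := by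
    intro y
    exact mem_dodecads_table
  inv_A := fun σ y hy => smul_mem_dodecads σ.2 hy
  inj := fun a b ha hb h => zd_injOn ha hb h
  Ψ_smul := fun σ z => by
    show ({σ.1 • z} : Finset (Finset GolayPt)) = σ.1 • {z}
    rw [Finset.smul_finset_singleton]
  Ψ_zt := fun k _ => by
    show _ = (Finset.range 1).image _
    simp
  card := fun k _ => by
    show ((Finset.range 1).image _).card = 1
    simp
  act := by
    intro σ f hf k k' _ h
    obtain ⟨j, hj, h2⟩ := (anyBelow_iff _ _).1 ((allBelow_iff _ _).1 h 0 (by norm_num))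
    show σ.1 • (enc.finOf (zdT k) : Finset GolayPt) = _
    rw [img_finOf hf, Nat.eq_of_beq_eq_true h2]

/-! ### The stabiliser of a dodecad -/

/-- The base dodecad. -/
abbrev Dz : ℕ := 28637

theorem Dz_mem : enc.finOf Dz ∈ dodecads := dodecad_of_mask (by decide +kernel)

theorem zdM_chk : descChk gM12 2576 (fun f k k' => famEq f (fun _ => zdT k) (fun _ => zdT k') 1) [0, 2575, 1, 117, 13]
    (pget 12 4095 zdPar) (pget 2 3 zdGen) (pget 4 15 zdDist) = true := by
  decide +kernel

theorem gM12_fix : gensFix gM12 (fun _ => Dz) 1 = true := by decide +kernel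

/-- The invariant of a dodecad relative to the base dodecad. -/
noncomputable abbrev dInv : ℕ → ℕ := tblInv (fun _ => Dz) 1 (fun k _ => zdT k) 1

theorem zdM_nodup : (List.map dInv [0, 2575, 1, 117, 13]).Nodup := by decide +kernel

theorem zdM_main :
    (∀ r ∈ [0, 2575, 1, 117, 13], (MulAction.orbit ↥(MulAction.stabilizer ↥M24 (enc.finOf Dz : Finset GolayPt))
        (enc.finOf (zdT r) : Finset GolayPt)).ncard = countBelow (fun k => Nat.beq (dInv k) (dInv r)) 2576) ∧
      (∀ y, y ∈ dodecads ↔ ∃ r ∈ [0, 2575, 1, 117, 13], y ∈ MulAction.orbit ↥(MulAction.stabilizer ↥M24 (enc.finOf Dz : Finset GolayPt))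
        (enc.finOf (zdT r) : Finset GolayPt)) := by
  refine cert_main zdTable (octBase Dz) (gens_of_fix (octBase Dz) Finset.singleton_injective gM12_fix) zdM_chk ?_ ?_
  · intro r hr
    simp only [List.mem_cons, List.not_mem_nil, or_false] at hr
    rcases hr with rfl | rfl | rfl | rfl | rfl <;> norm_num
  · exact fun r hr r' hr' he => (List.inj_on_of_nodup_map zdM_nodup) hr hr' he

/-- Normal form of a pair of dodecads. -/
theorem dodecad_pair_normal {o o' : Finset GolayPt} (ho : o ∈ dodecads) (ho' : o' ∈ dodecads) :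
    ∃ g : ↥M24, ∃ r ∈ [0, 2575, 1, 117, 13], g • o = enc.finOf Dz ∧ g • o' = enc.finOf (zdT r) := by
  obtain ⟨g₁, hg₁⟩ := dodecads_transitive ho Dz_mem
  have h1 : g₁ • o' ∈ dodecads := smul_mem_dodecads g₁.2 ho'
  obtain ⟨r, hr, σ, hσ⟩ := (zdM_main.2 _).1 h1
  refine ⟨(σ : ↥M24)⁻¹ * g₁, r, hr, ?_, ?_⟩
  · rw [mul_smul, hg₁]
    have : (σ : ↥M24) • (enc.finOf Dz : Finset GolayPt) = enc.finOf Dz := σ.2
    exact inv_smul_eq_iff.2 this.symm
  · rw [mul_smul, ← hσ]
    exact inv_smul_smul (σ : ↥M24) _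

theorem card_inter_smul' (g : ↥M24) (o o' : Finset GolayPt) : (g • o ∩ g • o').card = (o ∩ o').card := by
  show (g.1 • o ∩ g.1 • o').card = _
  rw [← Finset.smul_finset_inter, Finset.card_smul_finset]

theorem card_inter_finOf' (a b : ℕ) : ((enc.finOf a : Finset GolayPt) ∩ enc.finOf b).card = Enc.popAux (Nat.land a b) 24 := by
  rw [show (enc.finOf a ∩ enc.finOf b : Finset GolayPt) = enc.finOf (Nat.land a b) from (enc.finOf_and _ _).symm,
    card_enc_finOf]

/-- Two dodecads meeting a fixed dodecad in equally many points are in the same orbit of its stabiliser. -/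
theorem dodecad_orbit_of_card {d d' d'' : Finset GolayPt} (hd : d ∈ dodecads) (hd' : d' ∈ dodecads) (hd'' : d'' ∈ dodecads)
    (h : (d ∩ d').card = (d ∩ d'').card) : ∃ g : ↥M24, g • d = d ∧ g • d' = d'' := by
  obtain ⟨g, r, hr, h1, h2⟩ := dodecad_pair_normal hd hd'
  obtain ⟨g', r', hr', h1', h2'⟩ := dodecad_pair_normal hd hd''
  have hc : (d ∩ d').card = Enc.popAux (Nat.land Dz (zdT r)) 24 := by
    rw [← card_inter_smul' g, h1, h2, card_inter_finOf']
  have hc' : (d ∩ d'').card = Enc.popAux (Nat.land Dz (zdT r')) 24 := by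
    rw [← card_inter_smul' g', h1', h2', card_inter_finOf']
  rw [hc, hc'] at h
  have hrr : r = r' := by
    have key : ∀ a ∈ [0, 2575, 1, 117, 13], ∀ b ∈ [0, 2575, 1, 117, 13], Enc.popAux (Nat.land Dz (zdT a)) 24 = Enc.popAux (Nat.land Dz (zdT b)) 24 → a = b := by
      decide +kernel
    exact key r hr r' hr' h
  subst hrr
  refine ⟨g'⁻¹ * g, ?_, ?_⟩
  · rw [mul_smul, h1, ← h1', inv_smul_smul]
  · rw [mul_smul, h2, ← h2', inv_smul_smul]

theorem zd_vals : allBelow (fun k => Nat.beq (Enc.popAux (Nat.land Dz (zdT k)) 24) 0 || Nat.beq (Enc.popAux (Nat.land Dz (zdT k)) 24) 4 ||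
    Nat.beq (Enc.popAux (Nat.land Dz (zdT k)) 24) 6 || Nat.beq (Enc.popAux (Nat.land Dz (zdT k)) 24) 8 ||
    Nat.beq (Enc.popAux (Nat.land Dz (zdT k)) 24) 12) 2576 = true := by
  decide +kernel

theorem zd_count4 : countBelow (fun k => Nat.beq (Enc.popAux (Nat.land Dz (zdT k)) 24) 4) 2576 = 495 := by decide +kernel
theorem zd_count6 : countBelow (fun k => Nat.beq (Enc.popAux (Nat.land Dz (zdT k)) 24) 6) 2576 = 1584 := by decide +kernel
theorem zd_count8 : countBelow (fun k => Nat.beq (Enc.popAux (Nat.land Dz (zdT k)) 24) 8) 2576 = 495 := by decide +kernel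

theorem zd_ncard_base (c : ℕ) : {d' | d' ∈ dodecads ∧ ((enc.finOf Dz : Finset GolayPt) ∩ d').card = c}.ncard =
    countBelow (fun k => Nat.beq (Enc.popAux (Nat.land Dz (zdT k)) 24) c) 2576 := by
  apply ncard_table (fun _ => mem_dodecads_table) (fun _ _ ha hb h => zd_injOn ha hb h)
  intro k _
  rw [card_inter_finOf']
  constructor
  · intro h
    rw [h]
    exact Nat.beq_refl c
  · exact Nat.eq_of_beq_eq_true

theorem zd_ncard_smul (g : ↥M24) (c : ℕ) : {d' | d' ∈ dodecads ∧ ((g • enc.finOf Dz : Finset GolayPt) ∩ d').card = c}.ncard =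
    {d' | d' ∈ dodecads ∧ ((enc.finOf Dz : Finset GolayPt) ∩ d').card = c}.ncard := by
  have h : {d' | d' ∈ dodecads ∧ ((g • enc.finOf Dz : Finset GolayPt) ∩ d').card = c} =
      (fun y => g • y) '' {d' | d' ∈ dodecads ∧ ((enc.finOf Dz : Finset GolayPt) ∩ d').card = c} := by
    ext y
    constructor
    · rintro ⟨h1, h2⟩
      refine ⟨g⁻¹ • y, ⟨smul_mem_dodecads (g⁻¹).2 h1, ?_⟩, smul_inv_smul g y⟩
      rw [← card_inter_smul' g, smul_inv_smul]
      exact h2
    · rintro ⟨z, ⟨h1, h2⟩, rfl⟩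
      refine ⟨smul_mem_dodecads g.2 h1, ?_⟩
      rw [card_inter_smul', h2]
  rw [h, Set.ncard_image_of_injective _ (MulAction.injective g)]

/-- Intersection numbers of dodecads. -/
theorem dodecad_intersections {d : Finset GolayPt} (hd : d ∈ dodecads) :
    (∀ d' ∈ dodecads, d' ≠ d → (d ∩ d').card = 0 ∨ (d ∩ d').card = 4 ∨ (d ∩ d').card = 6 ∨ (d ∩ d').card = 8) ∧
      {d' : Finset GolayPt | d' ∈ dodecads ∧ (d ∩ d').card = 4}.ncard = 495 ∧
      {d' : Finset GolayPt | d' ∈ dodecads ∧ (d ∩ d').card = 6}.ncard = 1584 ∧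
      {d' : Finset GolayPt | d' ∈ dodecads ∧ (d ∩ d').card = 8}.ncard = 495 := by
  obtain ⟨g, rfl⟩ := dodecads_transitive Dz_mem hd
  refine ⟨fun d' hd' hne => ?_, ?_, ?_, ?_⟩
  · have h1 : g⁻¹ • d' ∈ dodecads := smul_mem_dodecads (g⁻¹).2 hd'
    obtain ⟨k, hk, hke⟩ := mem_dodecads_table.1 h1
    have h2 : (g • enc.finOf Dz ∩ d' : Finset GolayPt).card = Enc.popAux (Nat.land Dz (zdT k)) 24 := by
      rw [← card_inter_finOf', ← hke]
      have h20 := card_inter_smul' g (enc.finOf Dz) (g⁻¹ • d')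
      rw [smul_inv_smul] at h20
      exact h20
    rw [h2]
    have h3 := (allBelow_iff _ _).1 zd_vals k hk
    simp only [Bool.or_eq_true] at h3
    rcases h3 with ((((h3 | h3) | h3) | h3) | h3)
    · exact Or.inl (Nat.eq_of_beq_eq_true h3)
    · exact Or.inr (Or.inl (Nat.eq_of_beq_eq_true h3))
    · exact Or.inr (Or.inr (Or.inl (Nat.eq_of_beq_eq_true h3)))
    · exact Or.inr (Or.inr (Or.inr (Nat.eq_of_beq_eq_true h3)))
    · exfalso
      have h3 := Nat.eq_of_beq_eq_true h3
      apply hne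
      have hD : (enc.finOf Dz : Finset GolayPt).card = 12 := Dz_mem.2
      have hD' : (enc.finOf (zdT k) : Finset GolayPt).card = 12 := (zd_mem hk).2
      have h4 : ((enc.finOf Dz : Finset GolayPt) ∩ enc.finOf (zdT k)).card = 12 := by rw [card_inter_finOf', h3]
      have h5 : (enc.finOf Dz : Finset GolayPt) ∩ enc.finOf (zdT k) = enc.finOf Dz :=
        Finset.eq_of_subset_of_card_le Finset.inter_subset_left (by rw [hD, h4])
      have h6 : (enc.finOf Dz : Finset GolayPt) ∩ enc.finOf (zdT k) = enc.finOf (zdT k) :=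
        Finset.eq_of_subset_of_card_le Finset.inter_subset_right (by rw [hD', h4])
      have h7 : d' = g • (g⁻¹ • d') := (smul_inv_smul g d').symm
      rw [h7, hke, ← h6, h5]
  · rw [zd_ncard_smul, zd_ncard_base, zd_count4]
  · rw [zd_ncard_smul, zd_ncard_base, zd_count6]
  · rw [zd_ncard_smul, zd_ncard_base, zd_count8]

end Cfsg.Agent.Lib.M24
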