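import Mathlib

/-!
# Descent tables for the action of the stabiliser of an octad on octads
-/

namespace Cfsg.Agent.Lib.M24

/-- Descent tables. -/
def oOctPar : ℕ := 4761644672413062085277581306381153052515207510104692374498178793663641351607408650934902508330161383177029283913236816689473457902288968685287870304271840070073096496599202940155905855464849052785013461752900541502295224324762560666466807488070088197438941471145550048149876020451214889218019455241194004191698103364043830289300616113182432535501002172890731446503320248049055708359532116896884479652006312594441519144654190382220808332783330867222345205550739044471485497653621162305828304281599419723664055855672396446161383275304363587983034525425400876927418928093291929082152472488362032451583348460240780120576996612293066036709532734992070049030104067507423583772646305764640878772767656643038533902065560286144329816849997605595738980220714276361324131139222880463900075772208450565001958356053781092249339397515904052949817630513808216359485473523427721107795385308806992213421398808117552122755328565468143076267758415194108460873093434495874456655888713252382120811228541762510544305453655893719450971856372047715469202240831342658499062944357962095881970199262182711501930639226903040513859198517408687990762229820266924302746717439460021336550542497360590769269170752737739092203680996655286993264268668197950392756740021844606669077793950177074194508857803680782290923994622779179551511368133025354734699950658289602382468796416573109309407736195224993317500035667679545139595732667942060768559934591192632861428009252466707788585516003477968000797756468649783744351513298570791791433748366027949805281825905833844317332517192187729170326162695710271161683305176889601935893245347329551105041066911503858944083782574917871817572658613786980329163435076008152627005709763194239254449148060613116127218173087629737059605723120596582275724659256369408956273075108336081760993875209642614407639047259647969965639908712287250530701401507123101168746773253950510641232245225543739364390476308480680143821699867659734552963335824674172552550249604266391388891018248863188731143791930778828043814945045441941283550177293263301022923577377629855415721615891771688067816739982611426552821027464918902139952504077657889993099595347457163391133479729040852957529047065811976881682698115598699976653148070458802927232355708052427368097186607385993096278599013329842535400681620871168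
/-- Descent tables. -/
def oOctGen : ℕ := 1099505557958310732472221022710474328861816814286057404522541135383833907727722819014146691011808342303610437954158659860299031989605298768385147053306426205833805074029393680920240679662686012088843871128614736163333338060308059658532787235953861463880440044646327390061964518113852444975645232701717360970788362436864407411262645066047278014066459831367759245365327980971413793731161098858773743543758247758078152755351614950067491749355139580572062661568
/-- Descent tables. -/
def oOctDist : ℕ := 9009216051621362871796697824310583049345577790869506062136848618701786047940357083372294068549768198524968920128020499088024091348007672875889689898867354004780985424044506995767626630912490668356780364419318061263122907404949050193558743027450724425909679483653999592369644984513581342914859479898641169542296333200179378634086132332984674661181605803766364713153210694331067995714539408076297277916371285247024450749024742245449779413291336622406723974150740473844193870515331967079769830682208024003871114455955459380863269916608836457246446774612407449034941695853309008724330794918659998941738368307396232511773830853026130024035194289236494754697868818037154329075465120241539624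

end Cfsg.Agent.Lib.M24
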