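import Cfsg.Agent.Lib.M24.OrbCerts
import Cfsg.Agent.Lib.M24.OctOctData

/-!
# Pairs of octads: the normal form, joint stabilisers
-/

set_option autoImplicit false
set_option linter.constructorNameAsVariable false

namespace Cfsg.Agent.Lib.M24

open Cfsg Cfsg.Agent.Lib.Compute Cfsg.Agent.Lib.Golay
open scoped Pointwise

theorem oOct_chk : descChk gO 759 (fun f k k' => famEq f (fun _ => ocT k) (fun _ => ocT k') 1) [528, 58, 0, 2]
    (pget 10 1023 oOctPar) (pget 2 3 oOctGen) (pget 3 7 oOctDist) = true := by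
  decide +kernel

/-- The invariant of an octad relative to the base octad. -/
noncomputable abbrev oInv : ℕ → ℕ := tblInv (fun _ => O0) 1 (fun k _ => ocT k) 1

theorem oOct_nodup : (List.map oInv [528, 58, 0, 2]).Nodup := by decide +kernel

theorem oOct_count1 : countBelow (fun k => Nat.beq (oInv k) (oInv 528)) 759 = 1 := by decide +kernel
theorem oOct_count2 : countBelow (fun k => Nat.beq (oInv k) (oInv 58)) 759 = 30 := by decide +kernel
theorem oOct_count3 : countBelow (fun k => Nat.beq (oInv k) (oInv 0)) 759 = 280 := by decide +kernel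
theorem oOct_count4 : countBelow (fun k => Nat.beq (oInv k) (oInv 2)) 759 = 448 := by decide +kernel

theorem oOct_main :
    (∀ r ∈ [528, 58, 0, 2], (MulAction.orbit ↥(MulAction.stabilizer ↥M24 (enc.finOf O0 : Finset GolayPt))
        (enc.finOf (ocT r) : Finset GolayPt)).ncard = countBelow (fun k => Nat.beq (oInv k) (oInv r)) 759) ∧
      (∀ y, y ∈ octads ↔ ∃ r ∈ [528, 58, 0, 2], y ∈ MulAction.orbit ↥(MulAction.stabilizer ↥M24 (enc.finOf O0 : Finset GolayPt))
        (enc.finOf (ocT r) : Finset GolayPt)) := by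
  refine cert_main octTable (octBase O0) (gens_of_fix (octBase O0) Finset.singleton_injective oTri_fix) oOct_chk ?_ ?_
  · intro r hr
    simp only [List.mem_cons, List.not_mem_nil, or_false] at hr
    rcases hr with rfl | rfl | rfl | rfl <;> norm_num
  · exact fun r hr r' hr' he => (List.inj_on_of_nodup_map oOct_nodup) hr hr' he

/-- Normal form of a pair of octads. -/
theorem octad_pair_normal {o o' : Finset GolayPt} (ho : o ∈ octads) (ho' : o' ∈ octads) :
    ∃ g : ↥M24, ∃ r ∈ [528, 58, 0, 2], g • o = enc.finOf O0 ∧ g • o' = enc.finOf (ocT r) := by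
  obtain ⟨g₁, hg₁⟩ := octads_transitive ho O0_octad
  have h1 : g₁ • o' ∈ octads := smul_mem_octads g₁.2 ho'
  obtain ⟨r, hr, σ, hσ⟩ := (oOct_main.2 _).1 h1
  refine ⟨(σ : ↥M24)⁻¹ * g₁, r, hr, ?_, ?_⟩
  · rw [mul_smul, hg₁]
    have : (σ : ↥M24) • (enc.finOf O0 : Finset GolayPt) = enc.finOf O0 := σ.2
    exact inv_smul_eq_iff.2 this.symm
  · rw [mul_smul, ← hσ]
    exact inv_smul_smul (σ : ↥M24) _

theorem card_inter_smul (g : ↥M24) (o o' : Finset GolayPt) : (g • o ∩ g • o').card = (o ∩ o').card := by
  show (g.1 • o ∩ g.1 • o').card = _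
  rw [← Finset.smul_finset_inter, Finset.card_smul_finset]

theorem card_inter_finOf (a b : ℕ) : ((enc.finOf a : Finset GolayPt) ∩ enc.finOf b).card = Enc.popAux (Nat.land a b) 24 := by
  rw [show (enc.finOf a ∩ enc.finOf b : Finset GolayPt) = enc.finOf (Nat.land a b) from (enc.finOf_and _ _).symm,
    card_enc_finOf]

/-- The stabiliser of an octad. -/
theorem card_stabilizer_octad {o : Finset GolayPt} (ho : o ∈ octads) :
    Nat.card (MulAction.stabilizer ↥M24 o) = 322560 := by
  apply card_stabilizer_of_orbit o 759 _ (by norm_num) _ (by norm_num)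
  have : MulAction.orbit ↥M24 o = octads := by
    ext y
    constructor
    · rintro ⟨g, rfl⟩
      exact smul_mem_octads g.2 ho
    · intro hy
      obtain ⟨g, hg⟩ := octads_transitive ho hy
      exact ⟨g, hg⟩
  rw [this, ncard_octads]

section general

variable {G W Z : Type*} [Group G] [MulAction G W] [MulAction G Z]

theorem card_inf_stabilizer (x : W) (y : Z) :
    Nat.card ↥(MulAction.stabilizer G x ⊓ MulAction.stabilizer G y) *
      (MulAction.orbit ↥(MulAction.stabilizer G x) y).ncard = Nat.card ↥(MulAction.stabilizer G x) := by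
  have h1 := Subgroup.card_mul_index (MulAction.stabilizer ↥(MulAction.stabilizer G x) y)
  rw [MulAction.index_stabilizer] at h1
  rw [← h1]
  congr 1
  apply Nat.card_congr
  exact
    { toFun := fun s => ⟨⟨s.1, s.2.1⟩, s.2.2⟩
      invFun := fun s => ⟨s.1.1, s.1.2, s.2⟩
      left_inv := fun s => rfl
      right_inv := fun s => rfl }

theorem card_inf_stabilizer_smul (g : G) (x : W) (y : Z) :
    Nat.card ↥(MulAction.stabilizer G (g • x) ⊓ MulAction.stabilizer G (g • y)) =
      Nat.card ↥(MulAction.stabilizer G x ⊓ MulAction.stabilizer G y) := by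
  apply Nat.card_congr
  refine
    { toFun := fun s => ⟨g⁻¹ * s.1 * g, ?_, ?_⟩
      invFun := fun s => ⟨g * s.1 * g⁻¹, ?_, ?_⟩
      left_inv := fun s => ?_
      right_inv := fun s => ?_ }
  · have h : s.1 • g • x = g • x := s.2.1
    show (g⁻¹ * s.1 * g) • x = x
    rw [mul_smul, mul_smul, h, inv_smul_smul]
  · have h : s.1 • g • y = g • y := s.2.2
    show (g⁻¹ * s.1 * g) • y = y
    rw [mul_smul, mul_smul, h, inv_smul_smul]
  · have h : s.1 • x = x := s.2.1
    show (g * s.1 * g⁻¹) • g • x = g • x
    rw [mul_smul, mul_smul, inv_smul_smul, h]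
  · have h : s.1 • y = y := s.2.2
    show (g * s.1 * g⁻¹) • g • y = g • y
    rw [mul_smul, mul_smul, inv_smul_smul, h]
  · ext
    show g * (g⁻¹ * s.1 * g) * g⁻¹ = s.1
    group
  · ext
    show g⁻¹ * (g * s.1 * g⁻¹) * g = s.1
    group

end general

/-- Joint stabilisers of pairs of distinct octads. -/
theorem octad_joint {o o' : Finset GolayPt} (ho : o ∈ octads) (ho' : o' ∈ octads) :
    Nat.card ↥(MulAction.stabilizer ↥M24 o ⊓ MulAction.stabilizer ↥M24 o') =
      if (o ∩ o').card = 8 then 322560 else if (o ∩ o').card = 0 then 10752 else if (o ∩ o').card = 4 then 1152 else 720 := by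
  obtain ⟨g, r, hr, h1, h2⟩ := octad_pair_normal ho ho'
  have hc : (o ∩ o').card = Enc.popAux (Nat.land O0 (ocT r)) 24 := by
    rw [← card_inter_smul g, h1, h2, card_inter_finOf]
  rw [hc, ← card_inf_stabilizer_smul g o o', h1, h2]
  have key := card_inf_stabilizer (G := ↥M24) (enc.finOf O0 : Finset GolayPt) (enc.finOf (ocT r) : Finset GolayPt)
  rw [card_stabilizer_octad O0_octad, oOct_main.1 r hr] at key
  simp only [List.mem_cons, List.not_mem_nil, or_false] at hr
  rcases hr with rfl | rfl | rfl | rfl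
  · rw [oOct_count1] at key
    have hv : Enc.popAux (Nat.land O0 (ocT 528)) 24 = 8 := by decide +kernel
    rw [hv, if_pos rfl]
    omega
  · rw [oOct_count2] at key
    have hv : Enc.popAux (Nat.land O0 (ocT 58)) 24 = 0 := by decide +kernel
    rw [hv, if_neg (by norm_num), if_pos rfl]
    omega
  · rw [oOct_count3] at key
    have hv : Enc.popAux (Nat.land O0 (ocT 0)) 24 = 4 := by decide +kernel
    rw [hv, if_neg (by norm_num), if_neg (by norm_num), if_pos rfl]
    exact Nat.eq_of_mul_eq_mul_right (m := 280) (by norm_num) (key.trans (show (322560 : ℕ) = 1152 * 280 by norm_num))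
  · rw [oOct_count4] at key
    have hv : Enc.popAux (Nat.land O0 (ocT 2)) 24 = 2 := by decide +kernel
    rw [hv, if_neg (by norm_num), if_neg (by norm_num), if_neg (by norm_num)]
    exact Nat.eq_of_mul_eq_mul_right (m := 448) (by norm_num) (key.trans (show (322560 : ℕ) = 720 * 448 by norm_num))

end Cfsg.Agent.Lib.M24
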