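import Cfsg.Agent.Lib.M24.Sets
import Cfsg.Agent.Lib.M24.Dd
import Cfsg.Agent.Lib.M24.OctOct

/-!
# Orbits of point-and-set stabilisers of `M24` on tables of masks

`fixSub L Ms` is the subgroup of `M24` fixing the numbered points in `L` and the sets with masks in `Ms`.
A descent certificate over a complete table of masks, plus an invariant separating the roots, gives
transitivity on the classes of the invariant.
-/

set_option autoImplicit false
set_option linter.constructorNameAsVariable false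

namespace Cfsg.Agent.Lib.M24

open Cfsg Cfsg.Agent.Lib.Compute Cfsg.Agent.Lib.Golay
open scoped Pointwise

/-- The subgroup of `M24` fixing the listed points and the listed sets. -/
def fixSub (L Ms : List ℕ) : Subgroup ↥M24 where
  carrier := {σ | (∀ i ∈ L, σ.1 (pt i) = pt i) ∧ ∀ m ∈ Ms, σ.1 • (enc.finOf m : Finset GolayPt) = enc.finOf m}
  mul_mem' := by
    rintro a b ⟨ha, ha'⟩ ⟨hb, hb'⟩
    refine ⟨fun i hi => ?_, fun m hm => ?_⟩
    · show a.1 (b.1 (pt i)) = pt i
      rw [hb i hi, ha i hi]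
    · show (a.1 * b.1) • _ = _
      rw [mul_smul, hb' m hm, ha' m hm]
  one_mem' := by
    refine ⟨fun i _ => rfl, fun m _ => ?_⟩
    show (1 : Equiv.Perm GolayPt) • _ = _
    rw [one_smul]
  inv_mem' := by
    rintro a ⟨ha, ha'⟩
    refine ⟨fun i hi => ?_, fun m hm => ?_⟩
    · show a.1⁻¹ (pt i) = pt i
      rw [Equiv.Perm.inv_eq_iff_eq]
      exact (ha i hi).symm
    · show a.1⁻¹ • _ = _
      rw [inv_smul_eq_iff]
      exact (ha' m hm).symm

theorem mem_fixSub {L Ms : List ℕ} {σ : ↥M24} : σ ∈ fixSub L Ms ↔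
    (∀ i ∈ L, σ.1 (pt i) = pt i) ∧ ∀ m ∈ Ms, σ.1 • (enc.finOf m : Finset GolayPt) = enc.finOf m := Iff.rfl

/-- The check that packed elements lie in `M24` and fix the listed points and sets. -/
noncomputable def gensOK (gens L Ms : List ℕ) : Bool :=
  gens.all fun p => vld p && L.all (fun i => Nat.beq (pc p i) i) &&
    Ms.all (fun m => Nat.beq (imgMask (pc p) m 24) m)

theorem gensOK_spec {gens L Ms : List ℕ} (h : gensOK gens L Ms = true) (hL : ∀ i ∈ L, i < 24) :
    ∀ p ∈ gens, ∃ hv : vld p = true, gOf hv ∈ fixSub L Ms := by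
  intro p hp
  have h1 := List.all_eq_true.1 h p hp
  simp only [Bool.and_eq_true] at h1
  obtain ⟨⟨hv, h2⟩, h3⟩ := h1
  refine ⟨hv, fun i hi => ?_, fun m hm => ?_⟩
  · show ppm p (pt i) = pt i
    rw [code_pt (vld_code hv) (hL i hi), Nat.eq_of_beq_eq_true (List.all_eq_true.1 h2 i hi)]
  · show ppm p • _ = _
    rw [img_finOf (vld_code hv), Nat.eq_of_beq_eq_true (List.all_eq_true.1 h3 m hm)]

section desc

variable {Z : Type*} [MulAction ↥M24 Z]

/-- Descent into the orbit of a root, inside a subgroup. -/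
theorem desc_sub {S : Subgroup ↥M24} {zt : ℕ → Z} {K : ℕ} {act : (ℕ → ℕ) → ℕ → ℕ → Bool}
    (hact : ∀ (σ : ↥M24) (f : ℕ → ℕ), enc.IsCode σ.1 f → ∀ k k', k < K → act f k k' = true → σ • zt k = zt k')
    {gens : List ℕ} (hgens : ∀ p ∈ gens, ∃ hv : vld p = true, gOf hv ∈ S) {roots : List ℕ}
    {par gen dist : ℕ → ℕ} (h : descChk gens K act roots par gen dist = true) :
    ∀ k, k < K → ∃ r ∈ roots, ∃ σ ∈ S, σ • zt k = zt r := by
  have main : ∀ n k, dist k < n → k < K → ∃ r ∈ roots, ∃ σ ∈ S, σ • zt k = zt r := by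
    intro n
    induction n with
    | zero => intro k hk; omega
    | succ n ih =>
      intro k hd hk
      have h1 := (allBelow_iff _ _).1 h k hk
      simp only [Bool.or_eq_true, Bool.and_eq_true, List.contains_iff_mem] at h1
      rcases h1 with h1 | ⟨⟨⟨h2, h3⟩, h4⟩, h5⟩
      · exact ⟨k, h1, 1, one_mem _, by simp⟩
      · have h2' : gen k < gens.length := by simpa [Nat.blt_eq] using h2
        have h3' : par k < K := by simpa [Nat.blt_eq] using h3
        have h4' : dist (par k) < dist k := by simpa [Nat.blt_eq] using h4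
        have hmem : gens.getD (gen k) 0 ∈ gens := by
          rw [List.getD_eq_getElem _ _ h2']
          exact List.getElem_mem h2'
        obtain ⟨hv, hfix⟩ := hgens _ hmem
        have hstep := hact (gOf hv) _ (vld_code hv) k (par k) hk h5
        obtain ⟨r, hr, σ, hσ, hσ'⟩ := ih (par k) (by omega) h3'
        refine ⟨r, hr, σ * gOf hv, S.mul_mem hσ hfix, ?_⟩
        rw [mul_smul, hstep, hσ']
  exact fun k hk => main (dist k + 1) k (Nat.lt_succ_self _) hk

end desc

/-- The action of a coded permutation on a table of masks. -/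
noncomputable def actM (T : ℕ → ℕ) (f : ℕ → ℕ) (k k' : ℕ) : Bool := Nat.beq (imgMask f (T k) 24) (T k')

theorem actM_spec (T : ℕ → ℕ) (σ : ↥M24) (f : ℕ → ℕ) (hf : enc.IsCode σ.1 f) (k k' K : ℕ) (_ : k < K)
    (h : actM T f k k' = true) : σ • (enc.finOf (T k) : Finset GolayPt) = enc.finOf (T k') := by
  show σ.1 • (enc.finOf (T k) : Finset GolayPt) = _
  rw [img_finOf hf, Nat.eq_of_beq_eq_true h]

/-- A family of sets given by a complete table of masks. -/
def MaskTable (A : Set (Finset GolayPt)) (T : ℕ → ℕ) (K : ℕ) : Prop :=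
  ∀ y, y ∈ A ↔ ∃ k, k < K ∧ y = enc.finOf (T k)

theorem octMaskTable : MaskTable octads ocT 759 := fun _ => mem_octads_table
theorem ddMaskTable : MaskTable dodecads zdT 2576 := fun _ => mem_dodecads_table
theorem pairMaskTable : MaskTable {s | s.card = 2} zs2 276 := fun y => by
  have := zs2Table.mem_iff y
  simpa using this

/-- Two members of the family with the same invariant are in the same orbit of the subgroup. -/
theorem orbit_same {S : Subgroup ↥M24} {A : Set (Finset GolayPt)} {T : ℕ → ℕ} {K : ℕ} (hA : MaskTable A T K)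
    {gens roots : List ℕ} {par gen dist : ℕ → ℕ} (hg : ∀ p ∈ gens, ∃ hv : vld p = true, gOf hv ∈ S)
    (hd : descChk gens K (actM T) roots par gen dist = true)
    {α : Type*} (inv : Finset GolayPt → α) (hinv : ∀ σ ∈ S, ∀ z : Finset GolayPt, inv (σ • z) = inv z)
    (rel : α → Prop)
    (hdist : ∀ r ∈ roots, ∀ r' ∈ roots, rel (inv (enc.finOf (T r))) →
      inv (enc.finOf (T r)) = inv (enc.finOf (T r')) → r = r')
    {z z' : Finset GolayPt} (hz : z ∈ A) (hz' : z' ∈ A) (hrel : rel (inv z)) (h : inv z = inv z') :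
    ∃ σ ∈ S, σ • z = z' := by
  obtain ⟨k, hk, rfl⟩ := (hA _).1 hz
  obtain ⟨k', hk', rfl⟩ := (hA _).1 hz'
  have hdesc := desc_sub (Z := Finset GolayPt) (S := S) (zt := fun k => enc.finOf (T k)) (K := K)
    (fun σ f hf k k' hk h => actM_spec T σ f hf k k' K hk h) hg hd
  obtain ⟨r, hr, σ, hσ, e⟩ := hdesc k hk
  obtain ⟨r', hr', σ', hσ', e'⟩ := hdesc k' hk'
  have h1 : inv (enc.finOf (T r)) = inv (enc.finOf (T k)) := by rw [← e, hinv σ hσ]
  have h2 : inv (enc.finOf (T r')) = inv (enc.finOf (T k')) := by rw [← e', hinv σ' hσ']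
  have hrr : r = r' := hdist r hr r' hr' (by rwa [h1]) (by rw [h1, h2, h])
  subst hrr
  refine ⟨σ'⁻¹ * σ, S.mul_mem (S.inv_mem hσ') hσ, ?_⟩
  rw [mul_smul, e, ← e', inv_smul_smul]

/-! ### The standard invariants -/

theorem mem_finOf_ptR {m i : ℕ} (hi : i < 24) : pt i ∈ (enc.finOf m : Finset GolayPt) ↔ tb m i = true := by
  rw [tb_eq, enc.mem_finOf]
  show m.testBit (idx (pt i)) = true ↔ _
  rw [idx_pt hi]

/-- Membership of the listed points and the sizes of the intersections with the listed sets. -/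
def invOf (L Ms : List ℕ) (z : Finset GolayPt) : List ℕ :=
  L.map (fun i => if pt i ∈ z then 1 else 0) ++ Ms.map (fun c => ((enc.finOf c : Finset GolayPt) ∩ z).card)

/-- The same invariant on masks. -/
noncomputable def invM (L Ms : List ℕ) (m : ℕ) : List ℕ :=
  L.map (fun i => bif tb m i then 1 else 0) ++ Ms.map (fun c => Enc.popAux (Nat.land c m) 24)

theorem invOf_finOf {L : List ℕ} (hL : ∀ i ∈ L, i < 24) (Ms : List ℕ) (m : ℕ) :
    invOf L Ms (enc.finOf m) = invM L Ms m := by
  have h1 : L.map (fun i => if pt i ∈ (enc.finOf m : Finset GolayPt) then 1 else 0) =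
      L.map (fun i => bif tb m i then 1 else 0) := by
    apply List.map_congr_left
    intro i hi
    by_cases h : tb m i = true
    · rw [if_pos ((mem_finOf_ptR (hL i hi)).2 h), h]
      rfl
    · rw [if_neg (fun h1 => h ((mem_finOf_ptR (hL i hi)).1 h1))]
      simp only [Bool.not_eq_true] at h
      rw [h]
      rfl
  have h2 : Ms.map (fun c => ((enc.finOf c : Finset GolayPt) ∩ enc.finOf m).card) =
      Ms.map (fun c => Enc.popAux (Nat.land c m) 24) := by
    apply List.map_congr_left
    intro c _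
    exact card_inter_finOf c m
  unfold invOf invM
  rw [h1, h2]

theorem invOf_smul {L Ms : List ℕ} {σ : ↥M24} (hσ : σ ∈ fixSub L Ms) (z : Finset GolayPt) :
    invOf L Ms (σ • z) = invOf L Ms z := by
  have h1 : L.map (fun i => if pt i ∈ σ • z then 1 else 0) = L.map (fun i => if pt i ∈ z then 1 else 0) := by
    apply List.map_congr_left
    intro i hi
    have h1 : pt i ∈ σ • z ↔ pt i ∈ z := by
      have h2 : pt i = σ.1 (pt i) := (hσ.1 i hi).symm
      constructor
      · intro h
        obtain ⟨y, hy, e⟩ := Finset.mem_smul_finset.1 h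
        have : σ.1 y = σ.1 (pt i) := by rw [← h2]; exact e
        rw [← σ.1.injective this]
        exact hy
      · intro h
        rw [h2]
        exact Finset.mem_smul_finset.2 ⟨_, h, rfl⟩
    simp only [h1]
  have h2 : Ms.map (fun c => ((enc.finOf c : Finset GolayPt) ∩ σ • z).card) =
      Ms.map (fun c => ((enc.finOf c : Finset GolayPt) ∩ z).card) := by
    apply List.map_congr_left
    intro c hc
    have h1 : (enc.finOf c : Finset GolayPt) = σ.1 • (enc.finOf c : Finset GolayPt) := (hσ.2 c hc).symm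
    show ((enc.finOf c : Finset GolayPt) ∩ σ.1 • z).card = _
    rw [h1, ← Finset.smul_finset_inter, Finset.card_smul_finset, ← h1]
  unfold invOf
  rw [h1, h2]

/-- The check on the roots. -/
noncomputable def rootsOK (L Ms : List ℕ) (T : ℕ → ℕ) (rel : List ℕ → Bool) (roots : List ℕ) : Bool :=
  roots.all fun r => roots.all fun r' => !(rel (invM L Ms (T r))) || !(decide (invM L Ms (T r) = invM L Ms (T r'))) ||
    Nat.beq r r'

/-- Transitivity of `fixSub L Ms` on the classes of the standard invariant. -/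
theorem orbit_fix {L Ms : List ℕ} (hL : ∀ i ∈ L, i < 24) {A : Set (Finset GolayPt)} {T : ℕ → ℕ} {K : ℕ}
    (hA : MaskTable A T K) {gens roots : List ℕ} {par gen dist : ℕ → ℕ} (hg : gensOK gens L Ms = true)
    (hd : descChk gens K (actM T) roots par gen dist = true)
    {rel : List ℕ → Bool} (hr : rootsOK L Ms T rel roots = true)
    {z z' : Finset GolayPt} (hz : z ∈ A) (hz' : z' ∈ A) (hrel : rel (invOf L Ms z) = true)
    (h : invOf L Ms z = invOf L Ms z') : ∃ σ ∈ fixSub L Ms, σ • z = z' := by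
  refine orbit_same hA (gensOK_spec hg hL) hd (invOf L Ms) (fun σ hσ z => invOf_smul hσ z)
    (fun v => rel v = true) ?_ hz hz' hrel h
  intro r hr1 r' hr2 h1 h2
  have h3 := List.all_eq_true.1 (List.all_eq_true.1 hr r hr1) r' hr2
  rw [invOf_finOf hL] at h1 h2
  rw [invOf_finOf hL] at h2
  simp only [Bool.or_eq_true, Bool.not_eq_true', decide_eq_false_iff_not] at h3
  rcases h3 with (h3 | h3) | h3
  · rw [h1] at h3
    exact absurd h3 (by simp)
  · exact absurd h2 h3
  · exact Nat.eq_of_beq_eq_true h3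

/-! ### Counting in tables -/

theorem ncard_table_filter {A : Set (Finset GolayPt)} {T : ℕ → ℕ} {K : ℕ} (hA : MaskTable A T K)
    (hinj : ∀ a b, a < K → b < K → (enc.finOf (T a) : Finset GolayPt) = enc.finOf (T b) → a = b)
    (P : Finset GolayPt → Prop) (Q : ℕ → Bool) (hPQ : ∀ k, k < K → (P (enc.finOf (T k)) ↔ Q (T k) = true)) :
    {y | y ∈ A ∧ P y}.ncard = countBelow (fun k => Q (T k)) K := by
  classical
  have hset : {y | y ∈ A ∧ P y} = (fun k => (enc.finOf (T k) : Finset GolayPt)) ''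
      (((Finset.range K).filter fun k => Q (T k) = true : Finset ℕ) : Set ℕ) := by
    ext y
    constructor
    · rintro ⟨hy, hP⟩
      obtain ⟨k, hk, rfl⟩ := (hA _).1 hy
      exact ⟨k, by simpa using ⟨hk, (hPQ k hk).1 hP⟩, rfl⟩
    · rintro ⟨k, hk, rfl⟩
      have hk' : k < K ∧ Q (T k) = true := by simpa using hk
      exact ⟨(hA _).2 ⟨k, hk'.1, rfl⟩, (hPQ k hk'.1).2 hk'.2⟩
  rw [hset, Set.InjOn.ncard_image, Set.ncard_coe_finset, countBelow_eq]
  intro a ha b hb hab
  have ha' : a < K ∧ Q (T a) = true := by simpa using ha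
  have hb' : b < K ∧ Q (T b) = true := by simpa using hb
  exact hinj a b ha'.1 hb'.1 hab

theorem ncard_oct_inv {L : List ℕ} (hL : ∀ i ∈ L, i < 24) (Ms : List ℕ) (v : List ℕ) :
    {y | y ∈ octads ∧ invOf L Ms y = v}.ncard =
      countBelow (fun k => decide (invM L Ms (ocT k) = v)) 759 := by
  refine ncard_table_filter octMaskTable (fun a b ha hb h => oc_injOn ha hb h) (fun y => invOf L Ms y = v)
    (fun m => decide (invM L Ms m = v)) (fun k _ => ?_)
  rw [invOf_finOf hL]
  simp

theorem ncard_dd_inv {L : List ℕ} (hL : ∀ i ∈ L, i < 24) (Ms : List ℕ) (v : List ℕ) :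
    {y | y ∈ dodecads ∧ invOf L Ms y = v}.ncard =
      countBelow (fun k => decide (invM L Ms (zdT k) = v)) 2576 := by
  refine ncard_table_filter ddMaskTable (fun a b ha hb h => zd_injOn ha hb h) (fun y => invOf L Ms y = v)
    (fun m => decide (invM L Ms m = v)) (fun k _ => ?_)
  rw [invOf_finOf hL]
  simp

/-- Transport of a count along a group element. -/
theorem ncard_eq_of_smul (g : ↥M24) {X Y : Set (Finset GolayPt)} (h : ∀ y, y ∈ X ↔ g • y ∈ Y) :
    X.ncard = Y.ncard := by
  have hset : Y = (fun y => g • y) '' X := by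
    ext y
    constructor
    · intro hy
      exact ⟨g⁻¹ • y, (h _).2 (by rwa [smul_inv_smul]), by simp⟩
    · rintro ⟨x, hx, rfl⟩
      exact (h x).1 hx
  rw [hset, Set.ncard_image_of_injective _ (MulAction.injective g)]

theorem smul_inter_card (g : ↥M24) (s t : Finset GolayPt) : (g • s ∩ g • t).card = (s ∩ t).card := by
  show (g.1 • s ∩ g.1 • t).card = _
  rw [← Finset.smul_finset_inter, Finset.card_smul_finset]

theorem mem_smul_iff (g : ↥M24) (a : GolayPt) (s : Finset GolayPt) : g.1 a ∈ g • s ↔ a ∈ s := by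
  constructor
  · intro h
    obtain ⟨y, hy, e⟩ := Finset.mem_smul_finset.1 h
    have : g.1 y = g.1 a := e
    rwa [← g.1.injective this]
  · intro h
    exact Finset.mem_smul_finset.2 ⟨a, h, rfl⟩

/-- Transitivity of `M24` on points. -/
theorem exists_point (a : GolayPt) (i : ℕ) : ∃ g : ↥M24, g.1 a = pt i := by
  have := M24_isPretransitive
  obtain ⟨g, hg⟩ := MulAction.exists_smul_eq ↥M24 a (pt i)
  exact ⟨g, hg⟩

/-- Two-transitivity of `M24`. -/
theorem exists_two_points {a b : GolayPt} (hab : a ≠ b) {i j : ℕ} (hij : pt i ≠ pt j) :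
    ∃ g : ↥M24, g.1 a = pt i ∧ g.1 b = pt j := by
  have hT := M24_isMultiplyPretransitive 2 (by norm_num)
  let x : Fin 2 ↪ GolayPt := ⟨![a, b], by
    intro u v h
    fin_cases u <;> fin_cases v <;> simp_all⟩
  let y : Fin 2 ↪ GolayPt := ⟨![pt i, pt j], by
    intro u v h
    fin_cases u <;> fin_cases v <;> simp_all⟩
  obtain ⟨g, hg⟩ := MulAction.exists_smul_eq ↥M24 x y
  exact ⟨g, congrArg (fun e : Fin 2 ↪ GolayPt => e 0) hg, congrArg (fun e : Fin 2 ↪ GolayPt => e 1) hg⟩

end Cfsg.Agent.Lib.M24
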