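import Cfsg.Agent.Lib.M24.Enum
import Cfsg.Agent.Lib.M24.Rank

/-!
# Homomorphisms out of subgroups of `M24` from multiplication tables

A list of packed elements exhausting a subgroup of `M24`, with right multiplication by a few generators tabulated and
matched in another group, defines a homomorphism, by induction along a spanning tree of the Cayley graph.
-/

set_option autoImplicit false
set_option linter.constructorNameAsVariable false

namespace Cfsg.Agent.Lib.M24

open Cfsg Cfsg.Agent.Lib.Compute Cfsg.Agent.Lib.Golay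
open scoped Pointwise

section abstract

variable {G G' P : Type*} [Group G] [Group G'] [Group P]

/-- The closure of the table under products, along a spanning tree. -/
theorem table_mul_closed {K : ℕ} {E : ℕ → P} {φ : ℕ → G'} {k₀ : ℕ} (hE₀ : E k₀ = 1) (hφ₀ : φ k₀ = 1)
    {n : ℕ} {S : ℕ → P} {T : ℕ → G'} {R : ℕ → ℕ → ℕ}
    (hR : ∀ j, j < n → ∀ k, k < K → R j k < K ∧ E k * S j = E (R j k) ∧ φ k * T j = φ (R j k))
    {par gen dist : ℕ → ℕ}
    (htree : ∀ k, k < K → k = k₀ ∨ (gen k < n ∧ par k < K ∧ dist (par k) < dist k ∧ R (gen k) (par k) = k)) :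
    ∀ a b, a < K → b < K → ∃ c, c < K ∧ E a * E b = E c ∧ φ a * φ b = φ c := by
  have main : ∀ m a b, dist b < m → a < K → b < K → ∃ c, c < K ∧ E a * E b = E c ∧ φ a * φ b = φ c := by
    intro m
    induction m with
    | zero => intro a b h; omega
    | succ m ih =>
      intro a b hd ha hb
      rcases htree b hb with rfl | ⟨h1, h2, h3, h4⟩
      · exact ⟨a, ha, by rw [hE₀, mul_one], by rw [hφ₀, mul_one]⟩
      · obtain ⟨c, hc, e1, e2⟩ := ih a (par b) (by omega) ha h2
        obtain ⟨c1, e3, e4⟩ := hR _ h1 c hc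
        obtain ⟨_, e5, e6⟩ := hR _ h1 _ h2
        rw [h4] at e5 e6
        refine ⟨_, c1, ?_, ?_⟩
        · rw [← e5, ← mul_assoc, e1, e3]
        · rw [← e6, ← mul_assoc, e2, e4]
  exact fun a b ha hb => main _ a b (Nat.lt_succ_self _) ha hb

/-- A homomorphism from a table. -/
theorem exists_hom_of_table (ι : G →* P) {K : ℕ} {E : ℕ → P} {φ : ℕ → G'}
    (hcov : ∀ g, ∃ k, k < K ∧ ι g = E k) (hEinj : ∀ a b, a < K → b < K → E a = E b → a = b)
    {k₀ : ℕ} (hE₀ : E k₀ = 1) (hφ₀ : φ k₀ = 1)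
    {n : ℕ} {S : ℕ → P} {T : ℕ → G'} {R : ℕ → ℕ → ℕ}
    (hR : ∀ j, j < n → ∀ k, k < K → R j k < K ∧ E k * S j = E (R j k) ∧ φ k * T j = φ (R j k))
    {par gen dist : ℕ → ℕ}
    (htree : ∀ k, k < K → k = k₀ ∨ (gen k < n ∧ par k < K ∧ dist (par k) < dist k ∧ R (gen k) (par k) = k)) :
    ∃ f : G →* G', ∀ g k, k < K → ι g = E k → f g = φ k := by
  classical
  choose idx hidx hidx' using hcov
  have hclosed := table_mul_closed hE₀ hφ₀ hR htree
  refine ⟨MonoidHom.mk' (fun g => φ (idx g)) ?_, ?_⟩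
  · intro a b
    obtain ⟨c, hc, e1, e2⟩ := hclosed _ _ (hidx a) (hidx b)
    have h1 : ι (a * b) = E c := by rw [map_mul, hidx' a, hidx' b, e1]
    have h2 : idx (a * b) = c := hEinj _ _ (hidx _) hc ((hidx' _).symm.trans h1)
    show φ (idx (a * b)) = φ (idx a) * φ (idx b)
    rw [h2, e2]
  · intro g k hk hg
    have h2 : idx g = k := hEinj _ _ (hidx _) hk ((hidx' _).symm.trans hg)
    show φ (idx g) = φ k
    rw [h2]

/-- An isomorphism from a table. -/
theorem nonempty_equiv_of_table [Finite G'] (ι : G →* P) (hι : Function.Injective ι) {K : ℕ} {E : ℕ → P} {φ : ℕ → G'}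
    (hcov : ∀ g, ∃ k, k < K ∧ ι g = E k) (hEinj : ∀ a b, a < K → b < K → E a = E b → a = b)
    {k₀ : ℕ} (hk₀ : k₀ < K) (hE₀ : E k₀ = 1) (hφ₀ : φ k₀ = 1)
    {n : ℕ} {S : ℕ → P} {T : ℕ → G'} {R : ℕ → ℕ → ℕ}
    (hR : ∀ j, j < n → ∀ k, k < K → R j k < K ∧ E k * S j = E (R j k) ∧ φ k * T j = φ (R j k))
    {par gen dist : ℕ → ℕ}
    (htree : ∀ k, k < K → k = k₀ ∨ (gen k < n ∧ par k < K ∧ dist (par k) < dist k ∧ R (gen k) (par k) = k))
    (hφinj : ∀ k, k < K → φ k = 1 → k = k₀) (hcard : Nat.card G = Nat.card G') : Nonempty (G ≃* G') := by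
  obtain ⟨f, hf⟩ := exists_hom_of_table ι hcov hEinj hE₀ hφ₀ hR htree
  have hinj : Function.Injective f := by
    rw [injective_iff_map_eq_one]
    intro g hg
    obtain ⟨k, hk, e⟩ := hcov g
    have h1 : φ k = 1 := by rw [← hf g k hk e, hg]
    have h2 := hφinj k hk h1
    subst h2
    apply hι
    rw [map_one, e, hE₀]
  have hbij : Function.Bijective f :=
    (Nat.bijective_iff_injective_and_card f).2 ⟨hinj, hcard⟩
  exact ⟨MulEquiv.ofBijective f hbij⟩

end abstract

/-- The conjugation isomorphism between two subgroups. -/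
def conjEquivS {G : Type*} [Group G] (A B : Subgroup G) (g : G) (h : ∀ x, x ∈ A ↔ g * x * g⁻¹ ∈ B) : A ≃* B where
  toFun x := ⟨g * x.1 * g⁻¹, (h _).1 x.2⟩
  invFun y := ⟨g⁻¹ * y.1 * g, (h _).2 (by
    have : g * (g⁻¹ * y.1 * g) * g⁻¹ = y.1 := by group
    rw [this]
    exact y.2)⟩
  left_inv x := by
    apply Subtype.ext
    show g⁻¹ * (g * x.1 * g⁻¹) * g = x.1
    group
  right_inv y := by
    apply Subtype.ext
    show g * (g⁻¹ * y.1 * g) * g⁻¹ = y.1
    group
  map_mul' a b := by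
    apply Subtype.ext
    show g * (a.1 * b.1) * g⁻¹ = (g * a.1 * g⁻¹) * (g * b.1 * g⁻¹)
    group

/-- A set of elements of `M24` given by a list. -/
theorem list_complete {B : Subgroup ↥M24} {L : ℕ → ℕ} {K : ℕ} (hv : allBelow (fun k => vld (L k)) K = true)
    (hB : ∀ k, k < K → ∀ hv : vld (L k) = true, gOf hv ∈ B)
    (hasc : allBelow (fun k => Nat.blt (keyOf (pc (L k))) (keyOf (pc (L (k + 1))))) (K - 1) = true)
    (hcard : Nat.card B = K) : ∀ σ : ↥B, ∃ k, k < K ∧ σ.1.1 = ppm (L k) := by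
  classical
  have hv' : ∀ k, k < K → vld (L k) = true := fun k hk => (allBelow_iff _ _).1 hv k hk
  have hlt : ∀ a b, a < b → b < K → keyOf (pc (L a)) < keyOf (pc (L b)) := by
    intro a b hab hb
    have step : ∀ k, k + 1 < K → keyOf (pc (L k)) < keyOf (pc (L (k + 1))) := fun k hk => by
      have := (allBelow_iff _ _).1 hasc k (by omega)
      simpa [Nat.blt_eq] using this
    induction b, hab using Nat.le_induction with
    | base => exact step a hb
    | succ n hn ih => exact lt_trans (ih (by omega)) (step n hb)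
  have hkey : ∀ a b, a < K → b < K → ppm (L a) = ppm (L b) → a = b := by
    intro a b ha hb h
    have hpc : ∀ i, i < 24 → pc (L a) i = pc (L b) i := by
      intro i hi
      have h1 := (vld_code (hv' a ha)) (pt i)
      have h2 := (vld_code (hv' b hb)) (pt i)
      simp only [enc_idx] at h1 h2
      rw [idx_pt hi] at h1 h2
      rw [h1, h2, h]
    have hk : keyOf (pc (L a)) = keyOf (pc (L b)) := by
      simp only [keyOf]
      rw [hpc 23 (by norm_num), hpc 0 (by norm_num), hpc 1 (by norm_num), hpc 2 (by norm_num),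
        hpc 3 (by norm_num), hpc 4 (by norm_num), hpc 5 (by norm_num)]
    rcases Nat.lt_trichotomy a b with h3 | h3 | h3
    · have := hlt a b h3 hb
      omega
    · exact h3
    · have := hlt b a h3 ha
      omega
  let F : Fin K → ↥B := fun k => ⟨gOf (hv' k.1 k.2), hB k.1 k.2 _⟩
  have hFinj : Function.Injective F := by
    intro a b h
    have h1 : ppm (L a.1) = ppm (L b.1) := congrArg (fun x : ↥B => x.1.1) h
    exact Fin.ext (hkey _ _ a.2 b.2 h1)
  have : Finite ↥B := Finite.of_injective (fun x : ↥B => x.1.1) (fun a b h => Subtype.ext (Subtype.ext h))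
  have hbij : Function.Bijective F := (Nat.bijective_iff_injective_and_card F).2 ⟨hFinj, by rw [hcard, Nat.card_eq_fintype_card, Fintype.card_fin]⟩
  intro σ
  obtain ⟨k, hk⟩ := hbij.2 σ
  exact ⟨k.1, k.2, by rw [← hk]; rfl⟩

/-- Distinct rows of the list give distinct permutations. -/
theorem list_inj {L : ℕ → ℕ} {K : ℕ} (hv : allBelow (fun k => vld (L k)) K = true)
    (hasc : allBelow (fun k => Nat.blt (keyOf (pc (L k))) (keyOf (pc (L (k + 1))))) (K - 1) = true) :
    ∀ a b, a < K → b < K → ppm (L a) = ppm (L b) → a = b := by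
  have hv' : ∀ k, k < K → vld (L k) = true := fun k hk => (allBelow_iff _ _).1 hv k hk
  have hlt : ∀ a b, a < b → b < K → keyOf (pc (L a)) < keyOf (pc (L b)) := by
    intro a b hab hb
    have step : ∀ k, k + 1 < K → keyOf (pc (L k)) < keyOf (pc (L (k + 1))) := fun k hk => by
      have := (allBelow_iff _ _).1 hasc k (by omega)
      simpa [Nat.blt_eq] using this
    induction b, hab using Nat.le_induction with
    | base => exact step a hb
    | succ n hn ih => exact lt_trans (ih (by omega)) (step n hb)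
  intro a b ha hb h
  have hpc : ∀ i, i < 24 → pc (L a) i = pc (L b) i := by
    intro i hi
    have h1 := (vld_code (hv' a ha)) (pt i)
    have h2 := (vld_code (hv' b hb)) (pt i)
    simp only [enc_idx] at h1 h2
    rw [idx_pt hi] at h1 h2
    rw [h1, h2, h]
  have hk : keyOf (pc (L a)) = keyOf (pc (L b)) := by
    simp only [keyOf]
    rw [hpc 23 (by norm_num), hpc 0 (by norm_num), hpc 1 (by norm_num), hpc 2 (by norm_num),
      hpc 3 (by norm_num), hpc 4 (by norm_num), hpc 5 (by norm_num)]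
  rcases Nat.lt_trichotomy a b with h3 | h3 | h3
  · have := hlt a b h3 hb
    omega
  · exact h3
  · have := hlt b a h3 ha
    omega


/-- The right multiplication table on codes. -/
noncomputable def rowMul (f g h : ℕ → ℕ) : Bool := allBelow (fun i => Nat.beq (f (g i)) (h i)) 24

theorem ppm_mul_of_rowMul {p q r : ℕ} (hp : vld p = true) (hq : vld q = true) (hr : vld r = true)
    (h : rowMul (pc p) (pc q) (pc r) = true) : ppm p * ppm q = ppm r :=
  eq_of_code (isCode_mul (vld_code hp) (vld_code hq)) (vld_code hr)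
    (fun i hi => Nat.eq_of_beq_eq_true ((allBelow_iff _ _).1 h i hi))

/-- The identity code. -/
noncomputable def rowId (f : ℕ → ℕ) : Bool := allBelow (fun i => Nat.beq (f i) i) 24

theorem ppm_eq_one_of_rowId {p : ℕ} (hp : vld p = true) (h : rowId (pc p) = true) : ppm p = 1 :=
  eq_of_code (vld_code hp) isCode_one (fun i hi => Nat.eq_of_beq_eq_true ((allBelow_iff _ _).1 h i hi))

/-- From rows to a homomorphism. -/
theorem exists_hom_of_rows {B : Subgroup ↥M24} {G' : Type*} [Group G'] {L : ℕ → ℕ} {K : ℕ}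
    (hv : allBelow (fun k => vld (L k)) K = true)
    (hasc : allBelow (fun k => Nat.blt (keyOf (pc (L k))) (keyOf (pc (L (k + 1))))) (K - 1) = true)
    (hcov : ∀ σ : ↥B, ∃ k, k < K ∧ σ.1.1 = ppm (L k))
    {k₀ : ℕ} (hid : rowId (pc (L k₀)) = true) (hk₀ : k₀ < K)
    {n : ℕ} {s : ℕ → ℕ} {R : ℕ → ℕ → ℕ}
    (hs : allBelow (fun j => Nat.blt (s j) K) n = true)
    (hR : allBelow (fun j => allBelow (fun k => Nat.blt (R j k) K &&
      rowMul (pc (L k)) (pc (L (s j))) (pc (L (R j k)))) K) n = true)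
    {par gen dist : ℕ → ℕ}
    (htree : allBelow (fun k => Nat.beq k k₀ || (Nat.blt (gen k) n && Nat.blt (par k) K &&
      Nat.blt (dist (par k)) (dist k) && Nat.beq (R (gen k) (par k)) k)) K = true)
    {φ : ℕ → G'} (hφ₀ : φ k₀ = 1) {T : ℕ → G'} (hφ : ∀ j, j < n → ∀ k, k < K → φ k * T j = φ (R j k)) :
    ∃ f : ↥B →* G', ∀ (g : ↥B) (k : ℕ), k < K → g.1.1 = ppm (L k) → f g = φ k := by
  have hv' : ∀ k, k < K → vld (L k) = true := fun k hk => (allBelow_iff _ _).1 hv k hk
  have hs' : ∀ j, j < n → s j < K := fun j hj => by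
    have := (allBelow_iff _ _).1 hs j hj
    simpa [Nat.blt_eq] using this
  refine exists_hom_of_table (P := Equiv.Perm GolayPt) (M24.subtype.comp B.subtype) (E := fun k => ppm (L k))
    (K := K) (φ := φ) (k₀ := k₀) (n := n) (S := fun j => ppm (L (s j))) (T := T) (R := R)
    (par := par) (gen := gen) (dist := dist) hcov (list_inj hv hasc)
    (ppm_eq_one_of_rowId (hv' _ hk₀) hid) hφ₀ ?_ ?_
  · intro j hj k hk
    have h1 := (allBelow_iff _ _).1 ((allBelow_iff _ _).1 hR j hj) k hk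
    simp only [Bool.and_eq_true] at h1
    have h2 : R j k < K := by simpa [Nat.blt_eq] using h1.1
    exact ⟨h2, ppm_mul_of_rowMul (hv' _ hk) (hv' _ (hs' j hj)) (hv' _ h2) h1.2, hφ j hj k hk⟩
  · intro k hk
    have h1 := (allBelow_iff _ _).1 htree k hk
    simp only [Bool.or_eq_true, Bool.and_eq_true] at h1
    rcases h1 with h1 | ⟨⟨⟨h1, h2⟩, h3⟩, h4⟩
    · exact Or.inl (Nat.eq_of_beq_eq_true h1)
    · refine Or.inr ⟨?_, ?_, ?_, Nat.eq_of_beq_eq_true h4⟩
      · simpa [Nat.blt_eq] using h1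
      · simpa [Nat.blt_eq] using h2
      · simpa [Nat.blt_eq] using h3

/-- The quotient by the kernel of a surjective homomorphism. -/
theorem exists_normal_quotient {G G' : Type*} [Group G] [Group G'] [Finite G] (f : G →* G')
    (hf : Function.Surjective f) {n : ℕ} (hn : Nat.card G = n * Nat.card G') (hpos : 0 < Nat.card G') :
    ∃ (N : Subgroup G) (_ : N.Normal), Nat.card N = n ∧ Nonempty (G ⧸ N ≃* G') := by
  refine ⟨f.ker, inferInstance, ?_, ⟨QuotientGroup.quotientKerEquivOfSurjective f hf⟩⟩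
  have h1 := Subgroup.card_mul_index f.ker
  have h2 : f.ker.index = Nat.card G' := by
    rw [Subgroup.index_ker, MonoidHom.range_eq_top.2 hf, Subgroup.card_top]
  rw [h2, hn] at h1
  exact Nat.eq_of_mul_eq_mul_right hpos h1

/-! ### The matrix group `GL(2, 3)` -/

/-- An entry in `ZMod 3`. -/
def cd3 (x : ℕ) : ZMod 3 := (⟨Nat.mod x 3, Nat.mod_lt _ (by norm_num)⟩ : Fin 3)

/-- A matrix from its code. -/
def glMat (c : ℕ) : Matrix (Fin 2) (Fin 2) (ZMod 3) :=
  Matrix.of fun i j => cd3 (Nat.land (Nat.shiftRight c (Nat.mul 2 (Nat.add (Nat.mul 2 i.val) j.val))) 3)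

/-- An element of `GL(2, 3)` from its code. -/
noncomputable def glOf (c : ℕ) : GL (Fin 2) (ZMod 3) :=
  if h : (glMat c).det ≠ 0 then Matrix.GeneralLinearGroup.mkOfDetNeZero (glMat c) h else 1

theorem coe_glOf {c : ℕ} (h : (glMat c).det ≠ 0) : ((glOf c : GL (Fin 2) (ZMod 3)) : Matrix (Fin 2) (Fin 2) (ZMod 3)) = glMat c := by
  unfold glOf
  rw [dif_pos h]
  rfl

theorem glOf_mul {a b c : ℕ} (ha : (glMat a).det ≠ 0) (hb : (glMat b).det ≠ 0) (hc : (glMat c).det ≠ 0)
    (h : glMat a * glMat b = glMat c) : glOf a * glOf b = glOf c := by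
  apply Units.ext
  rw [Units.val_mul, coe_glOf ha, coe_glOf hb, coe_glOf hc, h]

theorem glOf_one {c : ℕ} (hc : (glMat c).det ≠ 0) (h : glMat c = 1) : glOf c = 1 := by
  apply Units.ext
  rw [coe_glOf hc, h]
  rfl

theorem card_GL23 : Nat.card (GL (Fin 2) (ZMod 3)) = 48 := by
  have : Fact (Nat.Prime 3) := ⟨Nat.prime_three⟩
  rw [Matrix.card_GL_field, ZMod.card, Fin.prod_univ_two]
  norm_num

/-- Every matrix has a code from a table. -/
theorem exists_code_of_pos {P : ℕ → ℕ} (hP : ∀ a b c d : ZMod 3, a * d - b * c ≠ 0 →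
      glMat (P (Nat.add a.val (Nat.mul 3 (Nat.add b.val (Nat.mul 3 (Nat.add c.val (Nat.mul 3 d.val))))))) =
        Matrix.of ![![a, b], ![c, d]])
    (g : GL (Fin 2) (ZMod 3)) : ∃ n, (glMat (P n)).det ≠ 0 ∧ glOf (P n) = g := by
  have hdet : (g : Matrix (Fin 2) (Fin 2) (ZMod 3)).det ≠ 0 := by
    have h := Matrix.GeneralLinearGroup.det g
    have h' : ((Matrix.GeneralLinearGroup.det g : (ZMod 3)ˣ) : ZMod 3) = (g : Matrix (Fin 2) (Fin 2) (ZMod 3)).det := rfl
    rw [← h']
    exact Units.ne_zero _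
  have hdet' := hdet
  rw [Matrix.det_fin_two] at hdet'
  have h1 := hP _ _ _ _ hdet'
  have h2 : glMat (P (Nat.add (ZMod.val ((g : Matrix (Fin 2) (Fin 2) (ZMod 3)) 0 0)) (Nat.mul 3 (Nat.add (ZMod.val ((g : Matrix (Fin 2) (Fin 2) (ZMod 3)) 0 1))
      (Nat.mul 3 (Nat.add (ZMod.val ((g : Matrix (Fin 2) (Fin 2) (ZMod 3)) 1 0)) (Nat.mul 3 (ZMod.val ((g : Matrix (Fin 2) (Fin 2) (ZMod 3)) 1 1))))))))) = (g : Matrix (Fin 2) (Fin 2) (ZMod 3)) := by
    rw [h1]
    exact (Matrix.eta_fin_two _).symm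
  have h3 : (glMat (P (Nat.add (ZMod.val ((g : Matrix (Fin 2) (Fin 2) (ZMod 3)) 0 0)) (Nat.mul 3 (Nat.add (ZMod.val ((g : Matrix (Fin 2) (Fin 2) (ZMod 3)) 0 1))
      (Nat.mul 3 (Nat.add (ZMod.val ((g : Matrix (Fin 2) (Fin 2) (ZMod 3)) 1 0)) (Nat.mul 3 (ZMod.val ((g : Matrix (Fin 2) (Fin 2) (ZMod 3)) 1 1)))))))))).det ≠ 0 := by
    rw [h2]
    exact hdet
  refine ⟨_, h3, ?_⟩
  apply Units.ext
  rw [coe_glOf h3, h2]

end Cfsg.Agent.Lib.M24
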