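import Cfsg.Agent.Lib.Golay.Orbit

/-!
# A kit for explicit computations in `M24`

Elements of `M24` are handled through their *codes*: functions `f : ℕ → ℕ` with
`f (idx a) = idx (σ a)` (`enc.IsCode σ f`), typically packed arrays `pc p` and compositions of them.
-/

set_option autoImplicit false

namespace Cfsg.Agent.Lib.M24

open Cfsg Cfsg.Agent.Lib.Compute Cfsg.Agent.Lib.Golay
open scoped Pointwise

/-! ### Codes -/

theorem isCode_mul {σ τ : Equiv.Perm GolayPt} {f g : ℕ → ℕ} (hf : enc.IsCode σ f)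
    (hg : enc.IsCode τ g) : enc.IsCode (σ * τ) (fun i => f (g i)) := by
  intro a
  show f (g (enc.idx a)) = enc.idx (σ (τ a))
  rw [hg a, hf (τ a)]

theorem isCode_one : enc.IsCode (1 : Equiv.Perm GolayPt) (fun i => i) := fun _ => rfl

theorem isCode_congr {σ : Equiv.Perm GolayPt} {f g : ℕ → ℕ} (hf : enc.IsCode σ f)
    (h : ∀ i, i < 24 → g i = f i) : enc.IsCode σ g := by
  intro a
  rw [h _ (enc.idx_lt a), hf a]

/-- Codes determine permutations. -/
theorem eq_of_code {σ τ : Equiv.Perm GolayPt} {f g : ℕ → ℕ} (hf : enc.IsCode σ f)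
    (hg : enc.IsCode τ g) (h : ∀ i, i < 24 → f i = g i) : σ = τ := by
  ext a
  have : enc.idx (σ a) = enc.idx (τ a) := by
    rw [← hf a, ← hg a]
    exact h _ (enc.idx_lt a)
  rw [enc.idx_injective this]

/-- The value of a coded permutation at a numbered point. -/
theorem code_pt {σ : Equiv.Perm GolayPt} {f : ℕ → ℕ} (hf : enc.IsCode σ f) {i : ℕ} (hi : i < 24) :
    σ (pt i) = pt (f i) := by
  have h1 := hf (pt i)
  simp only [enc_idx] at h1
  rw [idx_pt hi] at h1
  rw [h1, pt_idx]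

theorem code_lt {σ : Equiv.Perm GolayPt} {f : ℕ → ℕ} (hf : enc.IsCode σ f) {i : ℕ} (hi : i < 24) :
    f i < 24 := by
  have h1 := hf (pt i)
  simp only [enc_idx] at h1
  rw [idx_pt hi] at h1
  rw [h1]
  exact idx_lt _

theorem pt_inj {i j : ℕ} (hi : i < 24) (hj : j < 24) (h : pt i = pt j) : i = j := by
  rw [← idx_pt hi, ← idx_pt hj, h]

/-! ### Tests on codes -/

/-- `f ∘ f = id` on the points. -/
noncomputable def sqId (f : ℕ → ℕ) : Bool := allBelow (fun i => Nat.beq (f (f i)) i) 24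

/-- `f = id` on the points. -/
noncomputable def idF (f : ℕ → ℕ) : Bool := allBelow (fun i => Nat.beq (f i) i) 24

/-- `f = g` on the points. -/
noncomputable def eqF (f g : ℕ → ℕ) : Bool := allBelow (fun i => Nat.beq (f i) (g i)) 24

theorem eqF_iff {σ τ : Equiv.Perm GolayPt} {f g : ℕ → ℕ} (hf : enc.IsCode σ f)
    (hg : enc.IsCode τ g) : eqF f g = true ↔ σ = τ := by
  constructor
  · intro h
    exact eq_of_code hf hg fun i hi => Nat.eq_of_beq_eq_true ((allBelow_iff _ _).1 h i hi)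
  · rintro rfl
    refine (allBelow_iff _ _).2 fun i hi => ?_
    have h1 := hf (pt i)
    have h2 := hg (pt i)
    simp only [enc_idx] at h1 h2
    rw [idx_pt hi] at h1 h2
    rw [h1, h2]
    exact Nat.beq_refl _

theorem idF_iff {σ : Equiv.Perm GolayPt} {f : ℕ → ℕ} (hf : enc.IsCode σ f) :
    idF f = true ↔ σ = 1 := eqF_iff hf isCode_one

theorem sqId_iff {σ : Equiv.Perm GolayPt} {f : ℕ → ℕ} (hf : enc.IsCode σ f) :
    sqId f = true ↔ σ * σ = 1 := idF_iff (isCode_mul hf hf)

/-- `k ∘ f = g ∘ k` on the points. -/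
noncomputable def conjF (k f g : ℕ → ℕ) : Bool := allBelow (fun i => Nat.beq (k (f i)) (g (k i))) 24

theorem conjF_iff {κ σ τ : Equiv.Perm GolayPt} {k f g : ℕ → ℕ} (hk : enc.IsCode κ k)
    (hf : enc.IsCode σ f) (hg : enc.IsCode τ g) : conjF k f g = true ↔ κ * σ = τ * κ :=
  eqF_iff (isCode_mul hk hf) (isCode_mul hg hk)

theorem conj_eq_of_conjF {κ σ τ : Equiv.Perm GolayPt} {k f g : ℕ → ℕ} (hk : enc.IsCode κ k)
    (hf : enc.IsCode σ f) (hg : enc.IsCode τ g) (h : conjF k f g = true) : κ * σ * κ⁻¹ = τ := by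
  rw [(conjF_iff hk hf hg).1 h]
  group

/-- The mask of the numbers below `n` satisfying `P`. -/
noncomputable def maskOf (P : ℕ → Bool) (n : ℕ) : ℕ :=
  Nat.rec 0 (fun i ih => bcond (P i) (Nat.lor (Nat.shiftLeft 1 i) ih) ih) n

theorem testBit_maskOf (P : ℕ → Bool) (n j : ℕ) :
    (maskOf P n).testBit j = true ↔ j < n ∧ P j = true := by
  induction n with
  | zero => simp [maskOf]
  | succ n ih =>
    have h1 : maskOf P (n + 1) = bcond (P n) (Nat.lor (Nat.shiftLeft 1 n) (maskOf P n)) (maskOf P n) := rfl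
    rw [h1]
    cases hP : P n
    · rw [bcond_false, ih]
      constructor
      · rintro ⟨h2, h3⟩
        exact ⟨Nat.lt_succ_of_lt h2, h3⟩
      · rintro ⟨h2, h3⟩
        rcases Nat.lt_succ_iff_lt_or_eq.1 h2 with h4 | rfl
        · exact ⟨h4, h3⟩
        · rw [hP] at h3; exact Bool.noConfusion h3
    · rw [bcond_true]
      show ((1 <<< n) ||| maskOf P n).testBit j = true ↔ _
      rw [Nat.testBit_or, Bool.or_eq_true, ih, Nat.one_shiftLeft, Nat.testBit_two_pow]
      simp only [decide_eq_true_eq]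
      constructor
      · rintro (rfl | ⟨h2, h3⟩)
        · exact ⟨Nat.lt_succ_self _, hP⟩
        · exact ⟨Nat.lt_succ_of_lt h2, h3⟩
      · rintro ⟨h2, h3⟩
        rcases Nat.lt_succ_iff_lt_or_eq.1 h2 with h4 | rfl
        · exact Or.inr ⟨h4, h3⟩
        · exact Or.inl rfl

/-- The mask of the fixed points. -/
noncomputable def fixM (f : ℕ → ℕ) : ℕ := maskOf (fun i => Nat.beq (f i) i) 24

theorem filter_fix_eq {σ : Equiv.Perm GolayPt} {f : ℕ → ℕ} (hf : enc.IsCode σ f) :
    (Finset.univ.filter fun p => σ p = p) = enc.finOf (fixM f) := by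
  ext a
  simp only [Finset.mem_filter, Finset.mem_univ, true_and, Enc.mem_finOf, fixM, testBit_maskOf]
  constructor
  · intro h
    refine ⟨enc.idx_lt a, ?_⟩
    rw [hf a, h]
    exact Nat.beq_refl _
  · rintro ⟨_, h⟩
    have := Nat.eq_of_beq_eq_true h
    rw [hf a] at this
    exact enc.idx_injective this

/-! ### Valid packed elements -/

/-- A packed element of `M24`. -/
noncomputable def vld (p : ℕ) : Bool := checkPerm 24 (pc p) && checkM24 (pc p)

theorem vld_code {p : ℕ} (h : vld p = true) : enc.IsCode (ppm p) (pc p) := by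
  simp only [vld, Bool.and_eq_true] at h
  exact enc.isCode_perm h.1

theorem vld_mem {p : ℕ} (h : vld p = true) : ppm p ∈ M24 := by
  simp only [vld, Bool.and_eq_true] at h
  exact mem_M24_of_check (enc.isCode_perm h.1) h.2

theorem vld_of_checkElt {extra L : List ℕ} {p : ℕ} (h : checkElt extra L p = true) : vld p = true := by
  simp only [checkElt, Bool.and_eq_true] at h
  simp only [vld, Bool.and_eq_true]
  exact h.1.1

/-! ### Chains: decomposition into transversals -/

theorem chainOK_decomp {G : Subgroup (Equiv.Perm GolayPt)} :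
    ∀ (lvls : List (GolayPt × List (Equiv.Perm GolayPt))) (l : List GolayPt), ChainOK G lvls l →
      ∀ σ ∈ stabL G l, ∃ ts : List (Equiv.Perm GolayPt),
        List.Forall₂ (fun t lv => t ∈ lv.2) ts lvls ∧ σ = ts.prod := by
  intro lvls
  induction lvls with
  | nil =>
    intro l h σ hσ
    exact ⟨[], List.Forall₂.nil, by rw [h σ hσ]; rfl⟩
  | cons x rest ih =>
    obtain ⟨b, T⟩ := x
    intro l h σ hσ
    obtain ⟨h1, h2, _, h4⟩ := h
    obtain ⟨t, ht, hb⟩ := h2 σ hσ
    have htinv : t⁻¹ * σ ∈ stabL G (b :: l) := by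
      have h5 : t⁻¹ * σ ∈ stabL G l := (stabL G l).mul_mem ((stabL G l).inv_mem (h1 t ht)) hσ
      refine ⟨h5.1, fun x hx => ?_⟩
      rcases List.mem_cons.1 hx with rfl | hx
      · rw [Equiv.Perm.mul_apply, ← hb]
        simp
      · exact h5.2 x hx
    obtain ⟨ts, hts, hprod⟩ := ih (b :: l) h4 _ htinv
    refine ⟨t :: ts, List.Forall₂.cons ht hts, ?_⟩
    rw [List.prod_cons, ← hprod]
    group

/-- Elements of a stabiliser in a checked chain are products of transversal elements. -/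
theorem chain_decomp {extra : List ℕ} {final : List (List ℕ × List ℕ)} {levels : List Level}
    {L : List ℕ} (hL : ∀ x ∈ L, x < 24) (h : checkChain extra final levels L = true)
    {σ : Equiv.Perm GolayPt} (hσ : σ ∈ stabL (GE extra) (L.map pt)) :
    ∃ ps : List ℕ, List.Forall₂ (fun p (lv : Level) => p ∈ lv.T) ps levels ∧ σ = (ps.map ppm).prod := by
  obtain ⟨ts, hts, hprod⟩ := chainOK_decomp _ _ (chainOK_of_check extra final levels L hL h) σ hσ
  clear hprod
  obtain ⟨ts, hts, hprod⟩ := chainOK_decomp _ _ (chainOK_of_check extra final levels L hL h) σ hσ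
  have key : ∀ (ts : List (Equiv.Perm GolayPt)) (lvs : List Level),
      List.Forall₂ (fun t (lv : GolayPt × List (Equiv.Perm GolayPt)) => t ∈ lv.2) ts (lvs.map Level.sem) →
      ∃ ps : List ℕ, List.Forall₂ (fun p (lv : Level) => p ∈ lv.T) ps lvs ∧ ts = ps.map ppm := by
    intro ts lvs
    induction lvs generalizing ts with
    | nil =>
      intro h
      cases h
      exact ⟨[], List.Forall₂.nil, rfl⟩
    | cons lv lvs ih =>
      intro h
      rw [List.map_cons] at h
      cases h with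
      | cons h1 h2 =>
        obtain ⟨ps, hps, rfl⟩ := ih _ h2
        simp only [Level.sem, List.mem_map] at h1
        obtain ⟨p, hp, rfl⟩ := h1
        exact ⟨p :: ps, List.Forall₂.cons hp hps, rfl⟩
  obtain ⟨ps, hps, rfl⟩ := key _ _ hts
  exact ⟨ps, hps, hprod⟩

theorem checkChain_tail {extra : List ℕ} {final : List (List ℕ × List ℕ)} {lv : Level}
    {rest : List Level} {L : List ℕ} (h : checkChain extra final (lv :: rest) L = true) :
    checkChain extra final rest (lv.b :: L) = true := by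
  have h' : checkLevel extra L lv = true ∧ checkChain extra final rest (lv.b :: L) = true := by
    simpa [checkChain] using h
  exact h'.2

theorem checkChain_tail' {extra : List ℕ} {final : List (List ℕ × List ℕ)} {lv : Level}
    {rest : List Level} {L : List ℕ} {b : ℕ} (hb : lv.b = b)
    (h : checkChain extra final (lv :: rest) L = true) :
    checkChain extra final rest (b :: L) = true := by
  rw [← hb]
  exact checkChain_tail h

/-- The chain tail after the first five base points. -/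
theorem check_tail5 : checkChain [] m24Final [m24Level6, m24Level7] [3, 2, 1, 0, 23] = true := by
  have h0 : checkChain [] m24Final [m24Level1, m24Level2, m24Level3, m24Level4, m24Level5,
    m24Level6, m24Level7] [] = true := m24_check
  have h1 := checkChain_tail' (b := 23) rfl h0
  have h2 := checkChain_tail' (b := 0) rfl h1
  have h3 := checkChain_tail' (b := 1) rfl h2
  have h4 := checkChain_tail' (b := 2) rfl h3
  exact checkChain_tail' (b := 3) rfl h4

/-- The first transversal of the stabiliser of the five base points. -/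
noncomputable abbrev T6 : List ℕ := m24Level6.T
/-- The second transversal of the stabiliser of the five base points. -/
noncomputable abbrev T7 : List ℕ := m24Level7.T

/-- The five base points, in the order of the chain. -/
abbrev L5 : List ℕ := [3, 2, 1, 0, 23]

theorem L5_lt : ∀ x ∈ L5, x < 24 := by decide

theorem exists_H_decomp {σ : Equiv.Perm GolayPt} (hσ : σ ∈ stabL M24 (L5.map pt)) :
    ∃ p ∈ T6, ∃ q ∈ T7, σ = ppm p * ppm q := by
  rw [← GE_nil] at hσ
  obtain ⟨ps, hps, hprod⟩ := chain_decomp L5_lt check_tail5 hσ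
  cases hps with
  | cons h1 h2 =>
    cases h2 with
    | cons h3 h4 =>
      cases h4
      exact ⟨_, h1, _, h3, by simpa using hprod⟩

theorem T6_check : T6.all (checkElt [] L5) = true := by decide +kernel
theorem T7_check : T7.all (checkElt [] (4 :: L5)) = true := by decide +kernel

theorem T6_vld {p : ℕ} (hp : p ∈ T6) : vld p = true :=
  vld_of_checkElt (List.all_eq_true.1 T6_check p hp)
theorem T7_vld {p : ℕ} (hp : p ∈ T7) : vld p = true :=
  vld_of_checkElt (List.all_eq_true.1 T7_check p hp)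

theorem T6_fix {p : ℕ} (hp : p ∈ T6) {x : ℕ} (hx : x ∈ L5) : pc p x = x := by
  have := List.all_eq_true.1 T6_check p hp
  simp only [checkElt, Bool.and_eq_true, List.all_eq_true] at this
  exact Nat.eq_of_beq_eq_true (this.2 x hx)

theorem T7_fix {p : ℕ} (hp : p ∈ T7) {x : ℕ} (hx : x ∈ 4 :: L5) : pc p x = x := by
  have := List.all_eq_true.1 T7_check p hp
  simp only [checkElt, Bool.and_eq_true, List.all_eq_true] at this
  exact Nat.eq_of_beq_eq_true (this.2 x hx)

theorem L5_mem_stab {p : ℕ} (hp : p ∈ T6) : ppm p ∈ stabL M24 (L5.map pt) := by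
  refine ⟨vld_mem (T6_vld hp), fun x hx => ?_⟩
  obtain ⟨i, hi, rfl⟩ := List.mem_map.1 hx
  rw [code_pt (vld_code (T6_vld hp)) (L5_lt i hi), T6_fix hp hi]

theorem L5_mem_stab' {p : ℕ} (hp : p ∈ T7) : ppm p ∈ stabL M24 (L5.map pt) := by
  refine ⟨vld_mem (T7_vld hp), fun x hx => ?_⟩
  obtain ⟨i, hi, rfl⟩ := List.mem_map.1 hx
  rw [code_pt (vld_code (T7_vld hp)) (L5_lt i hi), T7_fix hp (List.mem_cons_of_mem _ hi)]

/-- Two elements of `M24` agreeing at the five base points differ by an element of `T6 * T7`. -/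
theorem coset_base5 {σ τ : Equiv.Perm GolayPt} (hσ : σ ∈ M24) (hτ : τ ∈ M24)
    (h : ∀ i ∈ L5, τ (pt i) = σ (pt i)) : ∃ p ∈ T6, ∃ q ∈ T7, σ = τ * ppm p * ppm q := by
  have h1 : τ⁻¹ * σ ∈ stabL M24 (L5.map pt) := by
    refine ⟨M24.mul_mem (M24.inv_mem hτ) hσ, fun x hx => ?_⟩
    obtain ⟨i, hi, rfl⟩ := List.mem_map.1 hx
    rw [Equiv.Perm.mul_apply, ← h i hi]
    simp
  obtain ⟨p, hp, q, hq, h2⟩ := exists_H_decomp h1
  refine ⟨p, hp, q, hq, ?_⟩
  rw [mul_assoc, ← h2]
  group

/-- The orbits of the stabiliser of the base points on the rest: reductions. -/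
theorem H_reduce_check : allBelow (fun i => L5.contains i ||
    (T6.map fun p => pc p 4).contains i || (T7.map fun p => pc p 5).contains i) 24 = true := by
  decide +kernel

theorem H_reduce (z : GolayPt) (hz : idx z ∉ L5) :
    ∃ h ∈ stabL M24 (L5.map pt), h (pt 4) = z ∨ h (pt 5) = z := by
  have h1 := (allBelow_iff _ _).1 H_reduce_check _ (idx_lt z)
  simp only [Bool.or_eq_true, List.contains_iff_mem, List.mem_map] at h1
  rcases h1 with (h1 | ⟨p, hp, h1⟩) | ⟨p, hp, h1⟩
  · exact absurd h1 hz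
  · refine ⟨ppm p, L5_mem_stab hp, Or.inl ?_⟩
    rw [code_pt (vld_code (T6_vld hp)) (by norm_num), h1, pt_idx]
  · refine ⟨ppm p, L5_mem_stab' hp, Or.inr ?_⟩
    rw [code_pt (vld_code (T7_vld hp)) (by norm_num), h1, pt_idx]

/-! ### Five-transitivity in convenient form -/

theorem exists_map5 {a b c d e : GolayPt} (hab : a ≠ b) (hac : a ≠ c) (had : a ≠ d) (hae : a ≠ e)
    (hbc : b ≠ c) (hbd : b ≠ d) (hbe : b ≠ e) (hcd : c ≠ d) (hce : c ≠ e) (hde : d ≠ e) :
    ∃ k ∈ M24, k a = pt 23 ∧ k b = pt 0 ∧ k c = pt 1 ∧ k d = pt 2 ∧ k e = pt 3 := by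
  let x : Fin 5 ↪ GolayPt := ⟨![a, b, c, d, e], by
    intro i j h
    fin_cases i <;> fin_cases j <;> simp_all⟩
  obtain ⟨g, hg, hgx⟩ := exists_M24_base5 x
  refine ⟨g⁻¹, M24.inv_mem hg, ?_⟩
  have key : ∀ i, g⁻¹ (x i) = base5 i := fun i => by rw [← hgx i]; simp
  exact ⟨key 0, key 1, key 2, key 3, key 4⟩

/-- Completing a list of points to five distinct points, and mapping to the base. -/
theorem exists_ne_of_finset (s : Finset GolayPt) (hs : s.card < 24) : ∃ x, x ∉ s := by
  by_contra h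
  push Not at h
  have : s = Finset.univ := Finset.eq_univ_of_forall h
  rw [this] at hs
  exact absurd hs (by decide)

/-! ### Octads from masks -/

theorem octad_of_mask {m : ℕ} (h : (inCode m && Nat.beq (Enc.popAux m 24) 8) = true) :
    enc.finOf m ∈ octads := by
  simp only [Bool.and_eq_true] at h
  refine ⟨⟨wordOf m, mem_of_inCode h.1, support_wordOf m⟩, ?_⟩
  rw [card_enc_finOf]
  exact Nat.eq_of_beq_eq_true h.2

/-- An octad through `23`, missing `0` and `1`. -/
theorem wit_octad : enc.finOf 8401364 ∈ octads := octad_of_mask (by decide +kernel)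

theorem moved_aux {σ : Equiv.Perm GolayPt} (hσ : σ ∈ M24)
    (hfix : ∀ a, a ≠ pt 23 → a ≠ pt 0 → a ≠ pt 1 → σ a = a) : σ (pt 23) ≠ pt 0 := by
  intro h
  have hs : (enc.finOf 12756 : Finset GolayPt) ⊆ enc.finOf 8401364 := by decide +kernel
  have hc : 5 ≤ (enc.finOf 12756 : Finset GolayPt).card := by decide +kernel
  have hne : ∀ a ∈ (enc.finOf 12756 : Finset GolayPt), a ≠ pt 23 ∧ a ≠ pt 0 ∧ a ≠ pt 1 := by
    decide +kernel
  have h1 := image_octad_eq hσ wit_octad hs hc fun a ha =>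
    hfix a (hne a ha).1 (hne a ha).2.1 (hne a ha).2.2
  have h2 : pt 23 ∈ (enc.finOf 8401364 : Finset GolayPt) := by decide +kernel
  have h3 : pt 0 ∉ (enc.finOf 8401364 : Finset GolayPt) := by decide +kernel
  apply h3
  rw [← h1, Finset.mem_image]
  exact ⟨_, h2, h⟩

/-- Points other than a given small list. -/
theorem exists_fresh (l : List GolayPt) (hl : l.length < 24) : ∃ x, x ∉ l := by
  have h1 : l.toFinset.card < 24 := lt_of_le_of_lt (List.toFinset_card_le l) hl
  obtain ⟨x, hx⟩ := exists_ne_of_finset _ h1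
  exact ⟨x, fun h => hx (List.mem_toFinset.2 h)⟩

/-- A non-identity element moving `x` moves a point outside `x, g x, g (g x)`. -/
theorem exists_moved_outside {g : Equiv.Perm GolayPt} (hg : g ∈ M24) {x : GolayPt} (hx : g x ≠ x) :
    ∃ u, u ≠ x ∧ u ≠ g x ∧ u ≠ g (g x) ∧ g u ≠ u := by
  by_contra hcon
  push Not at hcon
  have hcon' : ∀ u, u ≠ x → u ≠ g x → u ≠ g (g x) → g u = u := hcon
  -- a third point
  obtain ⟨c, hc⟩ : ∃ c, c ≠ x ∧ c ≠ g x ∧ (g (g x) ≠ x → c = g (g x)) := by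
    by_cases h : g (g x) = x
    · obtain ⟨c, hc⟩ := exists_fresh [x, g x] (by simp)
      refine ⟨c, fun h' => hc (by simp [h']), fun h' => hc (by simp [h']), fun h' => absurd h h'⟩
    · exact ⟨g (g x), fun h' => h h', fun h' => hx (g.injective h'), fun _ => rfl⟩
  obtain ⟨d, hd⟩ := exists_fresh [x, g x, c] (by simp)
  obtain ⟨e, he⟩ := exists_fresh [x, g x, c, d] (by simp)
  simp only [List.mem_cons, List.not_mem_nil, or_false, not_or] at hd he
  obtain ⟨k, hk, h1, h2, h3, -, -⟩ := exists_map5 (Ne.symm hx) (Ne.symm hc.1) (Ne.symm hd.1)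
    (Ne.symm he.1) (Ne.symm hc.2.1) (Ne.symm hd.2.1) (Ne.symm he.2.1) (Ne.symm hd.2.2)
    (Ne.symm he.2.2.1) (Ne.symm he.2.2.2)
  have hm : k * g * k⁻¹ ∈ M24 := M24.mul_mem (M24.mul_mem hk hg) (M24.inv_mem hk)
  refine moved_aux hm (fun a ha1 ha2 ha3 => ?_) ?_
  · show k (g (k⁻¹ a)) = a
    have hkx : ∀ b, k⁻¹ a = b → k b = a := fun b hb => by rw [← hb]; simp
    have e1 : k⁻¹ a ≠ x := fun h => ha1 (by rw [← hkx x h, h1])
    have e2 : k⁻¹ a ≠ g x := fun h => ha2 (by rw [← hkx _ h, h2])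
    have e3 : k⁻¹ a ≠ g (g x) := by
      intro h
      by_cases h' : g (g x) = x
      · exact e1 (h.trans h')
      · apply ha3
        rw [← hkx _ h, ← hc.2.2 h', h3]
    rw [hcon' _ e1 e2 e3]
    simp
  · show k (g (k⁻¹ (pt 23))) = pt 0
    rw [← h1]
    simp [h2]

/-! ### Normal forms for involutions and elements of order three -/

/-- Every involution of `M24` is conjugate to one with prescribed images of the base points. -/
theorem involution_normal_form {g : Equiv.Perm GolayPt} (hg : g ∈ M24) (h2 : g * g = 1)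
    (h1 : g ≠ 1) : ∃ k ∈ M24, (k * g * k⁻¹) (pt 23) = pt 0 ∧ (k * g * k⁻¹) (pt 0) = pt 23 ∧
      (k * g * k⁻¹) (pt 1) = pt 2 ∧ (k * g * k⁻¹) (pt 2) = pt 1 ∧
      ((k * g * k⁻¹) (pt 3) = pt 3 ∨ (k * g * k⁻¹) (pt 3) = pt 4 ∨ (k * g * k⁻¹) (pt 3) = pt 5) := by
  have hgg : ∀ a, g (g a) = a := fun a => by
    have := congrArg (fun s : Equiv.Perm GolayPt => s a) h2
    simpa using this
  obtain ⟨x, hx⟩ : ∃ x, g x ≠ x := by
    by_contra hc
    push Not at hc
    exact h1 (Equiv.ext hc)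
  obtain ⟨u, hu1, hu2, hu3, hu4⟩ := exists_moved_outside hg hx
  have hgu1 : g u ≠ x := fun h => hu2 (by rw [← h, hgg])
  have hgu2 : g u ≠ g x := fun h => hu1 (g.injective h)
  obtain ⟨w, hw⟩ := exists_fresh [g x, x, u, g u] (by simp)
  simp only [List.mem_cons, List.not_mem_nil, or_false, not_or] at hw
  obtain ⟨k, hk, e1, e2, e3, e4, e5⟩ := exists_map5 (Ne.symm hx) (Ne.symm hu1) hgu1.symm (Ne.symm hw.2.1)
    (Ne.symm hu2) hgu2.symm (Ne.symm hw.1) (Ne.symm hu4) (Ne.symm hw.2.2.1) (Ne.symm hw.2.2.2)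
  have hinv : ∀ y, k⁻¹ (k y) = y := fun y => by simp
  have v0 : (k * g * k⁻¹) (pt 23) = pt 0 := by
    show k (g (k⁻¹ (pt 23))) = _
    rw [← e1, hinv, e2]
  have v1 : (k * g * k⁻¹) (pt 0) = pt 23 := by
    show k (g (k⁻¹ (pt 0))) = _
    rw [← e2, hinv, hgg, e1]
  have v2 : (k * g * k⁻¹) (pt 1) = pt 2 := by
    show k (g (k⁻¹ (pt 1))) = _
    rw [← e3, hinv, e4]
  have v3 : (k * g * k⁻¹) (pt 2) = pt 1 := by
    show k (g (k⁻¹ (pt 2))) = _
    rw [← e4, hinv, hgg, e3]
  set g' := k * g * k⁻¹ with hg'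
  have hm : g' ∈ M24 := M24.mul_mem (M24.mul_mem hk hg) (M24.inv_mem hk)
  by_cases hz : idx (g' (pt 3)) ∈ L5
  · -- `g' 3` must be `3`
    refine ⟨k, hk, v0, v1, v2, v3, Or.inl ?_⟩
    have hne : ∀ j ∈ [2, 1, 0, 23], j < 24 → g' (pt 3) ≠ pt j := by
      intro j hj _ h
      simp only [List.mem_cons, List.not_mem_nil, or_false] at hj
      have h3 : (pt 3 : GolayPt) ≠ pt 23 ∧ (pt 3 : GolayPt) ≠ pt 0 ∧ (pt 3 : GolayPt) ≠ pt 1 ∧
        (pt 3 : GolayPt) ≠ pt 2 := by decide
      rcases hj with rfl | rfl | rfl | rfl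
      · exact h3.2.2.1 (g'.injective (h.trans v2.symm))
      · exact h3.2.2.2 (g'.injective (h.trans v3.symm))
      · exact h3.1 (g'.injective (h.trans v0.symm))
      · exact h3.2.1 (g'.injective (h.trans v1.symm))
    have h5 : idx (g' (pt 3)) = 3 ∨ idx (g' (pt 3)) = 2 ∨ idx (g' (pt 3)) = 1 ∨ idx (g' (pt 3)) = 0 ∨
        idx (g' (pt 3)) = 23 := by simpa using hz
    rcases h5 with h5 | h5 | h5 | h5 | h5
    · rw [← pt_idx (g' (pt 3)), h5]
    · exact absurd (by rw [← pt_idx (g' (pt 3)), h5]) (hne 2 (by simp) (by norm_num))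
    · exact absurd (by rw [← pt_idx (g' (pt 3)), h5]) (hne 1 (by simp) (by norm_num))
    · exact absurd (by rw [← pt_idx (g' (pt 3)), h5]) (hne 0 (by simp) (by norm_num))
    · exact absurd (by rw [← pt_idx (g' (pt 3)), h5]) (hne 23 (by simp) (by norm_num))
  · obtain ⟨h, hh, h6⟩ := H_reduce _ hz
    have hfix : ∀ i ∈ L5, h (pt i) = pt i := fun i hi => hh.2 _ (List.mem_map_of_mem hi)
    have hfix' : ∀ i ∈ L5, h⁻¹ (pt i) = pt i := fun i hi => by
      rw [Equiv.Perm.inv_eq_iff_eq]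
      exact (hfix i hi).symm
    refine ⟨h⁻¹ * k, M24.mul_mem (M24.inv_mem hh.1) hk, ?_⟩
    have hrw : (h⁻¹ * k) * g * (h⁻¹ * k)⁻¹ = h⁻¹ * g' * h := by
      rw [hg']; group
    rw [hrw]
    have val : ∀ i ∈ L5, ∀ j ∈ L5, g' (pt i) = pt j → (h⁻¹ * g' * h) (pt i) = pt j := by
      intro i hi j hj hij
      show h⁻¹ (g' (h (pt i))) = _
      rw [hfix i hi, hij, hfix' j hj]
    refine ⟨val 23 (by simp) 0 (by simp) v0, val 0 (by simp) 23 (by simp) v1,
      val 1 (by simp) 2 (by simp) v2, val 2 (by simp) 1 (by simp) v3, Or.inr ?_⟩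
    have h7 : (h⁻¹ * g' * h) (pt 3) = h⁻¹ (g' (pt 3)) := by
      show h⁻¹ (g' (h (pt 3))) = _
      rw [hfix 3 (by simp)]
    rw [h7]
    rcases h6 with h6 | h6
    · left
      rw [← h6]; simp
    · right
      rw [← h6]; simp

end Cfsg.Agent.Lib.M24
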