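import Cfsg.Agent.Lib.M24.Three

/-!
# Enumerating elements of `M24` with structured images of the base
-/

set_option autoImplicit false

namespace Cfsg.Agent.Lib.M24

open Cfsg Cfsg.Agent.Lib.Compute Cfsg.Agent.Lib.Golay
open scoped Pointwise

/-- The five base points by position. -/
noncomputable def baseAt (i : ℕ) : ℕ := pget 5 31 3212311 i

theorem baseAt_vals : baseAt 0 = 23 ∧ baseAt 1 = 0 ∧ baseAt 2 = 1 ∧ baseAt 3 = 2 ∧ baseAt 4 = 3 := by
  decide +kernel

theorem baseAt_lt : ∀ i, i < 5 → baseAt i < 24 := by decide +kernel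
theorem baseAt_inj : ∀ i, i < 5 → ∀ j, j < i → baseAt i ≠ baseAt j := by decide +kernel

theorem baseAt_mem (i : ℕ) (hi : i ∈ L5) : ∃ j, j < 5 ∧ baseAt j = i := by
  obtain ⟨h0, h1, h2, h3, h4⟩ := baseAt_vals
  simp only [L5, List.mem_cons, List.not_mem_nil, or_false] at hi
  rcases hi with rfl | rfl | rfl | rfl | rfl
  · exact ⟨4, by norm_num, h4⟩
  · exact ⟨3, by norm_num, h3⟩
  · exact ⟨2, by norm_num, h2⟩
  · exact ⟨1, by norm_num, h1⟩
  · exact ⟨0, by norm_num, h0⟩

/-- One step of the enumeration check: `I` gives the images of the base positions; if they are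
distinct, then `t` is a valid element with these images and all the elements of its coset satisfy `Φ`. -/
noncomputable def enumStep (I : ℕ → ℕ) (t : ℕ) (Φ : (ℕ → ℕ) → Bool) : Bool :=
  !(allBelow (fun i => allBelow (fun j => !(Nat.beq (I i) (I j))) i) 5) ||
    (vld t && allBelow (fun i => Nat.beq (pc t (baseAt i)) (I i)) 5 &&
      T6.all fun p => T7.all fun q => Φ fun i => pc t (pc p (pc q i)))

/-- The enumeration check over a parameter space. -/
noncomputable def enumChk (N : ℕ) (I : ℕ → ℕ → ℕ) (tbl : ℕ → ℕ) (Φ : (ℕ → ℕ) → Bool) : Bool :=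
  allBelow (fun n => enumStep (I n) (tbl n) Φ) N

theorem enum_spec {N : ℕ} {I : ℕ → ℕ → ℕ} {tbl : ℕ → ℕ} {Φ : (ℕ → ℕ) → Bool}
    (h : enumChk N I tbl Φ = true) {σ : Equiv.Perm GolayPt} (hσ : σ ∈ M24) {n : ℕ} (hn : n < N)
    (himg : ∀ i, i < 5 → I n i = idx (σ (pt (baseAt i)))) :
    ∃ f, enc.IsCode σ f ∧ Φ f = true := by
  have h1 := (allBelow_iff _ _).1 h n hn
  simp only [enumStep, Bool.or_eq_true, Bool.not_eq_true', Bool.and_eq_true, List.all_eq_true] at h1
  rcases h1 with h1 | ⟨⟨h2, h3⟩, h4⟩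
  · exfalso
    have : allBelow (fun i => allBelow (fun j => !(Nat.beq (I n i) (I n j))) i) 5 = true := by
      refine (allBelow_iff _ _).2 fun i hi => (allBelow_iff _ _).2 fun j hj => ?_
      rw [Bool.not_eq_true']
      have hne : I n i ≠ I n j := by
        rw [himg i hi, himg j (by omega)]
        intro e
        have e1 := σ.injective (enc.idx_injective e)
        exact baseAt_inj i hi j hj (pt_inj (baseAt_lt i hi) (baseAt_lt j (by omega)) e1)
      cases hb : Nat.beq (I n i) (I n j)
      · rfl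
      · exact absurd (Nat.eq_of_beq_eq_true hb) hne
    rw [this] at h1
    exact Bool.noConfusion h1
  · have hag : ∀ i ∈ L5, pt (pc (tbl n) i) = σ (pt i) := by
      intro i hi
      obtain ⟨j, hj, rfl⟩ := baseAt_mem i hi
      have h5 := Nat.eq_of_beq_eq_true ((allBelow_iff _ _).1 h3 j hj)
      rw [h5, himg j hj, pt_idx]
    obtain ⟨p, hp, q, hq, hcode⟩ := exists_code_of_agree hσ h2 hag
    exact ⟨_, hcode, h4 p hp q hq⟩

/-- A table of packed elements. -/
noncomputable def tbl120 (P n : ℕ) : ℕ := pget 120 1329227995784915872903807060280344575 P n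

/-! ### Sets of group elements given by lists -/

/-- The key of a packed element: the images of the seven base points. -/
noncomputable def keyOf (f : ℕ → ℕ) : ℕ :=
  Nat.add (f 23) (Nat.mul 32 (Nat.add (f 0) (Nat.mul 32 (Nat.add (f 1) (Nat.mul 32 (Nat.add (f 2)
    (Nat.mul 32 (Nat.add (f 3) (Nat.mul 32 (Nat.add (f 4) (Nat.mul 32 (f 5))))))))))))

/-- A list of numbers is strictly increasing. -/
noncomputable def ascB : List ℕ → Bool
  | [] => true
  | a :: l => l.all (fun b => Nat.blt a b) && ascB l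

theorem ascB_pairwise {l : List ℕ} (h : ascB l = true) : l.Pairwise (· < ·) := by
  induction l with
  | nil => exact List.Pairwise.nil
  | cons a l ih =>
    simp only [ascB, Bool.and_eq_true, List.all_eq_true] at h
    refine List.Pairwise.cons (fun b hb => ?_) (ih h.2)
    simpa [Nat.blt_eq] using h.1 b hb

theorem card_of_list {A : Set (Equiv.Perm GolayPt)} {L : List ℕ} (hv : ∀ p ∈ L, vld p = true)
    (hmem : ∀ p ∈ L, ppm p ∈ A) (hcover : ∀ σ ∈ A, ∃ p ∈ L, σ = ppm p)
    (hnd : (L.map fun p => keyOf (pc p)).Nodup) : A.ncard = L.length := by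
  classical
  have hkey : ∀ p ∈ L, ∀ q ∈ L, ppm p = ppm q → keyOf (pc p) = keyOf (pc q) := by
    intro p hp q hq h
    have hpc : ∀ i, i < 24 → pc p i = pc q i := by
      intro i hi
      have h1 := (vld_code (hv p hp)) (pt i)
      have h2 := (vld_code (hv q hq)) (pt i)
      simp only [enc_idx] at h1 h2
      rw [idx_pt hi] at h1 h2
      rw [h1, h2, h]
    simp only [keyOf]
    rw [hpc 23 (by norm_num), hpc 0 (by norm_num), hpc 1 (by norm_num), hpc 2 (by norm_num),
      hpc 3 (by norm_num), hpc 4 (by norm_num), hpc 5 (by norm_num)]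
  have hinj : Set.InjOn ppm (L.toFinset : Set ℕ) := by
    intro p hp q hq h
    have hp' : p ∈ L := by simpa using hp
    have hq' : q ∈ L := by simpa using hq
    have := hkey p hp' q hq' h
    exact List.inj_on_of_nodup_map hnd hp' hq' this
  have hL : L.Nodup := List.Nodup.of_map _ hnd
  have hset : A = ppm '' (L.toFinset : Set ℕ) := by
    ext σ
    constructor
    · intro h
      obtain ⟨p, hp, rfl⟩ := hcover σ h
      exact ⟨p, by simpa using hp, rfl⟩
    · rintro ⟨p, hp, rfl⟩
      exact hmem p (by simpa using hp)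
  rw [hset, Set.InjOn.ncard_image hinj, Set.ncard_coe_finset, List.toFinset_card_of_nodup hL]

theorem nodup_keys_of_asc {L : List ℕ} (h : ascB (L.map fun p => keyOf (pc p)) = true) :
    (L.map fun p => keyOf (pc p)).Nodup :=
  (ascB_pairwise h).imp (fun h => ne_of_lt h)

end Cfsg.Agent.Lib.M24
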