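import Cfsg.Agent.Lib.M24.OctOct
import Cfsg.Agent.Lib.Golay.Dodecad2

/-!
# Restriction homomorphisms and isomorphisms with the symmetric group of degree 6
-/

set_option autoImplicit false

namespace Cfsg.Agent.Lib.M24

open Cfsg Cfsg.Agent.Lib.Compute Cfsg.Agent.Lib.Golay
open scoped Pointwise

theorem mem_iff_of_smul_eq {σ : Equiv.Perm GolayPt} {C : Finset GolayPt} (h : σ • C = C) (x : GolayPt) :
    σ x ∈ C ↔ x ∈ C := by
  constructor
  · intro hx
    rw [← h] at hx
    obtain ⟨y, hy, hye⟩ := Finset.mem_smul_finset.1 hx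
    have : y = x := σ.injective hye
    exact this ▸ hy
  · intro hx
    rw [← h]
    exact Finset.mem_smul_finset.2 ⟨x, hx, rfl⟩

/-- The restriction of a subgroup of `M24` preserving `C` to the points of `C`. -/
def resHom {C : Finset GolayPt} (H : Subgroup ↥M24) (hH : ∀ h ∈ H, (h : ↥M24).1 • C = C) : ↥H →* Equiv.Perm ↥C where
  toFun h := (h.1.1).subtypePerm (fun x => mem_iff_of_smul_eq (hH h.1 h.2) x)
  map_one' := by
    ext x
    rfl
  map_mul' a b := by
    ext x
    rfl

theorem resHom_apply {C : Finset GolayPt} {H : Subgroup ↥M24} {hH : ∀ h ∈ H, (h : ↥M24).1 • C = C} (h : ↥H) (x : ↥C) :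
    (resHom H hH h x : GolayPt) = h.1.1 x := rfl

/-- An injective restriction from a group of order 720 gives the symmetric group. -/
theorem iso_perm_fin6 {J : Type*} [Group J] (hcard : Nat.card J = 720) {C : Finset GolayPt} (hC : C.card = 6)
    (φ : J →* Equiv.Perm ↥C) (hφ : Function.Injective φ) : Nonempty (J ≃* Equiv.Perm (Fin 6)) := by
  classical
  have hc2 : Nat.card (Equiv.Perm ↥C) = 720 := by
    rw [Nat.card_eq_fintype_card, Fintype.card_perm, Fintype.card_coe, hC]
    rfl
  have hJ : Finite J := Nat.finite_of_card_ne_zero (by omega)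
  have hb : Function.Bijective φ := by
    refine (Nat.bijective_iff_injective_and_card φ).2 ⟨hφ, ?_⟩
    rw [hcard, hc2]
  let e1 : J ≃* Equiv.Perm ↥C := MulEquiv.ofBijective φ hb
  let e2 : ↥C ≃ Fin 6 := Finset.equivFinOfCardEq hC
  exact ⟨e1.trans e2.permCongrHom⟩

/-- Conjugation between joint stabilisers. -/
def jointConj {G W Z : Type*} [Group G] [MulAction G W] [MulAction G Z] (g : G) (x : W) (y : Z) :
    ↥(MulAction.stabilizer G x ⊓ MulAction.stabilizer G y) ≃*
      ↥(MulAction.stabilizer G (g • x) ⊓ MulAction.stabilizer G (g • y)) where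
  toFun s := ⟨g * s.1 * g⁻¹, by
    have h : s.1 • x = x := s.2.1
    show (g * s.1 * g⁻¹) • g • x = g • x
    rw [mul_smul, mul_smul, inv_smul_smul, h], by
    have h : s.1 • y = y := s.2.2
    show (g * s.1 * g⁻¹) • g • y = g • y
    rw [mul_smul, mul_smul, inv_smul_smul, h]⟩
  invFun s := ⟨g⁻¹ * s.1 * g, by
    have h : s.1 • g • x = g • x := s.2.1
    show (g⁻¹ * s.1 * g) • x = x
    rw [mul_smul, mul_smul, h, inv_smul_smul], by
    have h : s.1 • g • y = g • y := s.2.2
    show (g⁻¹ * s.1 * g) • y = y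
    rw [mul_smul, mul_smul, h, inv_smul_smul]⟩
  left_inv s := by
    ext
    show g⁻¹ * (g * s.1 * g⁻¹) * g = s.1
    group
  right_inv s := by
    ext
    show g * (g⁻¹ * s.1 * g) * g⁻¹ = s.1
    group
  map_mul' a b := by
    ext
    show g * (a.1 * b.1) * g⁻¹ = (g * a.1 * g⁻¹) * (g * b.1 * g⁻¹)
    group

/-- An element of `M24` stabilising a dodecad and fixing at least five of its points is trivial. -/
theorem eq_one_of_five {g : Equiv.Perm GolayPt} (hg : g ∈ M24) {d : Finset GolayPt} (hd : d ∈ dodecads)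
    (hgd : g • d = d) {F : Finset GolayPt} (hF : F ⊆ d) (hc : 5 ≤ F.card) (hfix : ∀ p ∈ F, g p = p) : g = 1 := by
  obtain ⟨F', hF', hc'⟩ := Finset.exists_subset_card_eq hc
  let x : Fin 5 ↪ GolayPt := ((Finset.equivFinOfCardEq hc').symm.toEmbedding).trans (Function.Embedding.subtype _)
  have hx : ∀ i, x i ∈ F' := fun i => ((Finset.equivFinOfCardEq hc').symm i).2
  have hxd : ∀ i, x i ∈ d := fun i => hF (hF' (hx i))
  obtain ⟨u, -, huu⟩ := sharply_five_transitive hd x x hxd hxd
  have h1 : (⟨⟨g, hg⟩, hgd⟩ : MulAction.stabilizer M24 d) = u := huu _ fun i => hfix _ (hF' (hx i))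
  have h2 : (1 : MulAction.stabilizer M24 d) = u := huu _ fun i => rfl
  have h3 := h1.trans h2.symm
  exact congrArg (fun z : MulAction.stabilizer M24 d => ((z : M24) : Equiv.Perm GolayPt)) h3

end Cfsg.Agent.Lib.M24
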