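import Cfsg.Agent.Lib.M24.Oct15
import Cfsg.Agent.Lib.M24.Sym6

/-!
# The octad stabiliser induces the alternating group on the octad
-/

set_option autoImplicit false

namespace Cfsg.Agent.Lib.M24

open Cfsg Cfsg.Agent.Lib.Compute Cfsg.Agent.Lib.Golay
open scoped Pointwise

theorem E16_fpf : E16.all (fun p => idF (pc p) || allBelow (fun i => tb O0 i || !(Nat.beq (pc p i) i)) 24) = true := by
  decide +kernel

theorem eq_one_of_fix_O0 {h : Equiv.Perm GolayPt} (hh : h ∈ M24) (hf : ∀ q ∈ (enc.finOf O0 : Finset GolayPt), h q = q)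
    {a : GolayPt} (ha : a ∉ (enc.finOf O0 : Finset GolayPt)) (hfix : h a = a) : h = 1 := by
  obtain ⟨p, hp, rfl⟩ := mem_E16_of_fix hh hf
  have h1 := List.all_eq_true.1 E16_fpf p hp
  simp only [Bool.or_eq_true] at h1
  rcases h1 with h1 | h1
  · exact (idF_iff (E16_code hp)).1 h1
  · exfalso
    have h2 := (allBelow_iff _ _).1 h1 (idx a) (idx_lt a)
    have h3 : tb O0 (idx a) = false := by
      rw [tb_eq]
      simpa using ha
    rw [h3] at h2
    have h4 := E16_code hp a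
    simp only [enc_idx] at h4
    rw [h4, hfix] at h2
    simp at h2

theorem eq_one_of_fix_octad {o : Finset GolayPt} (ho : o ∈ octads) {h : Equiv.Perm GolayPt} (hh : h ∈ M24)
    (hf : ∀ q ∈ o, h q = q) {a : GolayPt} (ha : a ∉ o) (hfix : h a = a) : h = 1 := by
  obtain ⟨g, rfl⟩ := octads_transitive O0_octad ho
  have hg : ∀ q, g • q = g.1 q := fun _ => rfl
  have h1 : g.1⁻¹ * h * g.1 = 1 := by
    apply eq_one_of_fix_O0 (a := g.1⁻¹ a) (M24.mul_mem (M24.mul_mem (M24.inv_mem g.2) hh) g.2)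
    · intro q hq
      have h2 : g.1 q ∈ g • (enc.finOf O0 : Finset GolayPt) := Finset.mem_smul_finset.2 ⟨q, hq, rfl⟩
      show g.1⁻¹ (h (g.1 q)) = q
      rw [hf _ h2]
      simp
    · intro hq
      apply ha
      have h2 : g.1 (g.1⁻¹ a) ∈ g • (enc.finOf O0 : Finset GolayPt) := Finset.mem_smul_finset.2 ⟨_, hq, rfl⟩
      simpa using h2
    · show g.1⁻¹ (h (g.1 (g.1⁻¹ a))) = g.1⁻¹ a
      simp [hfix]
  have h2 : h = g.1 * (g.1⁻¹ * h * g.1) * g.1⁻¹ := by group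
  rw [h2, h1]
  simp

theorem exists_fix_octad {o : Finset GolayPt} (ho : o ∈ octads) {a b : GolayPt} (ha : a ∉ o) (hb : b ∉ o) :
    ∃ k ∈ M24, (∀ q ∈ o, k q = q) ∧ k a = b := by
  obtain ⟨g, rfl⟩ := octads_transitive O0_octad ho
  have hout : ∀ x, x ∉ g • (enc.finOf O0 : Finset GolayPt) → g.1⁻¹ x ∉ (enc.finOf O0 : Finset GolayPt) := by
    intro x hx hq
    apply hx
    have h2 : g.1 (g.1⁻¹ x) ∈ g • (enc.finOf O0 : Finset GolayPt) := Finset.mem_smul_finset.2 ⟨_, hq, rfl⟩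
    simpa using h2
  obtain ⟨p1, hp1, e1⟩ := exists_E16 (hout a ha)
  obtain ⟨p2, hp2, e2⟩ := exists_E16 (hout b hb)
  refine ⟨g.1 * (ppm p2 * (ppm p1)⁻¹) * g.1⁻¹, M24.mul_mem (M24.mul_mem g.2 (M24.mul_mem (E16_mem hp2) (M24.inv_mem (E16_mem hp1)))) (M24.inv_mem g.2), ?_, ?_⟩
  · intro q hq
    obtain ⟨r, hr, rfl⟩ := Finset.mem_smul_finset.1 hq
    have hrr : (g • r) = g.1 r := rfl
    rw [hrr]
    simp only [Equiv.Perm.mul_apply]
    have h3 : (ppm p1)⁻¹ r = r := by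
      rw [Equiv.Perm.inv_eq_iff_eq]
      exact (E16_fix hp1 hr).symm
    have h4 : g.1⁻¹ (g.1 r) = r := by simp
    rw [h4, h3, E16_fix hp2 hr]
  · simp only [Equiv.Perm.mul_apply]
    have h3 : (ppm p1)⁻¹ (g.1⁻¹ a) = pt 4 := by
      rw [Equiv.Perm.inv_eq_iff_eq]
      exact e1.symm
    rw [h3, e2]
    simp

/-- The pointwise stabiliser of a set. -/
abbrev Kfix (o : Finset GolayPt) : Subgroup (Equiv.Perm GolayPt) :=
  M24 ⊓ fixingSubgroup (Equiv.Perm GolayPt) (o : Set GolayPt)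

theorem mem_Kfix {o : Finset GolayPt} {k : Equiv.Perm GolayPt} : k ∈ Kfix o ↔ k ∈ M24 ∧ ∀ q ∈ o, k q = q := by
  rw [Subgroup.mem_inf, mem_fixingSubgroup_iff]
  rfl

theorem exists_not_mem_octad {o : Finset GolayPt} (ho : o ∈ octads) : ∃ a, a ∉ o := by
  by_contra h
  push Not at h
  have h1 : o = Finset.univ := Finset.eq_univ_of_forall h
  have h2 := octads_card ho
  rw [h1] at h2
  revert h2
  decide

/-- The pointwise stabiliser of an octad has order 16. -/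
theorem card_Kfix {o : Finset GolayPt} (ho : o ∈ octads) : Nat.card (Kfix o) = 16 := by
  classical
  obtain ⟨a, ha⟩ := exists_not_mem_octad ho
  have hcard : Nat.card {x // x ∉ o} = 16 := by
    rw [Nat.card_eq_fintype_card, Fintype.card_subtype_compl]
    simp only [Fintype.card_coe]
    rw [octads_card ho]
    rfl
  rw [← hcard]
  apply Nat.card_congr
  refine Equiv.ofBijective (fun k => ⟨k.1 a, ?_⟩) ⟨?_, ?_⟩
  · intro hq
    have hk := (mem_Kfix.1 k.2).2
    have h1 := hk _ hq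
    exact ha (by rw [← k.1.injective h1]; exact hq)
  · intro k l hkl
    have hkl' : k.1 a = l.1 a := congrArg Subtype.val hkl
    have hk := mem_Kfix.1 k.2
    have hl := mem_Kfix.1 l.2
    have h1 : l.1⁻¹ * k.1 = 1 := by
      apply eq_one_of_fix_octad ho (M24.mul_mem (M24.inv_mem hl.1) hk.1) _ ha
      · rw [Equiv.Perm.mul_apply, hkl']
        simp
      · intro q hq
        rw [Equiv.Perm.mul_apply, hk.2 q hq, Equiv.Perm.inv_eq_iff_eq, hl.2 q hq]
    exact Subtype.ext (inv_mul_eq_one.1 h1).symm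
  · rintro ⟨b, hb⟩
    obtain ⟨k, hk, hf, hab⟩ := exists_fix_octad ho ha hb
    exact ⟨⟨k, mem_Kfix.2 ⟨hk, hf⟩⟩, Subtype.ext hab⟩

theorem stab_smul_self {o : Finset GolayPt} (h : ↥(MulAction.stabilizer ↥M24 o)) : (h : ↥M24).1 • o = o := h.2

/-- The action of the stabiliser of a set on the set. -/
noncomputable def oRes (o : Finset GolayPt) : ↥(MulAction.stabilizer ↥M24 o) →* Equiv.Perm ↥o :=
  resHom (MulAction.stabilizer ↥M24 o) fun _ hh => hh

theorem oRes_apply {o : Finset GolayPt} (h : ↥(MulAction.stabilizer ↥M24 o)) (x : ↥o) :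
    (oRes o h x : GolayPt) = h.1.1 x := rfl

theorem oRes_ker {o : Finset GolayPt} (h : ↥(MulAction.stabilizer ↥M24 o)) :
    h ∈ (oRes o).ker ↔ h.1.1 ∈ Kfix o := by
  rw [MonoidHom.mem_ker, mem_Kfix]
  constructor
  · intro h1
    refine ⟨h.1.2, fun q hq => ?_⟩
    have h2 := congrArg (fun e : Equiv.Perm ↥o => ((e ⟨q, hq⟩ : ↥o) : GolayPt)) h1
    exact h2
  · rintro ⟨_, h2⟩
    exact Equiv.ext fun x => Subtype.ext (h2 x x.2)

/-- The range of the action is the alternating group. -/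
theorem oRes_range {o : Finset GolayPt} (ho : o ∈ octads) : (oRes o).range = alternatingGroup ↥o := by
  classical
  have hS := card_stabilizer_octad ho
  have hker : Nat.card (oRes o).ker = 16 := by
    rw [← card_Kfix ho]
    apply Nat.card_congr
    refine
      { toFun := fun k => ⟨k.1.1.1, (oRes_ker k.1).1 k.2⟩
        invFun := fun k => ⟨⟨⟨k.1, (mem_Kfix.1 k.2).1⟩, ?_⟩, (oRes_ker _).2 k.2⟩
        left_inv := fun k => rfl
        right_inv := fun k => rfl }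
    show (⟨k.1, (mem_Kfix.1 k.2).1⟩ : ↥M24) • o = o
    show k.1 • o = o
    ext x
    have hk := (mem_Kfix.1 k.2).2
    rw [Finset.mem_smul_finset]
    constructor
    · rintro ⟨y, hy, rfl⟩
      show k.1 y ∈ o
      rw [hk y hy]
      exact hy
    · intro hx
      exact ⟨x, hx, hk x hx⟩
  have hfin : Finite ↥(MulAction.stabilizer ↥M24 o) := inferInstance
  have h1 : Nat.card ↥(MulAction.stabilizer ↥M24 o) = Nat.card (oRes o).ker * Nat.card (oRes o).range := by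
    rw [(oRes o).ker.card_eq_card_quotient_mul_card_subgroup, Nat.card_congr (QuotientGroup.quotientKerEquivRange (oRes o)).toEquiv,
      mul_comm]
  rw [hS, hker] at h1
  have h2 : Nat.card (oRes o).range = 20160 := by omega
  have h3 : Nat.card (Equiv.Perm ↥o) = 40320 := by
    rw [Nat.card_eq_fintype_card, Fintype.card_perm, Fintype.card_coe, octads_card ho]
    rfl
  apply Equiv.Perm.eq_alternatingGroup_of_index_eq_two
  have h4 := Subgroup.card_mul_index (oRes o).range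
  rw [h2, h3] at h4
  omega

theorem smul_eq_of_mem_iff {g : Equiv.Perm GolayPt} {o : Finset GolayPt} (h : ∀ x, g x ∈ o ↔ x ∈ o) : g • o = o := by
  ext y
  rw [Finset.mem_smul_finset]
  constructor
  · rintro ⟨z, hz, rfl⟩
    exact (h z).2 hz
  · intro hy
    refine ⟨g⁻¹ y, (h _).1 (by simpa using hy), ?_⟩
    show g (g⁻¹ y) = y
    simp

/-- The set of permutations of an octad induced by its stabiliser. -/
theorem induced_eq_alternating {o : Finset GolayPt} (ho : o ∈ octads) :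
    {e : Equiv.Perm ↥o | ∃ g : Equiv.Perm GolayPt, g ∈ M24 ∧ ∃ h : (∀ x, g x ∈ o ↔ x ∈ o), g.subtypePerm h = e} =
      (alternatingGroup ↥o : Set (Equiv.Perm ↥o)) := by
  rw [← oRes_range ho]
  ext e
  constructor
  · rintro ⟨g, hg, h, rfl⟩
    refine ⟨⟨⟨g, hg⟩, smul_eq_of_mem_iff h⟩, ?_⟩
    exact Equiv.ext fun x => Subtype.ext rfl
  · rintro ⟨x, rfl⟩
    exact ⟨x.1.1, x.1.2, fun y => mem_iff_of_smul_eq x.2 y, Equiv.ext fun y => Subtype.ext rfl⟩

/-- The joint stabiliser of an octad and a point. -/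
abbrev Hpt (o : Finset GolayPt) (p : GolayPt) : Subgroup (Equiv.Perm GolayPt) :=
  M24 ⊓ MulAction.stabilizer (Equiv.Perm GolayPt) o ⊓ MulAction.stabilizer (Equiv.Perm GolayPt) p

theorem Kfix_inf_Hpt {o : Finset GolayPt} (ho : o ∈ octads) {p : GolayPt} (hp : p ∉ o) : Kfix o ⊓ Hpt o p = ⊥ := by
  rw [eq_bot_iff]
  rintro h ⟨h1, h2⟩
  have h3 := mem_Kfix.1 h1
  exact eq_one_of_fix_octad ho h3.1 h3.2 hp h2.2

theorem Kfix_le_stab {o : Finset GolayPt} {k : Equiv.Perm GolayPt} (hk : k ∈ Kfix o) : k • o = o := by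
  have hk' := (mem_Kfix.1 hk).2
  ext x
  rw [Finset.mem_smul_finset]
  constructor
  · rintro ⟨y, hy, rfl⟩
    show k y ∈ o
    rw [hk' y hy]
    exact hy
  · intro hx
    exact ⟨x, hx, hk' x hx⟩

theorem not_mem_of_smul {g : Equiv.Perm GolayPt} {o : Finset GolayPt} (h : g • o = o) {p : GolayPt} (hp : p ∉ o) : g p ∉ o :=
  fun h1 => hp ((Cfsg.Agent.Lib.M24.mem_iff_of_smul_eq h p).1 h1)

theorem decomp_stab {o : Finset GolayPt} (ho : o ∈ octads) {p : GolayPt} (hp : p ∉ o) {s : Equiv.Perm GolayPt}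
    (hs : s ∈ M24) (hso : s • o = o) : ∃ k ∈ Kfix o, k⁻¹ * s ∈ Hpt o p := by
  obtain ⟨k, hk, hf, hab⟩ := exists_fix_octad ho hp (not_mem_of_smul hso hp)
  have hK : k ∈ Kfix o := mem_Kfix.2 ⟨hk, hf⟩
  refine ⟨k, hK, ⟨⟨M24.mul_mem (M24.inv_mem hk) hs, ?_⟩, ?_⟩⟩
  · show (k⁻¹ * s) • o = o
    rw [mul_smul, hso, inv_smul_eq_iff, Kfix_le_stab hK]
  · show k⁻¹ (s p) = p
    rw [Equiv.Perm.inv_eq_iff_eq, hab]

theorem Kfix_sup_Hpt {o : Finset GolayPt} (ho : o ∈ octads) {p : GolayPt} (hp : p ∉ o) :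
    Kfix o ⊔ Hpt o p = M24 ⊓ MulAction.stabilizer (Equiv.Perm GolayPt) o := by
  apply le_antisymm
  · apply sup_le
    · intro k hk
      exact ⟨(mem_Kfix.1 hk).1, Kfix_le_stab hk⟩
    · intro h hh
      exact hh.1
  · rintro s ⟨hs, hso⟩
    obtain ⟨k, hk, hh⟩ := decomp_stab ho hp hs hso
    have : s = k * (k⁻¹ * s) := by group
    rw [this]
    exact Subgroup.mul_mem _ (Subgroup.mem_sup_left hk) (Subgroup.mem_sup_right hh)

/-- The action of the joint stabiliser on the octad. -/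
noncomputable def hRes (o : Finset GolayPt) (p : GolayPt) : ↥(Hpt o p) →* Equiv.Perm ↥o where
  toFun x := oRes o ⟨⟨x.1, x.2.1.1⟩, x.2.1.2⟩
  map_one' := (oRes o).map_one
  map_mul' a b := (oRes o).map_mul ⟨⟨a.1, a.2.1.1⟩, a.2.1.2⟩ ⟨⟨b.1, b.2.1.1⟩, b.2.1.2⟩

theorem hRes_inj {o : Finset GolayPt} (ho : o ∈ octads) {p : GolayPt} (hp : p ∉ o) : Function.Injective (hRes o p) := by
  rw [injective_iff_map_eq_one]
  intro x hx
  have h1 : (⟨⟨x.1, x.2.1.1⟩, x.2.1.2⟩ : ↥(MulAction.stabilizer ↥M24 o)) ∈ (oRes o).ker := hx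
  have h2 := (mem_Kfix.1 ((oRes_ker _).1 h1))
  exact Subtype.ext (eq_one_of_fix_octad ho h2.1 h2.2 hp x.2.2)

theorem hRes_range {o : Finset GolayPt} (ho : o ∈ octads) {p : GolayPt} (hp : p ∉ o) :
    (hRes o p).range = alternatingGroup ↥o := by
  rw [← oRes_range ho]
  apply le_antisymm
  · rintro _ ⟨x, rfl⟩
    exact ⟨⟨⟨x.1, x.2.1.1⟩, x.2.1.2⟩, rfl⟩
  · rintro _ ⟨s, rfl⟩
    obtain ⟨k, hk, hh⟩ := decomp_stab ho hp s.1.2 s.2
    refine ⟨⟨k⁻¹ * s.1.1, hh⟩, ?_⟩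
    refine Equiv.ext fun y => Subtype.ext ?_
    show k⁻¹ (s.1.1 y) = s.1.1 y
    rw [Equiv.Perm.inv_eq_iff_eq]
    have h5 : s.1.1 y.1 ∈ o := (mem_iff_of_smul_eq s.2 y.1).2 y.2
    exact ((mem_Kfix.1 hk).2 _ h5).symm

/-- The joint stabiliser of an octad and a point is isomorphic to the alternating group of degree 8. -/
theorem Hpt_equiv {o : Finset GolayPt} (ho : o ∈ octads) {p : GolayPt} (hp : p ∉ o) :
    Nonempty (↥(Hpt o p) ≃* alternatingGroup (Fin 8)) := by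
  classical
  have e1 := MonoidHom.ofInjective (hRes_inj ho hp)
  have e2 := MulEquiv.subgroupCongr (hRes_range ho hp)
  have e3 : ↥o ≃ Fin 8 := Finset.equivFinOfCardEq (octads_card ho)
  exact ⟨e1.trans (e2.trans (Equiv.altCongrHom e3))⟩

end Cfsg.Agent.Lib.M24
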