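import Cfsg.Agent.Lib.M24.OctIso
import Cfsg.Agent.Lib.M24.OctA8

/-!
# The centraliser of an involution of `M24` inside `SL₅(2)`

The involution `z` with fixed octad `O` acts on the 5-dimensional space of the words of the code vanishing on `O`,
and its centraliser acts faithfully there, with `z` acting as an elementary transvection. Counting orders then
identifies it with the centraliser of the transvection.
-/

set_option autoImplicit false
set_option linter.constructorNameAsVariable false
set_option linter.unusedSectionVars false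

open scoped Matrix

namespace Cfsg.Agent.Lib.M24.Held

open Cfsg Cfsg.Agent.Lib.Compute Cfsg.Agent.Lib.Golay Cfsg.Agent.Lib.M24

/-- The points used for coordinates. -/
def ps : Fin 5 → ℕ := ![0, 23, 1, 4, 6]

/-- A basis of the words vanishing on the octad. -/
def wm : Fin 5 → ℕ := ![15546839, 15274244, 6305926, 4536592, 2890176]

/-- The coordinate functionals. -/
def lam (i : Fin 5) (w : GolayPt → ZMod 2) : ZMod 2 :=
  if i = 0 then w (pt 0) else w (pt 0) + w (pt (ps i))

theorem lam_dual : ∀ i j : Fin 5, lam i (wordOf (wm j)) = if i = j then 1 else 0 := by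
  decide +kernel

/-- The same coordinates on masks. -/
def lamB (i : Fin 5) (m : ℕ) : Bool := if i = 0 then tb m 0 else xor (tb m 0) (tb m (ps i))

theorem ps_lt : ∀ i : Fin 5, ps i < 24 := by decide

theorem wordOf_pt (m : ℕ) {j : ℕ} (hj : j < 24) : wordOf m (pt j) = if tb m j = true then 1 else 0 := by
  simp only [wordOf, idx_pt hj, tb_eq]

theorem lam_wordOf (i : Fin 5) (m : ℕ) : lam i (wordOf m) = if lamB i m = true then 1 else 0 := by
  unfold lam lamB
  by_cases hi : i = 0
  · simp only [hi, if_true]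
    exact wordOf_pt m (by norm_num)
  · simp only [hi, if_false]
    rw [wordOf_pt m (by norm_num), wordOf_pt m (ps_lt i)]
    cases tb m 0 <;> cases tb m (ps i) <;> decide

/-- The word with given coordinates. -/
def spanN (m : ℕ) : ℕ :=
  Nat.xor (bcond (lamB 0 m) (wm 0) 0) (Nat.xor (bcond (lamB 1 m) (wm 1) 0) (Nat.xor (bcond (lamB 2 m) (wm 2) 0)
    (Nat.xor (bcond (lamB 3 m) (wm 3) 0) (bcond (lamB 4 m) (wm 4) 0))))

/-- The bits on the octad. -/
def orO (m : ℕ) : Bool :=
  tb m 3 || tb m 5 || tb m 9 || tb m 10 || tb m 14 || tb m 15 || tb m 17 || tb m 20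

theorem span_check : allBelow (fun k => orO (word k) || Nat.beq (spanN (word k)) (word k)) 4096 = true := by
  decide +kernel

theorem wordOf_zero' : wordOf 0 = 0 := by
  funext a
  simp [wordOf]

theorem wordOf_bcond (c : Bool) (m : ℕ) : wordOf (bcond c m 0) = (if c = true then (1 : ZMod 2) else 0) • wordOf m := by
  cases c
  · simp [wordOf_zero']
  · simp

theorem wordOf_span (m : ℕ) : wordOf (spanN m) = ∑ i : Fin 5, lam i (wordOf m) • wordOf (wm i) := by
  unfold spanN
  have hx : ∀ a b : ℕ, wordOf (Nat.xor a b) = wordOf a + wordOf b := wordOf_xor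
  rw [hx, hx, hx, hx, wordOf_bcond, wordOf_bcond, wordOf_bcond, wordOf_bcond, wordOf_bcond, Fin.sum_univ_five]
  simp only [lam_wordOf]
  abel

/-- The fixed points of the involution. -/
def inO (a : GolayPt) : Prop := ppm r2a a = a

theorem pts_in_O : inO (pt 3) ∧ inO (pt 5) ∧ inO (pt 9) ∧ inO (pt 10) ∧ inO (pt 14) ∧ inO (pt 15) ∧ inO (pt 17) ∧ inO (pt 20) := by
  unfold inO
  have h : ∀ i, i < 24 → pc r2a i = i → ppm r2a (pt i) = pt i := by
    intro i hi h
    rw [zP_apply i hi, h]
  refine ⟨h _ (by norm_num) (by decide +kernel), h _ (by norm_num) (by decide +kernel), h _ (by norm_num) (by decide +kernel),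
    h _ (by norm_num) (by decide +kernel), h _ (by norm_num) (by decide +kernel), h _ (by norm_num) (by decide +kernel),
    h _ (by norm_num) (by decide +kernel), h _ (by norm_num) (by decide +kernel)⟩

/-- Decomposition of the words vanishing on the octad. -/
theorem decomp {w : GolayPt → ZMod 2} (hw : w ∈ golayCode) (h0 : ∀ a, inO a → w a = 0) :
    w = ∑ i : Fin 5, lam i w • wordOf (wm i) := by
  obtain ⟨k, hk, rfl⟩ := exists_word_of_mem hw
  have h1 := (allBelow_iff _ _).1 span_check k hk
  have h2 : orO (word k) = false := by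
    obtain ⟨p1, p2, p3, p4, p5, p6, p7, p8⟩ := pts_in_O
    have hb : ∀ j, j < 24 → inO (pt j) → tb (word k) j = false := by
      intro j hj hp
      have := h0 _ hp
      rw [wordOf_pt _ hj] at this
      by_contra hcon
      have hc : tb (word k) j = true := by simpa using hcon
      rw [if_pos hc] at this
      exact one_ne_zero this
    unfold orO
    rw [hb _ (by norm_num) p1, hb _ (by norm_num) p2, hb _ (by norm_num) p3, hb _ (by norm_num) p4, hb _ (by norm_num) p5,
      hb _ (by norm_num) p6, hb _ (by norm_num) p7, hb _ (by norm_num) p8]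
    rfl
  rw [h2, Bool.false_or] at h1
  have h3 := Nat.eq_of_beq_eq_true h1
  conv_lhs => rw [← h3]
  exact wordOf_span _

/-- Basis words vanish on the octad. -/
theorem wm_vanish : ∀ (j : Fin 5) (a : GolayPt), (pc r2a (idx a) = idx a) → wordOf (wm j) a = 0 := by
  decide +kernel

theorem inO_iff (a : GolayPt) : inO a ↔ pc r2a (idx a) = idx a := by
  unfold inO
  have h := zP_apply (idx a) (idx_lt a)
  rw [pt_idx] at h
  rw [h]
  constructor
  · intro h2
    have h3 := congrArg idx h2
    rwa [idx_pt (by
      have := (vld_code r2a_vld) a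
      simp only [enc_idx] at this
      rw [this]
      exact idx_lt _)] at h3
  · intro h2
    rw [h2, pt_idx]

theorem wm_mem (j : Fin 5) : wordOf (wm j) ∈ golayCode := by
  have : ∀ j : Fin 5, inCode (wm j) = true := by decide +kernel
  exact mem_of_inCode (this j)

/-- The matrix of a permutation in the coordinates. -/
noncomputable def Rm (σ : Equiv.Perm GolayPt) : Matrix (Fin 5) (Fin 5) (ZMod 2) :=
  fun i j => lam i (permWord σ (wordOf (wm j)))

/-- Elements of `M24` commuting with the involution. -/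
def Good (σ : Equiv.Perm GolayPt) : Prop := σ ∈ M24 ∧ σ * ppm r2a = ppm r2a * σ

theorem Good.image {τ : Equiv.Perm GolayPt} (h : Good τ) (j : Fin 5) :
    permWord τ (wordOf (wm j)) = ∑ k : Fin 5, Rm τ k j • wordOf (wm k) := by
  apply decomp (permWord_mem_of_mem_M24 h.1 (wm_mem j))
  intro a ha
  unfold permWord
  apply wm_vanish
  rw [← inO_iff]
  have h1 : ppm r2a (τ.symm a) = τ.symm a := by
    have h2 : τ⁻¹ * ppm r2a = ppm r2a * τ⁻¹ := (show Commute τ (ppm r2a) from h.2).inv_left
    have h3 := congrArg (fun g : Equiv.Perm GolayPt => g a) h2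
    simp only [Equiv.Perm.mul_apply] at h3
    have ha' : ppm r2a a = a := ha
    rw [ha'] at h3
    exact h3.symm
  exact h1

theorem lam_sum (i : Fin 5) (c : Fin 5 → ZMod 2) (w : Fin 5 → GolayPt → ZMod 2) :
    lam i (∑ k, c k • w k) = ∑ k, c k * lam i (w k) := by
  unfold lam
  by_cases hi : i = 0
  · simp [hi, Finset.sum_apply]
  · simp only [hi, if_false, Finset.sum_apply, Pi.smul_apply, smul_eq_mul, ← Finset.sum_add_distrib, mul_add]

theorem permWord_sum (σ : Equiv.Perm GolayPt) (c : Fin 5 → ZMod 2) (w : Fin 5 → GolayPt → ZMod 2) :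
    permWord σ (∑ k, c k • w k) = ∑ k, c k • permWord σ (w k) := by
  funext a
  simp [permWord, Finset.sum_apply]

theorem permWord_mul (σ τ : Equiv.Perm GolayPt) (w : GolayPt → ZMod 2) :
    permWord (σ * τ) w = permWord σ (permWord τ w) := rfl

theorem Rm_mul (σ : Equiv.Perm GolayPt) {τ : Equiv.Perm GolayPt} (h : Good τ) : Rm (σ * τ) = Rm σ * Rm τ := by
  refine Matrix.ext fun i j => ?_
  rw [Matrix.mul_apply]
  show lam i (permWord (σ * τ) (wordOf (wm j))) = _
  rw [permWord_mul, h.image j, permWord_sum, lam_sum]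
  refine Finset.sum_congr rfl fun k _ => ?_
  rw [mul_comm]
  rfl

theorem Rm_one : Rm 1 = 1 := by
  refine Matrix.ext fun i j => ?_
  have : permWord 1 (wordOf (wm j)) = wordOf (wm j) := rfl
  show lam i (permWord 1 (wordOf (wm j))) = _
  rw [this, lam_dual, Matrix.one_apply]

/-- The action of the involution. -/
theorem z_entries : ∀ i j : Fin 5,
    (if i = 0 then wordOf (wm j) (pt (pc r2a 0)) else wordOf (wm j) (pt (pc r2a 0)) + wordOf (wm j) (pt (pc r2a (ps i)))) =
      (if i = j then (1 : ZMod 2) else 0) + (if i = 0 ∧ j = 1 then (1 : ZMod 2) else 0) := by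
  decide +kernel

theorem trans_entries (i j : Fin 5) : (Matrix.transvection (0 : Fin 5) 1 (1 : ZMod 2)) i j =
    (if i = j then (1 : ZMod 2) else 0) + (if i = 0 ∧ j = 1 then (1 : ZMod 2) else 0) := by
  simp [Matrix.transvection, Matrix.add_apply, Matrix.one_apply, Matrix.single_apply, eq_comm]

theorem Rm_z : Rm (ppm r2a) = Matrix.transvection (0 : Fin 5) 1 (1 : ZMod 2) := by
  refine Matrix.ext fun i j => ?_
  rw [trans_entries, ← z_entries]
  have hs : ∀ a, (ppm r2a).symm a = ppm r2a a := by
    intro a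
    rw [Equiv.symm_apply_eq]
    have := congrArg (fun g : Equiv.Perm GolayPt => g a) r2a_sq
    exact this.symm
  have hp : ∀ k, k < 24 → permWord (ppm r2a) (wordOf (wm j)) (pt k) = wordOf (wm j) (pt (pc r2a k)) := by
    intro k hk
    unfold permWord
    rw [hs, zP_apply k hk]
  show lam i (permWord (ppm r2a) (wordOf (wm j))) = _
  unfold lam
  by_cases hi : i = 0
  · simp only [hi, if_true]
    exact hp 0 (by norm_num)
  · simp only [hi, if_false]
    rw [hp 0 (by norm_num), hp _ (ps_lt i)]

/-- Separation of the points off the octad. -/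
theorem sep_check : ∀ a b : GolayPt, wordOf (wm 0) a = 1 → (∀ j, wordOf (wm j) a = wordOf (wm j) b) → a = b := by
  decide +kernel

theorem octad_wm1 : enc.finOf (wm 1) ∈ octads := octad_of_mask (by decide +kernel)

theorem wm1_sub : ∀ a : GolayPt, a ∈ (enc.finOf (wm 1) : Finset GolayPt) → wordOf (wm 0) a = 1 := by
  decide +kernel

theorem extra_pt : pt 0 ∉ (enc.finOf (wm 1) : Finset GolayPt) ∧ wordOf (wm 0) (pt 0) = 1 := by
  decide +kernel

/-- Faithfulness. -/
theorem eq_one_of_Rm {σ : Equiv.Perm GolayPt} (hσ : Good σ) (h : Rm σ = 1) : σ = 1 := by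
  have h1 : ∀ j, permWord σ (wordOf (wm j)) = wordOf (wm j) := by
    intro j
    rw [hσ.image j, h]
    simp [Matrix.one_apply, ite_smul]
  have h2 : ∀ a, wordOf (wm 0) a = 1 → σ a = a := by
    intro a ha
    have h3 : ∀ j, wordOf (wm j) (σ.symm a) = wordOf (wm j) a := fun j => congrFun (h1 j) a
    have h4 : wordOf (wm 0) (σ.symm a) = 1 := by rw [h3, ha]
    have h5 : σ.symm a = a := sep_check _ _ h4 h3
    exact ((Equiv.symm_apply_eq σ).1 h5).symm
  exact eq_one_of_fix_octad octad_wm1 hσ.1 (fun q hq => h2 q (wm1_sub q hq)) extra_pt.1 (h2 _ extra_pt.2)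

end Cfsg.Agent.Lib.M24.Held
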