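import Cfsg.Agent.Lib.M24.HeldIso

/-!
# The centraliser of an involution of `M24` and the centraliser of a transvection of `SL₅(2)`
-/

set_option autoImplicit false
set_option linter.constructorNameAsVariable false
set_option linter.unusedSectionVars false

open scoped Matrix

namespace Cfsg.Agent.Lib.M24.Held

open Cfsg Cfsg.Agent.Lib.Compute Cfsg.Agent.Lib.Golay Cfsg.Agent.Lib.M24

/-- The special linear group in degree 5. -/
abbrev SL5 := Matrix.SpecialLinearGroup (Fin 5) (ZMod 2)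
/-- The special linear group in degree 3. -/
abbrev SL3 := Matrix.SpecialLinearGroup (Fin 3) (ZMod 2)

theorem z2_one {c : ZMod 2} (h : c ≠ 0) : c = 1 := by
  revert c
  decide

theorem det_one_of_unit {n : ℕ} {A B : Matrix (Fin n) (Fin n) (ZMod 2)} (h : A * B = 1) : A.det = 1 := by
  have h1 := congrArg Matrix.det h
  rw [Matrix.det_mul, Matrix.det_one] at h1
  exact z2_one (left_ne_zero_of_mul_eq_one h1)

/-- The centraliser in `M24`. -/
noncomputable abbrev CC : Subgroup ↥M24 := Subgroup.centralizer ({z₀} : Set ↥M24)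

theorem good_of (c : ↥CC) : Good (c.1 : Equiv.Perm GolayPt) := by
  refine ⟨c.1.2, ?_⟩
  have h := (Subgroup.mem_centralizer_singleton_iff).1 c.2
  exact congrArg Subtype.val h

theorem good_z : Good (ppm r2a) := ⟨zP_mem, rfl⟩

/-- The action on the five-dimensional space. -/
noncomputable def phi : ↥CC →* SL5 :=
  MonoidHom.mk' (fun c => ⟨Rm (c.1 : Equiv.Perm GolayPt), det_one_of_unit (B := Rm ((c⁻¹).1 : Equiv.Perm GolayPt)) (by
      rw [← Rm_mul _ (good_of c⁻¹), ← Rm_one]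
      congr 1
      have : ((c * c⁻¹ : ↥CC).1 : Equiv.Perm GolayPt) = 1 := by simp
      exact this)⟩)
    (fun a b => Subtype.ext (Rm_mul _ (good_of b)))

theorem phi_coe (c : ↥CC) : ((phi c : SL5) : Matrix (Fin 5) (Fin 5) (ZMod 2)) = Rm (c.1 : Equiv.Perm GolayPt) := rfl

theorem phi_injective : Function.Injective phi := by
  rw [injective_iff_map_eq_one]
  intro c h
  have h1 : Rm (c.1 : Equiv.Perm GolayPt) = 1 := by
    rw [← phi_coe, h]
    rfl
  have h2 := eq_one_of_Rm (good_of c) h1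
  exact Subtype.ext (Subtype.ext h2)

section shape

variable {s : SL5} (hs : (s : Matrix (Fin 5) (Fin 5) (ZMod 2)) = Matrix.transvection 0 1 1)

include hs

theorem phi_mem (c : ↥CC) : phi c ∈ Subgroup.centralizer ({s} : Set SL5) := by
  rw [Subgroup.mem_centralizer_singleton_iff]
  apply Subtype.ext
  show Rm (c.1 : Equiv.Perm GolayPt) * (s : Matrix (Fin 5) (Fin 5) (ZMod 2)) =
    (s : Matrix (Fin 5) (Fin 5) (ZMod 2)) * Rm (c.1 : Equiv.Perm GolayPt)
  rw [hs, ← Rm_z, ← Rm_mul _ good_z, ← Rm_mul _ (good_of c), (good_of c).2]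

theorem shape {t : SL5} (ht : t ∈ Subgroup.centralizer ({s} : Set SL5)) :
    (∀ i, i ≠ 0 → t.1 i 0 = 0) ∧ (∀ j, j ≠ 1 → t.1 1 j = 0) ∧ t.1 0 0 = t.1 1 1 := by
  have h := congrArg (fun x : SL5 => (x : Matrix (Fin 5) (Fin 5) (ZMod 2))) ((Subgroup.mem_centralizer_singleton_iff).1 ht)
  simp only [Matrix.SpecialLinearGroup.coe_mul, hs, Matrix.transvection, Matrix.mul_add, Matrix.add_mul, Matrix.mul_one,
    Matrix.one_mul, add_right_inj] at h
  have key := fun i j : Fin 5 => congrFun (congrFun h i) j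
  simp only [Matrix.mul_apply, Fin.sum_univ_five, Matrix.single_apply] at key
  refine ⟨fun i hi => ?_, fun j hj => ?_, ?_⟩
  · have := key i 1
    simpa [hi, Ne.symm hi] using this
  · have := key 0 j
    simpa [hj, Ne.symm hj] using this.symm
  · have := key 0 1
    simpa using this

end shape

/-- The coordinates of the block. -/
def e3 : Fin 3 → Fin 5 := fun i => ⟨i.1 + 2, by omega⟩

theorem e3_ne0 (i : Fin 3) : e3 i ≠ 0 := by
  intro h
  have := congrArg Fin.val h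
  simp [e3] at this

theorem e3_ne1 (i : Fin 3) : e3 i ≠ 1 := by
  intro h
  have := congrArg Fin.val h
  simp [e3] at this

/-- The block of a matrix. -/
def hB (A : Matrix (Fin 5) (Fin 5) (ZMod 2)) : Matrix (Fin 3) (Fin 3) (ZMod 2) := A.submatrix e3 e3

theorem hB_mul {A A' : Matrix (Fin 5) (Fin 5) (ZMod 2)} (h1 : ∀ i, i ≠ 0 → A i 0 = 0) (h2 : ∀ j, j ≠ 1 → A' 1 j = 0) :
    hB (A * A') = hB A * hB A' := by
  refine Matrix.ext fun i j => ?_
  simp only [hB, Matrix.submatrix_apply, Matrix.mul_apply, Fin.sum_univ_five, Fin.sum_univ_three]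
  rw [h1 _ (e3_ne0 i), h2 _ (e3_ne1 j), zero_mul, mul_zero, zero_add, zero_add]
  rfl

theorem hB_one : hB (1 : Matrix (Fin 5) (Fin 5) (ZMod 2)) = 1 := by
  refine Matrix.ext fun i j => ?_
  simp only [hB, Matrix.submatrix_apply, Matrix.one_apply]
  have : e3 i = e3 j ↔ i = j := by
    constructor
    · intro h
      have := congrArg Fin.val h
      simp only [e3] at this
      exact Fin.ext (by omega)
    · rintro rfl; rfl
  simp only [this]

section bound

variable {s : SL5} (hs : (s : Matrix (Fin 5) (Fin 5) (ZMod 2)) = Matrix.transvection 0 1 1)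

include hs

theorem t00 {t : SL5} (ht : t ∈ Subgroup.centralizer ({s} : Set SL5)) : t.1 0 0 = 1 := by
  obtain ⟨h1, -, -⟩ := shape hs ht
  have h2 : (t⁻¹ * t).1 0 0 = 1 := by
    rw [inv_mul_cancel]
    rfl
  rw [Matrix.SpecialLinearGroup.coe_mul, Matrix.mul_apply, Fin.sum_univ_five, h1 1 (by decide), h1 2 (by decide),
    h1 3 (by decide), h1 4 (by decide)] at h2
  simp only [mul_zero, add_zero] at h2
  exact z2_one (right_ne_zero_of_mul_eq_one h2)

/-- The block, in `SL₃(2)`. -/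
noncomputable def blockS (t : ↥(Subgroup.centralizer ({s} : Set SL5))) : SL3 :=
  ⟨hB t.1.1, det_one_of_unit (B := hB (t⁻¹).1.1) (by
    have h1 := shape hs t.2
    have h2 := shape hs (t⁻¹).2
    have h3 : t.1.1 * (t⁻¹).1.1 = 1 := by
      have h4 : (t.1 * (t⁻¹).1 : SL5) = 1 := by simp
      rw [← Matrix.SpecialLinearGroup.coe_mul, h4, Matrix.SpecialLinearGroup.coe_one]
    rw [← hB_mul h1.1 h2.2.1, h3, hB_one])⟩

/-- The invariants of an element of the centraliser. -/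
noncomputable def inv7 (t : ↥(Subgroup.centralizer ({s} : Set SL5))) : (Fin 7 → ZMod 2) × SL3 :=
  (![t.1.1 0 1, t.1.1 0 2, t.1.1 0 3, t.1.1 0 4, t.1.1 2 1, t.1.1 3 1, t.1.1 4 1], blockS hs t)

theorem inv7_inj : Function.Injective (inv7 hs) := by
  intro t t' h
  have hv := congrArg Prod.fst h
  have hb := congrArg (fun x => (x.2 : Matrix (Fin 3) (Fin 3) (ZMod 2))) h
  have ev : ∀ k, (![t.1.1 0 1, t.1.1 0 2, t.1.1 0 3, t.1.1 0 4, t.1.1 2 1, t.1.1 3 1, t.1.1 4 1] : Fin 7 → ZMod 2) k =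
      (![t'.1.1 0 1, t'.1.1 0 2, t'.1.1 0 3, t'.1.1 0 4, t'.1.1 2 1, t'.1.1 3 1, t'.1.1 4 1] : Fin 7 → ZMod 2) k := congrFun hv
  have eb : ∀ i j, t.1.1 (e3 i) (e3 j) = t'.1.1 (e3 i) (e3 j) := fun i j => congrFun (congrFun hb i) j
  obtain ⟨a1, a2, a3⟩ := shape hs t.2
  obtain ⟨b1, b2, b3⟩ := shape hs t'.2
  have a0 := t00 hs t.2
  have b0 := t00 hs t'.2
  have e01 : t.1.1 0 1 = t'.1.1 0 1 := ev 0
  have e02 : t.1.1 0 2 = t'.1.1 0 2 := ev 1
  have e03 : t.1.1 0 3 = t'.1.1 0 3 := ev 2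
  have e04 : t.1.1 0 4 = t'.1.1 0 4 := ev 3
  have e21 : t.1.1 2 1 = t'.1.1 2 1 := ev 4
  have e31 : t.1.1 3 1 = t'.1.1 3 1 := ev 5
  have e41 : t.1.1 4 1 = t'.1.1 4 1 := ev 6
  have e00 : t.1.1 0 0 = t'.1.1 0 0 := a0.trans b0.symm
  have e11 : t.1.1 1 1 = t'.1.1 1 1 := by rw [← a3, ← b3, a0, b0]
  have e10 : t.1.1 1 0 = t'.1.1 1 0 := by rw [a1 1 (by decide), b1 1 (by decide)]
  have e20 : t.1.1 2 0 = t'.1.1 2 0 := by rw [a1 2 (by decide), b1 2 (by decide)]
  have e30 : t.1.1 3 0 = t'.1.1 3 0 := by rw [a1 3 (by decide), b1 3 (by decide)]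
  have e40 : t.1.1 4 0 = t'.1.1 4 0 := by rw [a1 4 (by decide), b1 4 (by decide)]
  have e12 : t.1.1 1 2 = t'.1.1 1 2 := by rw [a2 2 (by decide), b2 2 (by decide)]
  have e13 : t.1.1 1 3 = t'.1.1 1 3 := by rw [a2 3 (by decide), b2 3 (by decide)]
  have e14 : t.1.1 1 4 = t'.1.1 1 4 := by rw [a2 4 (by decide), b2 4 (by decide)]
  have e22 : t.1.1 2 2 = t'.1.1 2 2 := eb 0 0
  have e23 : t.1.1 2 3 = t'.1.1 2 3 := eb 0 1
  have e24 : t.1.1 2 4 = t'.1.1 2 4 := eb 0 2
  have e32 : t.1.1 3 2 = t'.1.1 3 2 := eb 1 0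
  have e33 : t.1.1 3 3 = t'.1.1 3 3 := eb 1 1
  have e34 : t.1.1 3 4 = t'.1.1 3 4 := eb 1 2
  have e42 : t.1.1 4 2 = t'.1.1 4 2 := eb 2 0
  have e43 : t.1.1 4 3 = t'.1.1 4 3 := eb 2 1
  have e44 : t.1.1 4 4 = t'.1.1 4 4 := eb 2 2
  apply Subtype.ext
  apply Subtype.ext
  refine Matrix.ext fun i j => ?_
  fin_cases i <;> fin_cases j <;>
    first
    | exact e00 | exact e01 | exact e02 | exact e03 | exact e04
    | exact e10 | exact e11 | exact e12 | exact e13 | exact e14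
    | exact e20 | exact e21 | exact e22 | exact e23 | exact e24
    | exact e30 | exact e31 | exact e32 | exact e33 | exact e34
    | exact e40 | exact e41 | exact e42 | exact e43 | exact e44

theorem card_T_le : Nat.card ↥(Subgroup.centralizer ({s} : Set SL5)) ≤ 21504 := by
  have h := Nat.card_le_card_of_injective _ (inv7_inj hs)
  rw [Nat.card_prod, card_SL3] at h
  have h2 : Nat.card (Fin 7 → ZMod 2) = 128 := by
    simp [Nat.card_eq_fintype_card, ZMod.card]
  rw [h2] at h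
  exact h

end bound

theorem card_CC_ge : 21504 ≤ Nat.card ↥CC := by
  have D := splitData₀
  let ψ : ↥(QP.subgroupOf M24) × ↥(KP.subgroupOf M24) → ↥CC := fun x =>
    ⟨x.1.1 * x.2.1, CC.mul_mem (D.hQC x.1.2) (D.hKC x.2.2)⟩
  have hψ : Function.Injective ψ := by
    rintro ⟨q, k⟩ ⟨q', k'⟩ h
    have h1 : q.1 * k.1 = q'.1 * k'.1 := congrArg Subtype.val h
    have h2 : q'.1⁻¹ * q.1 = k'.1 * k.1⁻¹ := by
      rw [inv_mul_eq_iff_eq_mul, ← mul_assoc, ← h1]
      group
    have h3 : q'.1⁻¹ * q.1 ∈ QP.subgroupOf M24 ⊓ KP.subgroupOf M24 := by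
      refine ⟨(QP.subgroupOf M24).mul_mem ((QP.subgroupOf M24).inv_mem q'.2) q.2, ?_⟩
      rw [h2]
      exact (KP.subgroupOf M24).mul_mem k'.2 ((KP.subgroupOf M24).inv_mem k.2)
    rw [D.hQK, Subgroup.mem_bot] at h3
    have h4 : q = q' := Subtype.ext (inv_mul_eq_one.1 h3).symm
    subst h4
    have h5 : k = k' := Subtype.ext (mul_left_cancel h1)
    rw [h5]
  have h := Nat.card_le_card_of_injective _ hψ
  rw [Nat.card_prod, D.hcard, Nat.card_congr (Subgroup.subgroupOfEquivOfLe KP_le).toEquiv, card_KP] at h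
  exact h

/-- The isomorphism. -/
theorem exists_iso {s : SL5} (hs : (s : Matrix (Fin 5) (Fin 5) (ZMod 2)) = Matrix.transvection 0 1 1) :
    Nonempty (↥CC ≃* ↥(Subgroup.centralizer ({s} : Set SL5))) := by
  let φ : ↥CC →* ↥(Subgroup.centralizer ({s} : Set SL5)) := phi.codRestrict _ (phi_mem hs)
  have hinj : Function.Injective φ := by
    intro a b h
    exact phi_injective (congrArg Subtype.val h)
  have hbij := hinj.bijective_of_nat_card_le ((card_T_le hs).trans card_CC_ge)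
  exact ⟨MulEquiv.ofBijective φ hbij⟩

end Cfsg.Agent.Lib.M24.Held
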