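import Cfsg.Agent.Lib.M24.Basic

/-!
# The two classes of involutions of `M24`
-/

set_option autoImplicit false

namespace Cfsg.Agent.Lib.M24

open Cfsg Cfsg.Agent.Lib.Compute Cfsg.Agent.Lib.Golay
open scoped Pointwise

/-- Representative of the involutions with an octad of fixed points. -/
def r2a : ℕ := 17184519787777121035013027289728087
/-- Representative of the fixed-point-free involutions. -/
def r2b : ℕ := 18954756559157013724352018331599959

def invT3 : ℕ := 14817750407186018873250765110084695
def invT4 : ℕ := 20053172456731805782799635064161367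
def invT5 : ℕ := 8254413471143877499446788946560087

def invW : List ℕ := [816500410038621437103633215579984390, 301289242187653135198335023064613973, 879583697648163496948538607882525703, 58422655726311796457052974420697666, 944407520990145375150439888845360333, 313021734428200024211970140679494069, 893894283175116891748761255846391091, 812766482842316871078973295211938549, 444490927054598281401754478562040850, 714531948256721783551132865916882605, 395039805046427359959817647359810571, 922364529570210004176084835951579246, 4278654611667236562635699089610999, 260321344139048298124960083799169479, 228067152255757666377752106714202864]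

theorem r2a_vld : vld r2a = true := by decide +kernel
theorem r2b_vld : vld r2b = true := by decide +kernel
theorem invT3_vld : vld invT3 = true := by decide +kernel
theorem invT4_vld : vld invT4 = true := by decide +kernel
theorem invT5_vld : vld invT5 = true := by decide +kernel
theorem invW_vld : invW.all vld = true := by decide +kernel

theorem inv_check : [invT3, invT4, invT5].all (fun t => T6.all fun p => T7.all fun q =>
    !(sqId (fun i => pc t (pc p (pc q i)))) || invW.any fun k =>
      conjF (pc k) (fun i => pc t (pc p (pc q i))) (pc r2a) ||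
      conjF (pc k) (fun i => pc t (pc p (pc q i))) (pc r2b)) = true := by
  decide +kernel

/-- Every involution of `M24` is conjugate to one of the two representatives. -/
theorem involution_classify {g : Equiv.Perm GolayPt} (hg : g ∈ M24) (h2 : g * g = 1) (h1 : g ≠ 1) :
    ∃ k ∈ M24, k * g * k⁻¹ = ppm r2a ∨ k * g * k⁻¹ = ppm r2b := by
  obtain ⟨k, hk, v0, v1, v2, v3, v4⟩ := involution_normal_form hg h2 h1
  have hm : k * g * k⁻¹ ∈ M24 := M24.mul_mem (M24.mul_mem hk hg) (M24.inv_mem hk)
  have hsq : (k * g * k⁻¹) * (k * g * k⁻¹) = 1 := by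
    have : (k * g * k⁻¹) * (k * g * k⁻¹) = k * (g * g) * k⁻¹ := by group
    rw [this, h2]
    group
  set g' := k * g * k⁻¹ with hg'
  obtain ⟨t, ht, hcos⟩ : ∃ t ∈ [invT3, invT4, invT5], ∀ i ∈ L5, ppm t (pt i) = g' (pt i) := by
    have hcode : ∀ t, vld t = true → ∀ i, i < 24 → ppm t (pt i) = pt (pc t i) := fun t ht i hi =>
      code_pt (vld_code ht) hi
    rcases v4 with v4 | v4 | v4
    · refine ⟨invT3, by simp, fun i hi => ?_⟩
      simp only [L5, List.mem_cons, List.not_mem_nil, or_false] at hi
      rcases hi with rfl | rfl | rfl | rfl | rfl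
      · rw [v4, hcode _ invT3_vld 3 (by norm_num)]; rfl
      · rw [v3, hcode _ invT3_vld 2 (by norm_num)]; rfl
      · rw [v2, hcode _ invT3_vld 1 (by norm_num)]; rfl
      · rw [v1, hcode _ invT3_vld 0 (by norm_num)]; rfl
      · rw [v0, hcode _ invT3_vld 23 (by norm_num)]; rfl
    · refine ⟨invT4, by simp, fun i hi => ?_⟩
      simp only [L5, List.mem_cons, List.not_mem_nil, or_false] at hi
      rcases hi with rfl | rfl | rfl | rfl | rfl
      · rw [v4, hcode _ invT4_vld 3 (by norm_num)]; rfl
      · rw [v3, hcode _ invT4_vld 2 (by norm_num)]; rfl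
      · rw [v2, hcode _ invT4_vld 1 (by norm_num)]; rfl
      · rw [v1, hcode _ invT4_vld 0 (by norm_num)]; rfl
      · rw [v0, hcode _ invT4_vld 23 (by norm_num)]; rfl
    · refine ⟨invT5, by simp, fun i hi => ?_⟩
      simp only [L5, List.mem_cons, List.not_mem_nil, or_false] at hi
      rcases hi with rfl | rfl | rfl | rfl | rfl
      · rw [v4, hcode _ invT5_vld 3 (by norm_num)]; rfl
      · rw [v3, hcode _ invT5_vld 2 (by norm_num)]; rfl
      · rw [v2, hcode _ invT5_vld 1 (by norm_num)]; rfl
      · rw [v1, hcode _ invT5_vld 0 (by norm_num)]; rfl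
      · rw [v0, hcode _ invT5_vld 23 (by norm_num)]; rfl
  have htv : vld t = true := by
    simp only [List.mem_cons, List.not_mem_nil, or_false] at ht
    rcases ht with rfl | rfl | rfl
    · exact invT3_vld
    · exact invT4_vld
    · exact invT5_vld
  obtain ⟨p, hp, q, hq, hcos'⟩ := coset_base5 hm (vld_mem htv) hcos
  have hcode : enc.IsCode g' (fun i => pc t (pc p (pc q i))) := by
    rw [hcos', mul_assoc]
    exact isCode_mul (vld_code htv) (isCode_mul (vld_code (T6_vld hp)) (vld_code (T7_vld hq)))
  have hc := List.all_eq_true.1 (List.all_eq_true.1 (List.all_eq_true.1 inv_check t ht) p hp) q hq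
  have hs : sqId (fun i => pc t (pc p (pc q i))) = true := (sqId_iff hcode).2 hsq
  rw [hs, Bool.not_true, Bool.false_or, List.any_eq_true] at hc
  obtain ⟨c, hc1, hc2⟩ := hc
  have hcv : vld c = true := List.all_eq_true.1 invW_vld c hc1
  refine ⟨ppm c * k, M24.mul_mem (vld_mem hcv) hk, ?_⟩
  have hrw : (ppm c * k) * g * (ppm c * k)⁻¹ = ppm c * g' * (ppm c)⁻¹ := by
    rw [hg']; group
  rw [hrw]
  rw [Bool.or_eq_true] at hc2
  rcases hc2 with hc2 | hc2
  · exact Or.inl (conj_eq_of_conjF (vld_code hcv) hcode (vld_code r2a_vld) hc2)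
  · exact Or.inr (conj_eq_of_conjF (vld_code hcv) hcode (vld_code r2b_vld) hc2)

theorem r2a_fix : fixM (pc r2a) = 1230376 := by decide +kernel
theorem r2b_fix : fixM (pc r2b) = 0 := by decide +kernel

theorem r2a_ne_one : ppm r2a ≠ 1 := by
  intro h
  have := (idF_iff (vld_code r2a_vld)).2 h
  revert this
  decide +kernel

theorem r2a_sq : ppm r2a * ppm r2a = 1 := (sqId_iff (vld_code r2a_vld)).1 (by decide +kernel)
theorem r2b_sq : ppm r2b * ppm r2b = 1 := (sqId_iff (vld_code r2b_vld)).1 (by decide +kernel)
theorem r2b_ne_one : ppm r2b ≠ 1 := by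
  intro h
  have := (idF_iff (vld_code r2b_vld)).2 h
  revert this
  decide +kernel

theorem r2a_filter : (Finset.univ.filter fun p => ppm r2a p = p) = enc.finOf 1230376 := by
  rw [filter_fix_eq (vld_code r2a_vld), r2a_fix]

theorem r2b_filter : (Finset.univ.filter fun p => ppm r2b p = p) = ∅ := by
  rw [filter_fix_eq (vld_code r2b_vld), r2b_fix]
  decide +kernel

theorem r2a_fix_octad : enc.finOf 1230376 ∈ octads := octad_of_mask (by decide +kernel)

/-- Fixed points of a conjugate. -/
theorem filter_conj (g k : Equiv.Perm GolayPt) :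
    (Finset.univ.filter fun p => (k * g * k⁻¹) p = p) = (Finset.univ.filter fun p => g p = p).image k := by
  ext a
  rw [Finset.mem_filter, Finset.mem_image]
  simp only [Finset.mem_filter, Finset.mem_univ, true_and, Equiv.Perm.mul_apply]
  constructor
  · intro h
    refine ⟨k⁻¹ a, ?_, by simp⟩
    have h' : k (g (k⁻¹ a)) = k (k⁻¹ a) := by rw [h]; simp
    exact k.injective h'
  · rintro ⟨b, hb, rfl⟩
    rw [show k⁻¹ (k b) = b by simp, hb]

theorem fpf_conj_iff {g τ k : Equiv.Perm GolayPt} (h : k * g * k⁻¹ = τ) :
    (∀ p, g p ≠ p) ↔ ∀ p, τ p ≠ p := by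
  subst h
  constructor
  · intro h p hp
    apply h (k⁻¹ p)
    have h' : k (g (k⁻¹ p)) = k (k⁻¹ p) := by
      rw [show k (k⁻¹ p) = p by simp]
      exact hp
    exact k.injective h'
  · intro h p hp
    apply h (k p)
    show k (g (k⁻¹ (k p))) = k p
    rw [show k⁻¹ (k p) = p by simp, hp]

theorem r2a_not_fpf : ¬ ∀ p, ppm r2a p ≠ p := by
  intro h
  have h1 : (Finset.univ.filter fun p => ppm r2a p = p) = ∅ := by
    apply Finset.eq_empty_of_forall_notMem
    intro a ha
    exact h a (Finset.mem_filter.1 ha).2
  rw [r2a_filter] at h1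
  revert h1
  decide +kernel

theorem r2b_fpf : ∀ p, ppm r2b p ≠ p := by
  intro p hp
  have h1 : p ∈ (Finset.univ.filter fun p => ppm r2b p = p) := by simp [hp]
  rw [r2b_filter] at h1
  simp at h1

theorem order_two_iff {g : Equiv.Perm GolayPt} : orderOf g = 2 ↔ g * g = 1 ∧ g ≠ 1 := by
  constructor
  · intro h
    refine ⟨by rw [← pow_two, ← h, pow_orderOf_eq_one], ?_⟩
    rintro rfl
    simp at h
  · rintro ⟨h1, h2⟩
    exact orderOf_eq_prime (by rw [pow_two, h1]) h2

end Cfsg.Agent.Lib.M24
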