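import Cfsg.Agent.Lib.M24.Inv

/-!
# The two classes of elements of order three of `M24`
-/

set_option autoImplicit false

namespace Cfsg.Agent.Lib.M24

open Cfsg Cfsg.Agent.Lib.Compute Cfsg.Agent.Lib.Golay
open scoped Pointwise

/-- An element agreeing with a packed element on the base has an explicit code. -/
theorem exists_code_of_agree {σ : Equiv.Perm GolayPt} {t : ℕ} (hσ : σ ∈ M24) (ht : vld t = true)
    (h : ∀ i ∈ L5, pt (pc t i) = σ (pt i)) :
    ∃ p ∈ T6, ∃ q ∈ T7, enc.IsCode σ (fun i => pc t (pc p (pc q i))) := by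
  obtain ⟨p, hp, q, hq, hcos⟩ := coset_base5 hσ (vld_mem ht) (τ := ppm t)
    (fun i hi => by rw [code_pt (vld_code ht) (L5_lt i hi), h i hi])
  refine ⟨p, hp, q, hq, ?_⟩
  rw [hcos, mul_assoc]
  exact isCode_mul (vld_code ht) (isCode_mul (vld_code (T6_vld hp)) (vld_code (T7_vld hq)))

/-- `f ∘ f ∘ f = id` on the points. -/
noncomputable def cubeId (f : ℕ → ℕ) : Bool := allBelow (fun i => Nat.beq (f (f (f i))) i) 24

theorem cubeId_iff {σ : Equiv.Perm GolayPt} {f : ℕ → ℕ} (hf : enc.IsCode σ f) :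
    cubeId f = true ↔ σ * σ * σ = 1 := by
  have h : enc.IsCode (σ * σ * σ) (fun i => f (f (f i))) := fun a => by
    show f (f (f (enc.idx a))) = enc.idx (σ (σ (σ a)))
    rw [hf a, hf (σ a), hf (σ (σ a))]
  exact idF_iff h

theorem order3_normal_form {g : Equiv.Perm GolayPt} (hg : g ∈ M24) (h3 : g * g * g = 1)
    (h1 : g ≠ 1) : ∃ k ∈ M24, (k * g * k⁻¹) (pt 23) = pt 0 ∧ (k * g * k⁻¹) (pt 0) = pt 1 ∧
      (k * g * k⁻¹) (pt 1) = pt 23 ∧ (k * g * k⁻¹) (pt 2) = pt 3 ∧
      ((k * g * k⁻¹) (pt 3) = pt 4 ∨ (k * g * k⁻¹) (pt 3) = pt 5) := by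
  have hggg : ∀ a, g (g (g a)) = a := fun a => by
    have := congrArg (fun s : Equiv.Perm GolayPt => s a) h3
    simpa using this
  obtain ⟨x, hx⟩ : ∃ x, g x ≠ x := by
    by_contra hc
    push Not at hc
    exact h1 (Equiv.ext hc)
  have hy1 : g (g x) ≠ g x := fun h => hx (g.injective h)
  have hz1 : g (g x) ≠ x := fun h => hx (by
    have := hggg x
    rw [h] at this
    exact this)
  obtain ⟨u, hu1, hu2, hu3, hu4⟩ := exists_moved_outside hg hx
  have hv1 : g u ≠ x := fun h => hu3 (g.injective (by rw [h, hggg]))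
  have hv2 : g u ≠ g x := fun h => hu1 (g.injective h)
  have hv3 : g u ≠ g (g x) := fun h => hu2 (g.injective h)
  obtain ⟨k, hk, e1, e2, e3, e4, e5⟩ := exists_map5 (Ne.symm hx) (Ne.symm hz1) (Ne.symm hu1)
    (Ne.symm hv1) (Ne.symm hy1) (Ne.symm hu2) (Ne.symm hv2) (Ne.symm hu3) (Ne.symm hv3)
    (Ne.symm hu4)
  have hinv : ∀ y, k⁻¹ (k y) = y := fun y => by simp
  have v0 : (k * g * k⁻¹) (pt 23) = pt 0 := by
    show k (g (k⁻¹ (pt 23))) = _
    rw [← e1, hinv, e2]
  have v1 : (k * g * k⁻¹) (pt 0) = pt 1 := by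
    show k (g (k⁻¹ (pt 0))) = _
    rw [← e2, hinv, e3]
  have v2 : (k * g * k⁻¹) (pt 1) = pt 23 := by
    show k (g (k⁻¹ (pt 1))) = _
    rw [← e3, hinv, hggg, e1]
  have v3 : (k * g * k⁻¹) (pt 2) = pt 3 := by
    show k (g (k⁻¹ (pt 2))) = _
    rw [← e4, hinv, e5]
  have hcube : ∀ a, (k * g * k⁻¹) ((k * g * k⁻¹) ((k * g * k⁻¹) a)) = a := fun a => by
    show k (g (k⁻¹ (k (g (k⁻¹ (k (g (k⁻¹ a)))))))) = a
    simp only [hinv, hggg]
    simp
  set g' := k * g * k⁻¹ with hg'
  have hz : idx (g' (pt 3)) ∉ L5 := by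
    intro h
    have h5 : idx (g' (pt 3)) = 3 ∨ idx (g' (pt 3)) = 2 ∨ idx (g' (pt 3)) = 1 ∨ idx (g' (pt 3)) = 0 ∨
        idx (g' (pt 3)) = 23 := by simpa using h
    have hpt : ∀ j, idx (g' (pt 3)) = j → g' (pt 3) = pt j := fun j hj => by rw [← hj, pt_idx]
    have hne : (pt 3 : GolayPt) ≠ pt 23 ∧ (pt 3 : GolayPt) ≠ pt 0 ∧ (pt 3 : GolayPt) ≠ pt 1 ∧
        (pt 3 : GolayPt) ≠ pt 2 := by decide
    rcases h5 with h5 | h5 | h5 | h5 | h5
    · have := g'.injective ((hpt _ h5).trans v3.symm)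
      exact hne.2.2.2 this
    · have h6 := hcube (pt 2)
      rw [v3, hpt _ h5, v3] at h6
      exact hne.2.2.2 h6
    · have := g'.injective ((hpt _ h5).trans v1.symm)
      exact hne.2.1 this
    · have := g'.injective ((hpt _ h5).trans v0.symm)
      exact hne.1 this
    · have := g'.injective ((hpt _ h5).trans v2.symm)
      exact hne.2.2.1 this
  obtain ⟨h, hh, h6⟩ := H_reduce _ hz
  have hfix : ∀ i ∈ L5, h (pt i) = pt i := fun i hi => hh.2 _ (List.mem_map_of_mem hi)
  have hfix' : ∀ i ∈ L5, h⁻¹ (pt i) = pt i := fun i hi => by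
    rw [Equiv.Perm.inv_eq_iff_eq]
    exact (hfix i hi).symm
  refine ⟨h⁻¹ * k, M24.mul_mem (M24.inv_mem hh.1) hk, ?_⟩
  have hrw : (h⁻¹ * k) * g * (h⁻¹ * k)⁻¹ = h⁻¹ * g' * h := by
    rw [hg']; group
  rw [hrw]
  have val : ∀ i ∈ L5, ∀ j ∈ L5, g' (pt i) = pt j → (h⁻¹ * g' * h) (pt i) = pt j := by
    intro i hi j hj hij
    show h⁻¹ (g' (h (pt i))) = _
    rw [hfix i hi, hij, hfix' j hj]
  refine ⟨val 23 (by simp) 0 (by simp) v0, val 0 (by simp) 1 (by simp) v1,
    val 1 (by simp) 23 (by simp) v2, val 2 (by simp) 3 (by simp) v3, ?_⟩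
  have h7 : (h⁻¹ * g' * h) (pt 3) = h⁻¹ (g' (pt 3)) := by
    show h⁻¹ (g' (h (pt 3))) = _
    rw [hfix 3 (by simp)]
  rw [h7]
  rcases h6 with h6 | h6
  · left
    rw [← h6]; simp
  · right
    rw [← h6]; simp

/-- Representative of the elements of order 3 with 6 fixed points. -/
def r3a : ℕ := 15141435945608064366671252158582497
/-- Representative of the elements of order 3 without fixed points. -/
def r3b : ℕ := 22575204043597328606232684349492961

def thrT4 : ℕ := 29225140338419946868343073747898081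
def thrT5 : ℕ := 26867074002869733762229597105196769

def thrW : List ℕ := [791099250741397465070395175247486383, 518837051055919826586785464620965065, 316770875381999917288474279431841142, 558847005029879940439871819145223667, 808876716813391635982482176155865654, 151531983799255888629061851994726468, 507883001681988776429455700713391782]

theorem r3a_vld : vld r3a = true := by decide +kernel
theorem r3b_vld : vld r3b = true := by decide +kernel
theorem thrT4_vld : vld thrT4 = true := by decide +kernel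
theorem thrT5_vld : vld thrT5 = true := by decide +kernel
theorem thrW_vld : thrW.all vld = true := by decide +kernel

theorem thr_check : [thrT4, thrT5].all (fun t => T6.all fun p => T7.all fun q =>
    !(cubeId (fun i => pc t (pc p (pc q i)))) || thrW.any fun k =>
      conjF (pc k) (fun i => pc t (pc p (pc q i))) (pc r3a) ||
      conjF (pc k) (fun i => pc t (pc p (pc q i))) (pc r3b)) = true := by
  decide +kernel

/-- Every element of order three of `M24` is conjugate to one of the two representatives. -/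
theorem order3_classify {g : Equiv.Perm GolayPt} (hg : g ∈ M24) (h3 : g * g * g = 1) (h1 : g ≠ 1) :
    ∃ k ∈ M24, k * g * k⁻¹ = ppm r3a ∨ k * g * k⁻¹ = ppm r3b := by
  obtain ⟨k, hk, v0, v1, v2, v3, v4⟩ := order3_normal_form hg h3 h1
  have hm : k * g * k⁻¹ ∈ M24 := M24.mul_mem (M24.mul_mem hk hg) (M24.inv_mem hk)
  have hcu : (k * g * k⁻¹) * (k * g * k⁻¹) * (k * g * k⁻¹) = 1 := by
    have : (k * g * k⁻¹) * (k * g * k⁻¹) * (k * g * k⁻¹) = k * (g * g * g) * k⁻¹ := by group
    rw [this, h3]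
    group
  set g' := k * g * k⁻¹ with hg'
  obtain ⟨t, ht, htv, hcos⟩ : ∃ t ∈ [thrT4, thrT5], vld t = true ∧ ∀ i ∈ L5, pt (pc t i) = g' (pt i) := by
    rcases v4 with v4 | v4
    · refine ⟨thrT4, by simp, thrT4_vld, fun i hi => ?_⟩
      simp only [L5, List.mem_cons, List.not_mem_nil, or_false] at hi
      rcases hi with rfl | rfl | rfl | rfl | rfl
      · rw [v4]; rfl
      · rw [v3]; rfl
      · rw [v2]; rfl
      · rw [v1]; rfl
      · rw [v0]; rfl
    · refine ⟨thrT5, by simp, thrT5_vld, fun i hi => ?_⟩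
      simp only [L5, List.mem_cons, List.not_mem_nil, or_false] at hi
      rcases hi with rfl | rfl | rfl | rfl | rfl
      · rw [v4]; rfl
      · rw [v3]; rfl
      · rw [v2]; rfl
      · rw [v1]; rfl
      · rw [v0]; rfl
  obtain ⟨p, hp, q, hq, hcode⟩ := exists_code_of_agree hm htv hcos
  have hc := List.all_eq_true.1 (List.all_eq_true.1 (List.all_eq_true.1 thr_check t ht) p hp) q hq
  have hs : cubeId (fun i => pc t (pc p (pc q i))) = true := (cubeId_iff hcode).2 hcu
  rw [hs, Bool.not_true, Bool.false_or, List.any_eq_true] at hc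
  obtain ⟨c, hc1, hc2⟩ := hc
  have hcv : vld c = true := List.all_eq_true.1 thrW_vld c hc1
  refine ⟨ppm c * k, M24.mul_mem (vld_mem hcv) hk, ?_⟩
  have hrw : (ppm c * k) * g * (ppm c * k)⁻¹ = ppm c * g' * (ppm c)⁻¹ := by
    rw [hg']; group
  rw [hrw]
  rw [Bool.or_eq_true] at hc2
  rcases hc2 with hc2 | hc2
  · exact Or.inl (conj_eq_of_conjF (vld_code hcv) hcode (vld_code r3a_vld) hc2)
  · exact Or.inr (conj_eq_of_conjF (vld_code hcv) hcode (vld_code r3b_vld) hc2)

theorem r3a_fix : fixM (pc r3a) = 2507792 := by decide +kernel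
theorem r3b_fix : fixM (pc r3b) = 0 := by decide +kernel

theorem r3a_ne_one : ppm r3a ≠ 1 := by
  intro h
  have := (idF_iff (vld_code r3a_vld)).2 h
  revert this
  decide +kernel

theorem r3b_ne_one : ppm r3b ≠ 1 := by
  intro h
  have := (idF_iff (vld_code r3b_vld)).2 h
  revert this
  decide +kernel

theorem r3a_cube : ppm r3a * ppm r3a * ppm r3a = 1 := (cubeId_iff (vld_code r3a_vld)).1 (by decide +kernel)
theorem r3b_cube : ppm r3b * ppm r3b * ppm r3b = 1 := (cubeId_iff (vld_code r3b_vld)).1 (by decide +kernel)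

theorem r3a_filter : (Finset.univ.filter fun p => ppm r3a p = p) = enc.finOf 2507792 := by
  rw [filter_fix_eq (vld_code r3a_vld), r3a_fix]

theorem r3b_filter : (Finset.univ.filter fun p => ppm r3b p = p) = ∅ := by
  rw [filter_fix_eq (vld_code r3b_vld), r3b_fix]
  decide +kernel

theorem r3a_card : (Finset.univ.filter fun p => ppm r3a p = p).card = 6 := by
  rw [r3a_filter]
  decide +kernel

theorem order_three_iff {g : Equiv.Perm GolayPt} : orderOf g = 3 ↔ g * g * g = 1 ∧ g ≠ 1 := by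
  have h3 : g * g * g = g ^ 3 := by rw [pow_succ, pow_two]
  constructor
  · intro h
    refine ⟨by rw [h3, ← h, pow_orderOf_eq_one], ?_⟩
    rintro rfl
    simp at h
  · rintro ⟨h1, h2⟩
    exact orderOf_eq_prime (by rw [← h3, h1]) h2

/-- Classification with the number of fixed points. -/
theorem order3_classify' {g : Equiv.Perm GolayPt} (hg : g ∈ M24) (h3 : orderOf g = 3) :
    ∃ k ∈ M24, (k * g * k⁻¹ = ppm r3a ∧ (Finset.univ.filter fun p => g p = p).card = 6) ∨
      (k * g * k⁻¹ = ppm r3b ∧ (Finset.univ.filter fun p => g p = p).card = 0) := by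
  obtain ⟨h1, h2⟩ := order_three_iff.1 h3
  obtain ⟨k, hk, h | h⟩ := order3_classify hg h1 h2
  · refine ⟨k, hk, Or.inl ⟨h, ?_⟩⟩
    rw [← r3a_card, ← h, filter_conj, Finset.card_image_of_injective _ k.injective]
  · refine ⟨k, hk, Or.inr ⟨h, ?_⟩⟩
    have h4 : (Finset.univ.filter fun p => ppm r3b p = p).card = 0 := by rw [r3b_filter]; rfl
    rw [← h4, ← h, filter_conj, Finset.card_image_of_injective _ k.injective]

end Cfsg.Agent.Lib.M24
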