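import Cfsg.Agent.Lib.KnownSimple.MultM.Math
import Cfsg.Agent.Lib.M24.Ree
import Cfsg.Agent.Lib.M24.Three

/-!
# Generation of `M₂₃` by triples of prime orders

The triples violating Ree's inequality on the 23 points are excluded; for each of the other forty triples
there is an explicit generating pair, with words for the three known generators.
-/

set_option autoImplicit false

namespace Cfsg.Agent.Lib.M24.M23Gen

open Cfsg Cfsg.Spor Cfsg.Agent.Lib.Compute Cfsg.Agent.Lib.Golay Cfsg.Agent.Lib.KnownSimple.CodeCalc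
open Cfsg.Agent.Lib.KnownSimple.MathieuData Cfsg.Agent.Lib.KnownSimple.MathieuFacts
open Cfsg.Agent.Lib.KnownSimple.MathieuGen Cfsg.Agent.Lib.KnownSimple.MultM Cfsg.Agent.Lib.KnownSimple.MultC
open Cfsg.Agent.Lib.KnownSimple.MathieuOut
open Cfsg.Agent.Lib.M24.Ree
open Equiv Equiv.Perm

/-- The existence of a generating triple. -/
abbrev Gen (p q r : ℕ) : Prop :=
  ∃ x y z : Cfsg.Spor.M23, orderOf x = p ∧ orderOf y = q ∧ orderOf z = r ∧ x * y * z = 1 ∧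
    Subgroup.closure {x, y} = ⊤

/-- The code of a generator. -/
noncomputable def sel2 (cx cy i : ℕ) : ℕ → ℕ := bcond (Nat.beq i 0) (pc cx) (pc cy)

/-- The check of a triple. -/
noncomputable def chk (p q r cx cy : ℕ) (wW wU wX : List ℕ) : Bool :=
  tM23 cx && tM23 cy &&
    agree (iterC (pc cx) p) (fun i => i) && !agree (pc cx) (fun i => i) &&
    agree (iterC (pc cy) q) (fun i => i) && !agree (pc cy) (fun i => i) &&
    agree (iterC (fun i => pc cx (pc cy i)) r) (fun i => i) && !agree (fun i => pc cx (pc cy i)) (fun i => i) &&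
    agree (evC (sel2 cx cy) wW) (pc pW) && agree (evC (sel2 cx cy) wU) (pc pU) &&
    agree (evC (sel2 cx cy) wX) (pc pX)

theorem ne_one_of_code {σ : P24} {f : ℕ → ℕ} (hf : enc.IsCode σ f) (h : agree f (fun i => i) = false) : σ ≠ 1 := by
  rintro rfl
  have h1 : agree f (fun i => i) = true := by
    rw [agree_iff]
    intro i hi
    have h2 := hf (pt i)
    have h3 : enc.idx (pt i) = i := idx_pt hi
    rw [h3] at h2
    rw [h2]
    exact h3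
  rw [h1] at h
  exact Bool.noConfusion h

theorem orderOf_of_code {g : Cfsg.Spor.M23} {f : ℕ → ℕ} {p : ℕ} (hp : p.Prime) (hf : enc.IsCode (g : P24) f)
    (h1 : agree (iterC f p) (fun i => i) = true) (h2 : agree f (fun i => i) = false) : orderOf g = p := by
  haveI : Fact p.Prime := ⟨hp⟩
  refine orderOf_eq_prime ?_ ?_
  · apply Subtype.ext
    rw [Subgroup.coe_pow]
    exact eq_of_agree' (isCode_pow hf p) isCode_one h1
  · intro h
    apply ne_one_of_code hf h2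
    rw [h]
    rfl

theorem of_chk {p q r cx cy : ℕ} {wW wU wX : List ℕ} (hp : p.Prime) (hq : q.Prime) (hr : r.Prime)
    (h : chk p q r cx cy wW wU wX = true) : Gen p q r := by
  simp only [chk, Bool.and_eq_true, Bool.not_eq_true'] at h
  obtain ⟨⟨⟨⟨⟨⟨⟨⟨⟨⟨h1, h2⟩, h3⟩, h4⟩, h5⟩, h6⟩, h7⟩, h8⟩, h9⟩, h10⟩, h11⟩ := h
  have codeX : enc.IsCode (ppm cx) (pc cx) := isCode_ppm (perm_of_t (t24_of_23 h1))
  have codeY : enc.IsCode (ppm cy) (pc cy) := isCode_ppm (perm_of_t (t24_of_23 h2))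
  let x : Cfsg.Spor.M23 := ⟨ppm cx, mem_of_t23 h1⟩
  let y : Cfsg.Spor.M23 := ⟨ppm cy, mem_of_t23 h2⟩
  refine ⟨x, y, (x * y)⁻¹, orderOf_of_code hp codeX h3 h4, orderOf_of_code hq codeY h5 h6, ?_, ?_, ?_⟩
  · rw [orderOf_inv]
    exact orderOf_of_code hr (isCode_mul codeX codeY) h7 h8
  · group
  · apply closure_eq_top_of
    intro σ hσ
    obtain ⟨H, hH⟩ : ∃ H, H = Subgroup.closure ((fun g : Cfsg.Spor.M23 => (g : P24)) '' {x, y}) := ⟨_, rfl⟩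
    rw [← hH]
    have hx : ppm cx ∈ H := by
      rw [hH]
      exact Subgroup.subset_closure ⟨x, Or.inl rfl, rfl⟩
    have hy : ppm cy ∈ H := by
      rw [hH]
      exact Subgroup.subset_closure ⟨y, Or.inr rfl, rfl⟩
    have word : ∀ w : List ℕ, ∃ τ ∈ H, enc.IsCode τ (evC (sel2 cx cy) w) := by
      intro w
      induction w with
      | nil => exact ⟨1, H.one_mem, isCode_one⟩
      | cons i w ih =>
        obtain ⟨τ, hτ, hc⟩ := ih
        have e : evC (sel2 cx cy) (i :: w) = fun a => sel2 cx cy i (evC (sel2 cx cy) w a) := rfl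
        rw [e]
        cases hb : Nat.beq i 0 with
        | true =>
          refine ⟨ppm cx * τ, H.mul_mem hx hτ, ?_⟩
          have e2 : sel2 cx cy i = pc cx := by
            unfold sel2
            rw [hb, bcond_true]
          rw [e2]
          exact isCode_mul codeX hc
        | false =>
          refine ⟨ppm cy * τ, H.mul_mem hy hτ, ?_⟩
          have e2 : sel2 cx cy i = pc cy := by
            unfold sel2
            rw [hb, bcond_false]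
          rw [e2]
          exact isCode_mul codeY hc
    obtain ⟨τ₁, h₁, c₁⟩ := word wW
    obtain ⟨τ₂, h₂, c₂⟩ := word wU
    obtain ⟨τ₃, h₃, c₃⟩ := word wX
    have e₁ : τ₁ = W := eq_of_agree' c₁ code_W h9
    have e₂ : τ₂ = U := eq_of_agree' c₂ code_U h10
    have e₃ : τ₃ = X := eq_of_agree' c₃ code_X h11
    have hle : Subgroup.closure ({W, U, X} : Set P24) ≤ H := by
      rw [Subgroup.closure_le]
      rintro g (rfl | rfl | rfl)
      · rw [← e₁]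
        exact h₁
      · rw [← e₂]
        exact h₂
      · rw [← e₃]
        exact h₃
    exact hle (gen_M23 σ hσ)

theorem t_2_5_11 : Gen 2 5 11 :=
  of_chk (cx := 959464558781968195163235255689366976) (cy := 984482279975066742625887148774237290)
    (wW := [0, 1, 1, 1, 0, 1, 0, 1, 1, 0, 1, 0, 1, 1, 1, 0, 1, 0, 1, 1, 1, 0, 1, 1, 0, 1, 1, 1, 0, 1, 1])
    (wU := [1, 1, 1, 0, 1, 1, 0, 1, 1, 1, 0, 1, 0, 1, 1, 0, 1, 1, 0, 1, 0, 1, 0, 1, 1, 0, 1, 1, 1, 1, 0, 1, 0, 1, 1, 1, 1, 0])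
    (wX := [0, 1, 1, 1, 0, 1, 1, 0, 1, 0, 1, 0, 1, 0, 1, 0, 1, 0, 1, 1, 0, 1, 1, 1, 0, 1, 1, 1, 0, 1, 1, 1])
    (by norm_num) (by norm_num) (by norm_num) (by decide +kernel)

theorem t_2_5_23 : Gen 2 5 23 :=
  of_chk (cx := 973096267945776834731806873318821920) (cy := 958119500918988806331239851916633328)
    (wW := [1, 0, 1, 0, 1, 0, 1, 0, 1, 0, 1, 0, 1, 0, 1, 0, 1, 0, 1, 1, 1, 0, 1, 0, 1, 1, 0, 1, 1, 1, 0, 1, 1])
    (wU := [1, 1, 0, 1, 1, 0, 1, 1, 1, 1, 0, 1, 1, 1, 0, 1, 0, 1, 0, 1, 0, 1, 1, 0, 1, 1, 1, 0])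
    (wX := [1, 1, 1, 0, 1, 1, 0, 1, 1, 0, 1, 1, 0, 1, 1, 1, 1, 0, 1, 0, 1, 1, 0, 1, 1, 1, 1, 0, 1, 1, 0, 1, 1, 0])
    (by norm_num) (by norm_num) (by norm_num) (by decide +kernel)

theorem t_2_7_7 : Gen 2 7 7 :=
  of_chk (cx := 956252967147107544818150586958579766) (cy := 955954988562675984833112963860927142)
    (wW := [0, 1, 1, 1, 0, 1, 1, 1, 0, 1, 1, 0, 1, 1, 0, 1, 1, 1, 1, 0, 1, 0, 1, 1, 1, 0, 1, 0, 1, 1, 1, 0, 1])
    (wU := [1, 1, 0, 1, 0, 1, 0, 1, 1, 1, 0, 1, 1, 1, 1, 0, 1, 1, 1, 1, 1, 0, 1, 1, 0])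
    (wX := [0, 1, 1, 1, 0, 1, 1, 0, 1, 1, 1, 1, 1, 1, 0, 1, 1, 0, 1, 1, 0, 1, 0, 1, 1, 1, 1, 0, 1, 1])
    (by norm_num) (by norm_num) (by norm_num) (by decide +kernel)

theorem t_2_7_11 : Gen 2 7 11 :=
  of_chk (cx := 967938189340721273410962907116849192) (cy := 984521047396856902954957670184559636)
    (wW := [0, 1, 1, 0, 1, 0, 1, 0, 1, 0, 1, 1, 1, 0, 1, 0, 1, 0, 1, 1, 1, 1, 1, 0, 1, 0, 1, 0, 1, 1, 1, 0, 1, 1, 0])
    (wU := [0, 1, 1, 0, 1, 1, 1, 1, 1, 0, 1, 1, 1, 1, 1, 1, 0, 1, 0, 1, 0, 1, 1, 1, 0, 1, 0, 1, 1, 0, 1, 0, 1])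
    (wX := [0, 1, 1, 0, 1, 1, 1, 1, 0, 1, 0, 1, 1, 0, 1, 1, 0, 1, 1, 1, 0, 1, 0, 1, 1, 1, 0, 1, 1, 0, 1, 0, 1, 0, 1])
    (by norm_num) (by norm_num) (by norm_num) (by decide +kernel)

theorem t_2_7_23 : Gen 2 7 23 :=
  of_chk (cx := 968830635170269449220699549403711939) (cy := 980716744651848952995510250170187817)
    (wW := [1, 0, 1, 1, 1, 0, 1, 0, 1, 1, 1, 1, 1, 1, 0, 1, 0, 1, 1, 0, 1, 1, 1, 1, 0, 1])
    (wU := [0, 1, 1, 0, 1, 1, 0, 1, 1, 1, 0, 1, 0, 1, 1, 0, 1, 1, 0, 1, 1, 1, 1, 1])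
    (wX := [0, 1, 0, 1, 1, 1, 1, 0, 1, 1, 0, 1, 1, 1, 1, 1, 1, 0, 1, 1, 1, 1, 1, 0, 1, 1, 0, 1])
    (by norm_num) (by norm_num) (by norm_num) (by decide +kernel)

theorem t_2_11_11 : Gen 2 11 11 :=
  of_chk (cx := 966280121925714001654115059465685033) (cy := 984734412169078127197890134119030444)
    (wW := [1, 1, 0, 1, 1, 1, 1, 0, 1, 1, 0, 1, 1, 1, 0, 1, 0, 1, 0, 1, 0, 1, 1, 1, 1, 0, 1, 0, 1, 0])
    (wU := [1, 0, 1, 0, 1, 1, 1, 1, 0, 1, 0, 1, 0, 1, 1, 1, 0, 1, 0, 1, 1, 1, 0, 1, 1, 0, 1, 0, 1, 0])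
    (wX := [0, 1, 1, 0, 1, 1, 1, 0, 1, 0, 1, 1, 1, 1, 0, 1, 1, 1, 0, 1, 1, 1, 0, 1, 0, 1, 0, 1, 1, 1, 1, 0, 1])
    (by norm_num) (by norm_num) (by norm_num) (by decide +kernel)

theorem t_2_11_23 : Gen 2 11 23 :=
  of_chk (cx := 969848598194701960872049658580877354) (cy := 974388785321958614975786360676622434)
    (wW := [0, 1, 0, 1, 0, 1, 0, 1, 1, 1, 1, 0, 1, 1, 1, 1, 1, 0, 1, 1, 1, 1, 0, 1, 1, 0, 1, 0, 1, 1, 0, 1, 1, 0])
    (wU := [1, 0, 1, 1, 0, 1, 0, 1, 1, 1, 1, 1, 0, 1, 0, 1, 1, 0, 1, 1, 0, 1, 1, 1, 1, 1, 1, 0, 1, 0, 1, 0, 1, 0])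
    (wX := [0, 1, 0, 1, 0, 1, 1, 0, 1, 0, 1, 0, 1, 0, 1, 0, 1, 1, 0, 1, 1, 1, 1, 1, 1, 1, 0, 1, 1, 1, 1, 1, 0])
    (by norm_num) (by norm_num) (by norm_num) (by decide +kernel)

theorem t_2_23_23 : Gen 2 23 23 :=
  of_chk (cx := 984085346507332711729061765015308320) (cy := 974454753428264190718607917374095445)
    (wW := [0, 1, 1, 0, 1, 1, 1, 0, 1, 1, 1, 0, 1, 1, 0, 1, 1, 1, 1, 1, 1, 1, 0, 1, 0, 1, 1, 1, 1, 0, 1, 0])
    (wU := [0, 1, 1, 1, 0, 1, 1, 1, 1, 1, 1, 1, 0, 1, 0, 1, 1, 1, 1, 0, 1, 1, 0, 1, 1, 0, 1, 1, 1, 1, 1])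
    (wX := [1, 1, 1, 0, 1, 0, 1, 1, 1, 1, 1, 1, 0, 1, 1, 0, 1, 1, 1, 0, 1, 1, 0, 1, 1, 1, 0, 1, 0, 1, 0, 1, 0])
    (by norm_num) (by norm_num) (by norm_num) (by decide +kernel)

theorem t_3_3_11 : Gen 3 3 11 :=
  of_chk (cx := 958517019467325354741683365598662290) (cy := 960140710787159581602298719206055347)
    (wW := [0, 1, 1, 0, 1, 0, 0, 1, 1, 0, 1, 0, 1, 0, 1, 1, 0, 0, 1, 0, 1, 1, 0, 1, 0, 0, 1, 1, 0, 0, 1, 0, 0])
    (wU := [0, 0, 1, 0, 1, 1, 0, 1, 0, 1, 0, 1, 1, 0, 0, 1, 1, 0, 0, 1, 0, 1, 0, 0, 1, 0, 0, 1, 0, 1, 1, 0, 1])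
    (wX := [0, 0, 1, 1, 0, 0, 1, 1, 0, 1, 0, 1, 0, 1, 1, 0, 1, 1, 0, 1, 0, 1, 0, 1, 1, 0])
    (by norm_num) (by norm_num) (by norm_num) (by decide +kernel)

theorem t_3_3_23 : Gen 3 3 23 :=
  of_chk (cx := 963886124037126480049611802248788000) (cy := 957540688205753432140679831914435081)
    (wW := [0, 1, 0, 1, 1, 0, 1, 1, 0, 1, 0, 1, 1, 0, 1, 0, 1, 0, 1, 0, 0, 1, 0, 1, 1, 0, 1, 0, 1, 1, 0, 1, 1])
    (wU := [1, 0, 0, 1, 0, 0, 1, 0, 1, 0, 0, 1, 0, 1, 1, 0, 1, 0, 1, 0, 0, 1, 0, 1, 0, 1, 0, 0, 1, 0, 0])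
    (wX := [0, 1, 1, 0, 0, 1, 1, 0, 1, 0, 1, 0, 1, 1, 0, 1, 1, 0, 1, 1, 0, 0, 1, 0, 1, 0, 1, 0, 0, 1, 1, 0])
    (by norm_num) (by norm_num) (by norm_num) (by decide +kernel)

theorem t_3_5_5 : Gen 3 5 5 :=
  of_chk (cx := 984371627327383685692534331625441733) (cy := 958277285346135140018094307304747124)
    (wW := [1, 0, 1, 1, 0, 1, 0, 1, 1, 0, 0, 1, 0, 1, 0, 1, 1, 1, 0, 1, 1, 1, 0, 1, 0, 0, 1, 0])
    (wU := [0, 0, 1, 1, 1, 0, 0, 1, 1, 1, 0, 1, 0, 0, 1, 1, 1, 0, 1, 1, 1, 1, 0, 1, 1, 1, 1])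
    (wX := [1, 1, 1, 1, 0, 1, 0, 1, 1, 0, 1, 1, 0, 0, 1, 0, 0, 1, 1, 0, 1, 1, 0])
    (by norm_num) (by norm_num) (by norm_num) (by decide +kernel)

theorem t_3_5_7 : Gen 3 5 7 :=
  of_chk (cx := 958656464853549231589143658002141861) (cy := 983984707313041012376825677762181778)
    (wW := [1, 1, 0, 0, 1, 0, 1, 0, 1, 1, 0, 0, 1, 1, 0, 1, 0, 1, 0, 1, 1, 1, 1, 0, 1, 0, 0])
    (wU := [0, 0, 1, 0, 0, 1, 0, 1, 1, 0, 1, 0, 0, 1, 1, 0, 1, 0, 0, 1, 1, 1, 0, 1])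
    (wX := [1, 1, 0, 1, 0, 0, 1, 0, 1, 0, 0, 1, 0, 0, 1, 0, 0, 1, 0, 1, 1, 0, 1, 1, 1])
    (by norm_num) (by norm_num) (by norm_num) (by decide +kernel)

theorem t_3_5_11 : Gen 3 5 11 :=
  of_chk (cx := 983953152367252399646000974469897649) (cy := 967725282091142491610956056847136064)
    (wW := [0, 1, 1, 0, 1, 1, 1, 1, 0, 0, 1, 1, 0, 1, 1, 0, 1, 1, 1, 1, 0, 1, 1, 1, 0, 0])
    (wU := [1, 0, 1, 1, 1, 0, 1, 0, 0, 1, 1, 1, 0, 1, 0, 1, 0, 0, 1, 1, 0, 0, 1, 0, 1, 0])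
    (wX := [1, 1, 0, 1, 0, 1, 0, 1, 1, 1, 0, 0, 1, 1, 0, 1, 0, 0, 1, 0, 0, 1, 1, 0, 0])
    (by norm_num) (by norm_num) (by norm_num) (by decide +kernel)

theorem t_3_5_23 : Gen 3 5 23 :=
  of_chk (cx := 961435147948764610811404827472737376) (cy := 960098581940222499449582406291904204)
    (wW := [1, 0, 1, 0, 1, 0, 1, 1, 1, 1, 0, 0, 1, 1, 1, 1, 0, 1, 1, 1, 0, 1, 1, 1, 1, 0])
    (wU := [1, 0, 1, 1, 1, 0, 1, 0, 0, 1, 1, 1, 0, 0, 1, 1, 0, 1, 0, 1, 1, 0, 1, 1, 0, 0, 1, 0, 0])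
    (wX := [1, 0, 0, 1, 1, 1, 0, 1, 1, 0, 1, 0, 0, 1, 1, 0, 0, 1, 0, 1, 0, 1, 1, 1, 0, 1])
    (by norm_num) (by norm_num) (by norm_num) (by decide +kernel)

theorem t_3_7_7 : Gen 3 7 7 :=
  of_chk (cx := 984210872761631096241017021068776898) (cy := 976930609941776978948311053845504672)
    (wW := [0, 1, 1, 1, 1, 1, 1, 0, 0, 1, 1, 0, 1, 1, 0, 1, 0, 0, 1, 1, 1, 0, 0, 1, 1])
    (wU := [1, 1, 0, 0, 1, 1, 0, 1, 1, 1, 0, 1, 0, 0, 1, 0, 1, 0, 1, 0, 0, 1])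
    (wX := [1, 1, 0, 1, 0, 1, 1, 1, 1, 0, 1, 1, 1, 1, 0, 1, 1, 0])
    (by norm_num) (by norm_num) (by norm_num) (by decide +kernel)

theorem t_3_7_11 : Gen 3 7 11 :=
  of_chk (cx := 958250460313676530337496890982125604) (cy := 974390137220280392784418453575646920)
    (wW := [1, 0, 1, 1, 0, 1, 1, 0, 1, 0, 1, 1, 0, 1, 0, 1, 0, 1, 0, 0, 1, 0, 0, 1, 0, 0])
    (wU := [0, 1, 0, 0, 1, 0, 1, 1, 0, 1, 1, 0, 0, 1, 1, 0, 0, 1, 0, 1, 1, 0, 0, 1])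
    (wX := [0, 1, 1, 1, 0, 1, 1, 1, 1, 1, 1, 0, 1, 1, 1, 0, 1, 0, 1, 1, 1, 1, 1, 0, 1, 0])
    (by norm_num) (by norm_num) (by norm_num) (by decide +kernel)

theorem t_3_7_23 : Gen 3 7 23 :=
  of_chk (cx := 962728169504777472816274201306668488) (cy := 977058400603518658725886811160393738)
    (wW := [0, 1, 1, 1, 1, 0, 1, 1, 0, 0, 1, 0, 1, 0, 0, 1, 1, 0, 1, 0, 0, 1])
    (wU := [1, 1, 1, 1, 1, 1, 0, 1, 1, 0, 0, 1, 1, 0, 1, 0, 1, 0, 0, 1, 1, 0, 1, 1, 0, 1, 1, 0, 0])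
    (wX := [1, 1, 1, 0, 0, 1, 0, 1, 0, 0, 1, 1, 1, 0, 1, 1, 1, 0, 0, 1, 1, 1, 0, 0, 1])
    (by norm_num) (by norm_num) (by norm_num) (by decide +kernel)

theorem t_3_11_11 : Gen 3 11 11 :=
  of_chk (cx := 984817868157244073004389257011737190) (cy := 964566255761886920184345146661320328)
    (wW := [1, 0, 0, 1, 0, 1, 0, 0, 1, 0, 1, 1, 1, 1, 1, 0, 1, 1, 0, 0, 1, 1, 1, 0, 0])
    (wU := [1, 1, 1, 1, 1, 1, 0, 1, 0, 0, 1, 1, 0, 0, 1, 0, 0, 1, 0, 1, 1, 0, 0, 1, 0, 0])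
    (wX := [1, 0, 0, 1, 0, 1, 1, 1, 0, 1, 1, 1, 1, 0, 1, 1, 0, 0, 1, 1, 1, 1, 0, 0, 1, 0])
    (by norm_num) (by norm_num) (by norm_num) (by decide +kernel)

theorem t_3_11_23 : Gen 3 11 23 :=
  of_chk (cx := 983380297331464597704430596109321283) (cy := 970234028473093380141342476250755648)
    (wW := [0, 1, 1, 0, 1, 1, 1, 0, 1, 1, 1, 0, 1, 1, 0, 1, 1, 1, 1, 1, 0, 0, 1, 1, 0, 0])
    (wU := [1, 1, 0, 1, 0, 1, 1, 1, 1, 0, 1, 1, 1, 1, 0, 1, 0, 1, 1, 1, 0, 1, 0, 1, 1, 0, 0])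
    (wX := [1, 0, 0, 1, 1, 1, 1, 0, 1, 1, 0, 1, 0, 1, 1, 0, 1, 1, 1, 1, 0, 1, 0, 0])
    (by norm_num) (by norm_num) (by norm_num) (by decide +kernel)

theorem t_3_23_23 : Gen 3 23 23 :=
  of_chk (cx := 961968830979385391424698194566682656) (cy := 983068999973856403239469400591943699)
    (wW := [0, 1, 0, 0, 1, 1, 0, 0, 1, 1, 1, 0, 1, 1, 1, 0, 1, 0, 0, 1, 0, 1, 0, 1, 0])
    (wU := [1, 1, 1, 1, 0, 1, 0, 1, 1, 1, 0, 1, 1, 1, 1, 0, 1, 0, 0, 1, 0, 1, 1, 0, 0, 1])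
    (wX := [0, 1, 1, 0, 0, 1, 0, 0, 1, 0, 0, 1, 1, 0, 0, 1, 1, 1, 0, 1, 1, 1, 0, 1])
    (by norm_num) (by norm_num) (by norm_num) (by decide +kernel)

theorem t_5_5_5 : Gen 5 5 5 :=
  of_chk (cx := 957388703288693937034117867227185573) (cy := 969671766045991310385807888767617484)
    (wW := [0, 1, 0, 1, 1, 0, 1, 0, 0, 1, 1, 0, 0, 1, 0, 1, 1, 0, 1, 0, 1, 0, 1])
    (wU := [1, 0, 1, 1, 1, 1, 0, 0, 1, 0, 1, 0, 0, 1, 1, 0, 1, 0, 1, 1, 0, 1, 0, 0])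
    (wX := [0, 0, 0, 1, 0, 1, 1, 1, 1, 0, 0, 1, 0, 1, 0, 0, 1, 0, 1, 0, 0, 1, 1, 0, 0])
    (by norm_num) (by norm_num) (by norm_num) (by decide +kernel)

theorem t_5_5_7 : Gen 5 5 7 :=
  of_chk (cx := 966680089578762461446109745801974054) (cy := 984650540866444787608901865977402543)
    (wW := [0, 0, 0, 0, 1, 1, 1, 1, 0, 1, 0, 0, 0, 1, 0, 0, 0, 1, 1, 0, 1, 0, 0, 1, 0])
    (wU := [1, 1, 0, 1, 0, 0, 0, 1, 1, 1, 1, 0, 1, 0, 1, 0, 1, 0, 0, 0, 1, 0, 1, 1, 1, 1])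
    (wX := [1, 0, 0, 0, 1, 1, 1, 0, 0, 0, 1, 1, 1, 0, 0, 0, 1, 1, 0, 1, 0, 0, 1, 0])
    (by norm_num) (by norm_num) (by norm_num) (by decide +kernel)

theorem t_5_5_11 : Gen 5 5 11 :=
  of_chk (cx := 974233340308088716074385113397575011) (cy := 962750259571013318428673836764381331)
    (wW := [1, 0, 0, 1, 0, 0, 1, 1, 1, 0, 1, 1, 0, 0, 1, 1, 1, 0, 0, 1, 1, 1, 0])
    (wU := [1, 0, 0, 0, 0, 1, 0, 0, 1, 1, 0, 0, 0, 1, 0, 1, 1, 0, 0, 1, 1, 0, 1, 0, 1])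
    (wX := [1, 0, 0, 1, 1, 1, 1, 0, 0, 0, 0, 1, 0, 1, 0, 0, 0, 1, 0, 0, 0, 0, 1, 1])
    (by norm_num) (by norm_num) (by norm_num) (by decide +kernel)

theorem t_5_5_23 : Gen 5 5 23 :=
  of_chk (cx := 970037557384949556502105885193543078) (cy := 973946553199256473700794187749792353)
    (wW := [1, 1, 0, 0, 1, 0, 1, 1, 0, 1, 1, 1, 1, 0, 1, 1, 0, 1, 0, 1, 0, 1, 0, 0])
    (wU := [0, 0, 0, 0, 1, 1, 0, 0, 1, 1, 1, 0, 1, 1, 0, 1, 1, 0, 0, 1, 0, 1, 0])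
    (wX := [0, 1, 0, 0, 1, 1, 0, 1, 1, 1, 0, 1, 1, 0, 1, 1, 0, 1, 1, 0])
    (by norm_num) (by norm_num) (by norm_num) (by decide +kernel)

theorem t_5_7_7 : Gen 5 7 7 :=
  of_chk (cx := 962733344776649748929697138974636096) (cy := 976439079168138130467304360642806961)
    (wW := [0, 0, 1, 0, 1, 1, 1, 1, 0, 1, 1, 0, 1, 0, 1, 1, 0, 0, 1, 0, 1, 1, 0])
    (wU := [1, 1, 0, 0, 0, 1, 0, 0, 1, 0, 1, 0, 0, 1, 0, 1, 0, 1, 1, 1, 1, 0, 0])
    (wX := [1, 1, 1, 0, 1, 0, 0, 1, 1, 1, 1, 1, 1, 0, 1, 0, 0, 0, 1, 1, 1, 1])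
    (by norm_num) (by norm_num) (by norm_num) (by decide +kernel)

theorem t_5_7_11 : Gen 5 7 11 :=
  of_chk (cx := 957492354719145827815911313200241125) (cy := 984035930264053748848996117876290729)
    (wW := [1, 0, 0, 0, 1, 1, 0, 0, 1, 1, 1, 0, 0, 0, 1, 1, 0, 1, 1, 0])
    (wU := [1, 0, 1, 1, 0, 1, 0, 0, 1, 1, 0, 1, 1, 0, 0, 0, 1, 1, 1, 1, 1, 1])
    (wX := [0, 1, 1, 0, 1, 0, 0, 0, 1, 0, 0, 1, 0, 1, 1, 1, 0, 1, 1, 0, 1, 1, 0])
    (by norm_num) (by norm_num) (by norm_num) (by decide +kernel)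

theorem t_5_7_23 : Gen 5 7 23 :=
  of_chk (cx := 984206866476102962601205642756982176) (cy := 971142383972580727330711655062518821)
    (wW := [1, 1, 0, 0, 1, 1, 1, 0, 1, 1, 1, 0, 1, 0, 0, 1, 0, 0, 0, 1, 1, 0, 1])
    (wU := [1, 1, 1, 1, 1, 0, 1, 0, 0, 1, 1, 0, 1, 1, 1, 1, 1, 1, 0, 1, 0])
    (wX := [1, 0, 1, 0, 1, 0, 1, 0, 1, 1, 1, 1, 0, 0, 0, 1, 1, 0, 0, 0, 1, 1, 0])
    (by norm_num) (by norm_num) (by norm_num) (by decide +kernel)

theorem t_5_11_11 : Gen 5 11 11 :=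
  of_chk (cx := 972850993326424570627149207116725587) (cy := 956771277619666058448506709550477617)
    (wW := [1, 1, 0, 0, 0, 0, 1, 1, 0, 0, 1, 1, 0, 1, 0, 1, 0, 1, 1, 0, 0, 0, 1, 0])
    (wU := [1, 0, 1, 0, 0, 1, 1, 1, 1, 0, 1, 1, 0, 0, 0, 1, 0, 0, 0, 0, 1, 0, 1, 0])
    (wX := [0, 0, 1, 1, 0, 0, 1, 1, 0, 1, 0, 1, 1, 1, 1, 1, 1])
    (by norm_num) (by norm_num) (by norm_num) (by decide +kernel)

theorem t_5_11_23 : Gen 5 11 23 :=
  of_chk (cx := 967737353368780457856254738110452428) (cy := 980576354823903535856906910597588099)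
    (wW := [0, 0, 0, 1, 0, 0, 0, 0, 1, 0, 0, 1, 0, 0, 0, 1, 0, 1, 1, 0, 1, 1, 0])
    (wU := [0, 0, 0, 1, 0, 0, 1, 0, 1, 1, 0, 1, 0, 1, 1, 1, 0, 1, 0, 1, 1, 0, 1, 0])
    (wX := [1, 1, 0, 0, 1, 1, 0, 1, 0, 0, 1, 0, 0, 1, 0, 1, 1, 0, 0, 1, 0, 1, 1])
    (by norm_num) (by norm_num) (by norm_num) (by decide +kernel)

theorem t_5_23_23 : Gen 5 23 23 :=
  of_chk (cx := 975609741749642732594958427247616064) (cy := 964903492130925521635227335185714757)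
    (wW := [0, 1, 0, 0, 0, 1, 1, 0, 0, 0, 1, 1, 1, 1, 0, 1, 1, 0, 1, 0, 1, 1, 1, 0])
    (wU := [1, 0, 1, 1, 1, 1, 0, 1, 0, 0, 0, 1, 0, 1, 1, 1, 0, 1, 1, 0])
    (wX := [0, 0, 1, 1, 1, 1, 1, 0, 0, 1, 0, 0, 1, 0, 0, 0, 0, 1, 0, 1, 1, 0, 0, 0])
    (by norm_num) (by norm_num) (by norm_num) (by decide +kernel)

theorem t_7_7_7 : Gen 7 7 7 :=
  of_chk (cx := 974379793038854858884595850947443820) (cy := 971293279921976662952436474322831027)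
    (wW := [0, 1, 1, 0, 0, 1, 0, 1, 0, 1, 1, 1, 1, 0, 0, 1, 1, 0, 0])
    (wU := [1, 1, 0, 0, 0, 1, 0, 1, 1, 1, 1, 0, 0, 1, 0, 0, 1, 1, 1, 1, 1, 0, 0, 0])
    (wX := [1, 0, 0, 0, 0, 0, 0, 1, 0, 1, 1, 1, 1, 0, 1, 0, 1, 0, 1, 1, 0])
    (by norm_num) (by norm_num) (by norm_num) (by decide +kernel)

theorem t_7_7_11 : Gen 7 7 11 :=
  of_chk (cx := 965780116438583316948673728435554599) (cy := 958895726994242845437202445158096949)
    (wW := [1, 1, 0, 0, 0, 0, 0, 1, 0, 0, 1, 0, 0, 0, 1, 1, 0, 1, 0, 0, 1, 1, 0, 1])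
    (wU := [1, 0, 0, 0, 1, 1, 0, 1, 1, 1, 0, 1, 1, 0, 0, 1, 0, 1, 0, 0, 0, 1, 1, 0])
    (wX := [1, 0, 0, 0, 0, 1, 0, 1, 1, 0, 1, 1, 1, 1, 0, 1, 0, 0, 1, 0, 1, 1, 1, 0, 1])
    (by norm_num) (by norm_num) (by norm_num) (by decide +kernel)

theorem t_7_7_23 : Gen 7 7 23 :=
  of_chk (cx := 969012901683675268442227151499339366) (cy := 983132371449555151533431676743075328)
    (wW := [0, 1, 0, 0, 0, 0, 1, 0, 1, 0, 1, 0, 0, 0, 1, 0, 1, 1, 0, 1, 1, 1, 1, 0])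
    (wU := [0, 1, 0, 0, 1, 1, 0, 0, 1, 0, 1, 1, 1, 1, 1, 0, 0, 0, 0, 0])
    (wX := [1, 0, 1, 0, 0, 0, 1, 0, 0, 0, 0, 0, 1, 1, 1, 1, 0, 1, 0, 0, 1, 0])
    (by norm_num) (by norm_num) (by norm_num) (by decide +kernel)

theorem t_7_11_11 : Gen 7 11 11 :=
  of_chk (cx := 974943906804470656922735583852542630) (cy := 977960831054000081946347887600772303)
    (wW := [1, 0, 0, 0, 1, 1, 1, 0, 1, 0, 1, 0, 1, 0, 1, 1, 0, 0, 1, 0, 0, 1, 0])
    (wU := [1, 0, 1, 0, 1, 1, 1, 0, 0, 1, 1, 1, 0, 0, 1, 0, 0, 1, 1, 0, 1, 0, 0, 0])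
    (wX := [0, 1, 0, 0, 1, 0, 1, 1, 0, 1, 0, 1, 0, 1, 0, 0, 1, 1, 1, 1, 1, 0, 0])
    (by norm_num) (by norm_num) (by norm_num) (by decide +kernel)

theorem t_7_11_23 : Gen 7 11 23 :=
  of_chk (cx := 963399787224835577887525142194601351) (cy := 961443459349265267336315802968705355)
    (wW := [0, 1, 1, 0, 0, 0, 0, 1, 0, 0, 1, 0, 0, 1, 0, 1, 1, 0, 0, 1, 1, 0, 0, 0])
    (wU := [1, 0, 0, 1, 1, 1, 0, 1, 1, 1, 0, 0, 0, 1, 0, 1, 1, 0, 0, 0, 1, 0, 1, 0, 0])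
    (wX := [1, 0, 0, 0, 1, 1, 1, 1, 1, 1, 0, 0, 1, 1, 0, 1, 0, 0, 0, 1])
    (by norm_num) (by norm_num) (by norm_num) (by decide +kernel)

theorem t_7_23_23 : Gen 7 23 23 :=
  of_chk (cx := 966443127899363346959110409348581484) (cy := 959606810547349030385799208029787153)
    (wW := [0, 0, 0, 0, 1, 0, 1, 0, 1, 0, 0, 1, 0, 0, 0, 0, 0, 1, 1, 0, 1, 0])
    (wU := [0, 0, 1, 1, 0, 1, 1, 1, 1, 1, 0, 1, 1, 0, 1, 1, 1, 0, 1, 1, 1, 0, 0, 0])
    (wX := [0, 1, 1, 0, 1, 0, 1, 0, 1, 0, 0, 0, 0, 1, 1, 0, 1, 1, 0, 0, 0, 0, 0, 0])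
    (by norm_num) (by norm_num) (by norm_num) (by decide +kernel)

theorem t_11_11_11 : Gen 11 11 11 :=
  of_chk (cx := 982746530640171684749468663697379981) (cy := 960859212012058448777454909756417197)
    (wW := [0, 0, 1, 1, 0, 0, 0, 0, 1, 1, 1, 1, 1, 1, 0, 1, 1, 1, 1, 0, 0, 1])
    (wU := [0, 0, 1, 1, 1, 1, 0, 0, 0, 0, 0, 0, 1, 0, 0, 0, 1, 1, 1, 0, 1, 0])
    (wX := [0, 0, 1, 0, 1, 1, 0, 1, 1, 0, 1, 1, 0, 0, 1, 0, 1, 1, 1, 1, 1])
    (by norm_num) (by norm_num) (by norm_num) (by decide +kernel)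

theorem t_11_11_23 : Gen 11 11 23 :=
  of_chk (cx := 968830671209468833636088136277871620) (cy := 980495109131183380296352230733251798)
    (wW := [1, 0, 1, 1, 1, 1, 1, 1, 1, 1, 0, 0, 0, 0, 0, 0, 0, 1, 1, 0, 0, 1, 0])
    (wU := [0, 0, 0, 1, 0, 0, 0, 1, 1, 1, 0, 1, 1, 0, 1, 1, 0, 1, 1, 1, 1, 0, 0])
    (wX := [0, 0, 0, 0, 1, 1, 1, 0, 0, 0, 1, 1, 1, 0, 0, 1, 0, 1, 1, 0, 1, 0])
    (by norm_num) (by norm_num) (by norm_num) (by decide +kernel)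

theorem t_11_23_23 : Gen 11 23 23 :=
  of_chk (cx := 961044156523272357532716947426524704) (cy := 968933399142899028629055405115516496)
    (wW := [1, 0, 1, 0, 0, 0, 1, 0, 1, 0, 0, 0, 0, 0, 0, 0, 0, 1, 1, 1, 0, 0])
    (wU := [1, 1, 1, 1, 1, 0, 1, 0, 0, 1, 0, 0, 0, 1, 1, 1, 1, 1, 0, 0, 1, 1])
    (wX := [0, 1, 0, 1, 0, 0, 0, 0, 0, 0, 1, 1, 0, 1, 1, 1, 1, 1, 0, 0, 0])
    (by norm_num) (by norm_num) (by norm_num) (by decide +kernel)

theorem t_23_23_23 : Gen 23 23 23 :=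
  of_chk (cx := 958198946868512880905946585016554152) (cy := 978226121876646380803623596880736500)
    (wW := [1, 0, 0, 0, 0, 0, 1, 0, 0, 1, 0, 0, 0, 1, 0, 0, 0, 1, 0, 0])
    (wU := [1, 0, 0, 0, 0, 0, 0, 0, 0, 0, 0, 0, 1, 0, 1, 0, 0, 1, 1, 1, 0, 0])
    (wX := [0, 1, 1, 0, 0, 1, 0, 0, 0, 0, 1, 0, 1, 1, 0, 1, 0, 0, 1, 0, 0, 0])
    (by norm_num) (by norm_num) (by norm_num) (by decide +kernel)

/-- The forty triples. -/
theorem gen_all {p q r : ℕ} (hp : p = 2 ∨ p = 3 ∨ p = 5 ∨ p = 7 ∨ p = 11 ∨ p = 23)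
    (hq : q = 2 ∨ q = 3 ∨ q = 5 ∨ q = 7 ∨ q = 11 ∨ q = 23) (hr : r = 2 ∨ r = 3 ∨ r = 5 ∨ r = 7 ∨ r = 11 ∨ r = 23)
    (hpq : p ≤ q) (hqr : q ≤ r) (h2 : ¬ (p = 2 ∧ q = 2))
    (h : ¬ ((p = 2 ∧ q = 3) ∨ (p = 2 ∧ q = 5 ∧ r = 5) ∨ (p = 2 ∧ q = 5 ∧ r = 7) ∨ (p = 3 ∧ q = 3 ∧ r ≤ 7))) :
    Gen p q r := by
  rcases hp with rfl | rfl | rfl | rfl | rfl | rfl <;> rcases hq with rfl | rfl | rfl | rfl | rfl | rfl <;>
    rcases hr with rfl | rfl | rfl | rfl | rfl | rfl <;>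
    first
    | (exfalso; omega)
    | exact t_2_5_11 | exact t_2_5_23 | exact t_2_7_7 | exact t_2_7_11 | exact t_2_7_23 | exact t_2_11_11 | exact t_2_11_23 | exact t_2_23_23 | exact t_3_3_11 | exact t_3_3_23 | exact t_3_5_5 | exact t_3_5_7 | exact t_3_5_11 | exact t_3_5_23 | exact t_3_7_7 | exact t_3_7_11 | exact t_3_7_23 | exact t_3_11_11 | exact t_3_11_23 | exact t_3_23_23 | exact t_5_5_5 | exact t_5_5_7 | exact t_5_5_11 | exact t_5_5_23 | exact t_5_7_7 | exact t_5_7_11 | exact t_5_7_23 | exact t_5_11_11 | exact t_5_11_23 | exact t_5_23_23 | exact t_7_7_7 | exact t_7_7_11 | exact t_7_7_23 | exact t_7_11_11 | exact t_7_11_23 | exact t_7_23_23 | exact t_11_11_11 | exact t_11_11_23 | exact t_11_23_23 | exact t_23_23_23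

/-! ### The action on the 23 points -/

theorem none_fix (g : Cfsg.Spor.M23) : (g : P24) none = none :=
  MulAction.mem_stabilizer_iff.1 (Subgroup.mem_inf.1 g.2).2

theorem some_ne (g : Cfsg.Spor.M23) (a : ZMod 23) : (g : P24) (some a) ≠ none := by
  intro h
  have := (g : P24).injective (h.trans (none_fix g).symm)
  exact absurd this (by simp)

theorem some_rm (g : Cfsg.Spor.M23) (a : ZMod 23) : some (Equiv.removeNone (g : P24) a) = (g : P24) (some a) :=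
  Equiv.removeNone_some _ (Option.ne_none_iff_exists'.1 (some_ne g a))

/-- The action on the 23 points. -/
noncomputable def φ : Cfsg.Spor.M23 →* Perm (ZMod 23) where
  toFun g := Equiv.removeNone (g : P24)
  map_one' := by
    ext a
    have : some (Equiv.removeNone ((1 : Cfsg.Spor.M23) : P24) a) = some a := by
      rw [some_rm]
      rfl
    rw [Option.some_injective _ this]
    rfl
  map_mul' := by
    intro g h
    apply Equiv.ext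
    intro a
    apply Option.some_injective
    rw [some_rm]
    show _ = some (Equiv.removeNone (g : P24) (Equiv.removeNone (h : P24) a))
    rw [some_rm, some_rm]
    rfl

theorem some_φ (g : Cfsg.Spor.M23) (a : ZMod 23) : some (φ g a) = (g : P24) (some a) := some_rm g a

theorem memW : W ∈ Cfsg.Spor.M23 := mem_M23_iff.2 ⟨mem_W, by
  rw [cd_eq_code code_W (by norm_num)]
  decide +kernel⟩

theorem W_some (a : ZMod 23) : W (some a) = some (a + 1) := by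
  apply enc.idx_injective
  rw [← code_W (some a)]
  revert a
  decide +kernel

theorem W_pow_some (k : ℕ) (a : ZMod 23) : (W ^ k) (some a) = some (a + k) := by
  induction k with
  | zero => simp
  | succ k ih =>
    rw [pow_succ', Perm.mul_apply, ih, W_some]
    congr 1
    push_cast
    ring

/-- Transitivity on the 23 points. -/
theorem trans_of_top {x y : Cfsg.Spor.M23} (h : Subgroup.closure {x, y} = ⊤) (a b : ZMod 23) :
    ∃ g ∈ Subgroup.closure ({φ x, φ y} : Set (Perm (ZMod 23))), g a = b := by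
  let w : Cfsg.Spor.M23 := ⟨W, memW⟩ ^ (b - a).val
  refine ⟨φ w, ?_, ?_⟩
  · rw [← Set.image_pair, ← MonoidHom.map_closure, h]
    exact ⟨w, Subgroup.mem_top _, rfl⟩
  · apply Option.some_injective
    rw [some_φ]
    have e : ((w : Cfsg.Spor.M23) : P24) = W ^ (b - a).val := rfl
    rw [e, W_pow_some, ZMod.natCast_zmod_val]
    congr 1
    ring

/-- Ree's inequality in `M₂₃`. -/
theorem ree_M23 {x y z : Cfsg.Spor.M23} (h : x * y * z = 1) (hc : Subgroup.closure {x, y} = ⊤) :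
    46 ≤ ind (φ x) + ind (φ y) + ind (φ z) + 2 := by
  have h1 : φ x * φ y * φ z = 1 := by
    rw [← map_mul, ← map_mul, h, map_one]
  have := ree (φ x) (φ y) (φ z) h1 0 (trans_of_top hc)
  rw [ZMod.card] at this
  omega

/-- The number of fixed points. -/
def fixF (g : Perm (ZMod 23)) : ℕ := (Finset.univ.filter (fun a => g a = a)).card

theorem fix_transfer (g : Cfsg.Spor.M23) :
    (Finset.univ.filter (fun p : GolayPt => (g : P24) p = p)).card ≤ fixF (φ g) + 1 := by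
  classical
  have hsub : Finset.univ.filter (fun p : GolayPt => (g : P24) p = p) ⊆
      insert none ((Finset.univ.filter (fun a => φ g a = a)).image some) := by
    intro p hp
    simp only [Finset.mem_filter, Finset.mem_univ, true_and] at hp
    cases p with
    | none => exact Finset.mem_insert_self _ _
    | some a =>
      apply Finset.mem_insert_of_mem
      rw [Finset.mem_image]
      refine ⟨a, ?_, rfl⟩
      simp only [Finset.mem_filter, Finset.mem_univ, true_and]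
      apply Option.some_injective
      rw [some_φ, hp]
  calc _ ≤ _ := Finset.card_le_card hsub
    _ ≤ _ := Finset.card_insert_le _ _
    _ ≤ _ := by
      have := Finset.card_image_le (s := Finset.univ.filter (fun a => φ g a = a)) (f := (some : ZMod 23 → GolayPt))
      unfold fixF
      omega

theorem fix_two {g : Cfsg.Spor.M23} (h : orderOf g = 2) : 7 ≤ fixF (φ g) := by
  have h' : orderOf (g : P24) = 2 := by
    rw [Subgroup.orderOf_coe]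
    exact h
  obtain ⟨h1, h2⟩ := Cfsg.Agent.Lib.M24.order_two_iff.1 h'
  obtain ⟨k, -, e | e⟩ := Cfsg.Agent.Lib.M24.involution_classify (Subgroup.mem_inf.1 g.2).1 h1 h2
  · have h3 : (Finset.univ.filter (fun p => ppm Cfsg.Agent.Lib.M24.r2a p = p)).card = 8 := by
      rw [Cfsg.Agent.Lib.M24.r2a_filter]
      decide +kernel
    rw [← e, Cfsg.Agent.Lib.M24.filter_conj, Finset.card_image_of_injective _ k.injective] at h3
    have := fix_transfer g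
    omega
  · exact absurd (none_fix g) ((Cfsg.Agent.Lib.M24.fpf_conj_iff e).2 Cfsg.Agent.Lib.M24.r2b_fpf none)

theorem fix_three {g : Cfsg.Spor.M23} (h : orderOf g = 3) : 5 ≤ fixF (φ g) := by
  have h' : orderOf (g : P24) = 3 := by
    rw [Subgroup.orderOf_coe]
    exact h
  obtain ⟨k, -, ⟨-, e⟩ | ⟨-, e⟩⟩ := Cfsg.Agent.Lib.M24.order3_classify' (Subgroup.mem_inf.1 g.2).1 h'
  · have := fix_transfer g
    omega
  · exfalso
    have h3 : none ∈ Finset.univ.filter (fun p : GolayPt => (g : P24) p = p) := by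
      simp only [Finset.mem_filter, Finset.mem_univ, true_and]
      exact none_fix g
    rw [Finset.card_eq_zero] at e
    rw [e] at h3
    simp at h3

/-- The congruence for the number of fixed points. -/
theorem fix_mod (g : Perm (ZMod 23)) {p : ℕ} (hp : p.Prime) (h : g ^ p = 1) : ∃ k, fixF g + p * k = 23 := by
  classical
  haveI : Fact p.Prime := ⟨hp⟩
  have hsum : fixF g + g.support.card = 23 := by
    have h1 := Finset.card_filter_add_card_filter_not (s := (Finset.univ : Finset (ZMod 23))) (fun a => g a = a)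
    rw [Finset.card_univ, ZMod.card] at h1
    have h2 : g.support = Finset.univ.filter (fun a => ¬ g a = a) := by
      ext a
      simp
    rw [h2]
    exact h1
  by_cases h1 : g = 1
  · refine ⟨0, ?_⟩
    subst h1
    have : (1 : Perm (ZMod 23)).support.card = 0 := by simp
    omega
  · have ho : orderOf g = p := orderOf_eq_prime h h1
    obtain ⟨n, hn⟩ := Equiv.Perm.cycleType_prime_order (σ := g) (by rw [ho]; exact hp)
    have h2 := Equiv.Perm.sum_cycleType g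
    rw [hn, Multiset.sum_replicate, smul_eq_mul, ho] at h2
    refine ⟨n + 1, ?_⟩
    rw [← hsum, ← h2, mul_comm]

theorem pow_φ {g : Cfsg.Spor.M23} {p : ℕ} (h : orderOf g = p) : (φ g) ^ p = 1 := by
  rw [← map_pow, ← h, pow_orderOf_eq_one, map_one]

theorem ind_two {g : Cfsg.Spor.M23} (h : orderOf g = 2) : ind (φ g) ≤ 8 := by
  have h1 := ind_bound (φ g) 1 (pow_φ h)
  have h2 := fix_two h
  rw [ZMod.card] at h1
  unfold fixF at h2
  omega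

theorem ind_three {g : Cfsg.Spor.M23} (h : orderOf g = 3) : ind (φ g) ≤ 12 := by
  have h1 := ind_bound (φ g) 2 (pow_φ h)
  have h2 := fix_three h
  rw [ZMod.card] at h1
  unfold fixF at h2
  omega

theorem ind_five {g : Cfsg.Spor.M23} (h : orderOf g = 5) : ind (φ g) ≤ 16 := by
  have h1 := ind_bound (φ g) 4 (pow_φ h)
  obtain ⟨k, h2⟩ := fix_mod (φ g) (by norm_num) (pow_φ h)
  rw [ZMod.card] at h1
  unfold fixF at h2
  omega

theorem ind_seven {g : Cfsg.Spor.M23} (h : orderOf g = 7) : ind (φ g) ≤ 18 := by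
  have h1 := ind_bound (φ g) 6 (pow_φ h)
  obtain ⟨k, h2⟩ := fix_mod (φ g) (by norm_num) (pow_φ h)
  rw [ZMod.card] at h1
  unfold fixF at h2
  omega

/-- The index of any permutation of the points. -/
theorem ind_any (g : Perm (ZMod 23)) : ind g ≤ 22 := by
  have h1 := ind_add_orbits g
  rw [ZMod.card] at h1
  haveI : Nonempty (Quotient (SameCycle.setoid g)) := ⟨Quotient.mk _ 0⟩
  have h2 : 0 < Nat.card (Quotient (SameCycle.setoid g)) := Nat.card_pos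
  omega

/-- The excluded triples. -/
theorem not_gen {p q r : ℕ} (hr : r.Prime) (h : Gen p q r) :
    ¬ ((p = 2 ∧ q = 3) ∨ (p = 2 ∧ q = 5 ∧ r = 5) ∨ (p = 2 ∧ q = 5 ∧ r = 7) ∨ (p = 3 ∧ q = 3 ∧ r ≤ 7)) := by
  obtain ⟨x, y, z, hx, hy, hz, hxyz, hc⟩ := h
  have hree := ree_M23 hxyz hc
  rintro (⟨rfl, rfl⟩ | ⟨rfl, rfl, rfl⟩ | ⟨rfl, rfl, rfl⟩ | ⟨rfl, rfl, h7⟩)
  · have h1 := ind_two hx
    have h2 := ind_three hy
    have h3 := ind_any (φ z)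
    omega
  · have h1 := ind_two hx
    have h2 := ind_five hy
    have h3 := ind_five hz
    omega
  · have h1 := ind_two hx
    have h2 := ind_five hy
    have h3 := ind_seven hz
    omega
  · have h1 := ind_three hx
    have h2 := ind_three hy
    have h3 : ind (φ z) ≤ 18 := by
      have h4 : r = 2 ∨ r = 3 ∨ r = 5 ∨ r = 7 := by
        interval_cases r <;> first | (exfalso; revert hr; norm_num; done) | omega
      rcases h4 with rfl | rfl | rfl | rfl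
      · have := ind_two hz
        omega
      · have := ind_three hz
        omega
      · have := ind_five hz
        omega
      · exact ind_seven hz
    omega

theorem prime_list {p : ℕ} (hp : p.Prime) (h : p ∣ 10200960) :
    p = 2 ∨ p = 3 ∨ p = 5 ∨ p = 7 ∨ p = 11 ∨ p = 23 := by
  have e : (10200960 : ℕ) = 2 ^ 7 * 3 ^ 2 * 5 * 7 * 11 * 23 := by norm_num
  rw [e] at h
  simp only [hp.dvd_mul] at h
  have pd : ∀ {c : ℕ}, c.Prime → p ∣ c → p = c := fun hc hd => (Nat.prime_dvd_prime_iff_eq hp hc).1 hd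
  rcases h with ((((h | h) | h) | h) | h) | h
  · exact Or.inl (pd Nat.prime_two (hp.dvd_of_dvd_pow h))
  · exact Or.inr (Or.inl (pd Nat.prime_three (hp.dvd_of_dvd_pow h)))
  · exact Or.inr (Or.inr (Or.inl (pd (by norm_num) h)))
  · exact Or.inr (Or.inr (Or.inr (Or.inl (pd (by norm_num) h))))
  · exact Or.inr (Or.inr (Or.inr (Or.inr (Or.inl (pd (by norm_num) h)))))
  · exact Or.inr (Or.inr (Or.inr (Or.inr (Or.inr (pd (by norm_num) h)))))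

end Cfsg.Agent.Lib.M24.M23Gen
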