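import Mathlib

/-!
# Data for the fifteen trios through an octad
-/

namespace Cfsg.Agent.Lib.M24

/-- The numbers of the fifteen trios through the base octad. -/
def L15 : ℕ := 1414606515666290070106792971051959806793149152021218159
/-- The member through the point number 4 in each of these trios. -/
def AT15 : ℕ := 588239877703313428698376712005548841146866651374595697416606370198173150949508328858073183694370715274352656
/-- The pointwise stabiliser of the base octad. -/
def E16 : List ℕ := [984818244535754528103549039458486304, 965128854020860192151391391390468128, 963721886883755259286232606933354528, 979121071158219704299181131031480352, 968708902336673183175954409307867168, 967812279691448225500382947153381408, 971592882964418941354553515258775584, 970499966350631336865513127433832480, 976448692869377735270425038196672544, 981818691054096003685363657089320992, 972512676110088067912772961567868960, 966182099583441531322624363496310816, 983548720921252936276249910206105632, 975346028712660580592452217730074656, 980224387687010295957922729495201824, 961365507626256404119956257276790816]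
/-- An element moving the seven base points off the base octad. -/
def kOff : ℕ := 890935471437690618846041306707772105
/-- Descent tables. -/
def pTPar : ℕ := 9947412681813685080775527784893378323198228998922646081484366164931057627277387952691645976203141978019948995293978898892747146298832621301620244122960155721950623658222380161401910768857704142175404888839938343960051537424981767344268086619528694377842628805546289459057259193866573370974710453223159136925411259104174168467766299424415706048986538169864430848715632412207037574091444647520536651146162792344252406272136101644598721431866420198491031761199533678593310749726549766346130985475653859439215181808198933198608441622673817600
/-- Descent tables. -/
def pTGen : ℕ := 621408314648145419963167314041233148143358242634999358996704284556881408534425442942995965869570936528006152018766953181044079433653760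
/-- Descent tables. -/
def pTDist : ℕ := 11147813030948336824011632585756420179628315102878337513132317799339102132688356286777247326097989180777262783764387193848976196309111594922293627834458615687343340120911575190846945091036898818083702528
/-- The roots of the descent. -/
def pTRoots : List ℕ := [1, 0, 16, 32, 48, 64, 80, 96, 112, 128, 144, 160, 176, 192, 208, 224]

end Cfsg.Agent.Lib.M24
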