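import Cfsg.Agent.Lib.M24.OrbCerts
import Cfsg.Agent.Lib.M24.Oct15Data

/-!
# The fifteen trios through an octad
-/

set_option autoImplicit false
set_option linter.constructorNameAsVariable false

namespace Cfsg.Agent.Lib.M24

open Cfsg Cfsg.Agent.Lib.Compute Cfsg.Agent.Lib.Golay
open scoped Pointwise

/-- The number of the `i`-th trio through the base octad. -/
noncomputable def trL (i : ℕ) : ℕ := pget 12 4095 L15 i

/-- The member of the `i`-th trio through `pt 4`. -/
noncomputable def atM (i : ℕ) : ℕ := pget 24 16777215 AT15 i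

theorem atM_lt (k : ℕ) : atM k < 2 ^ 24 := by
  have h : atM k = Nat.shiftRight AT15 (Nat.mul 24 k) &&& (2 ^ 24 - 1) := rfl
  rw [h]
  exact Nat.and_lt_two_pow _ (by norm_num)

theorem mem_trS_finOf {k m : ℕ} (hm : m < 2 ^ 24) :
    enc.finOf m ∈ trS k ↔ anyBelow (fun j => Nat.beq (trT k j) m) 3 = true := by
  rw [trS_mem_iff, anyBelow_iff]
  constructor
  · rintro ⟨j, hj, h⟩
    refine ⟨j, hj, ?_⟩
    rw [enc.finOf_injOn (trT_lt k j) hm h]
    exact Nat.beq_refl _
  · rintro ⟨j, hj, h⟩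
    exact ⟨j, hj, by rw [Nat.eq_of_beq_eq_true h]⟩

theorem mem_finOf_pt {m i : ℕ} (hi : i < 24) : pt i ∈ (enc.finOf m : Finset GolayPt) ↔ tb m i = true := by
  rw [tb_eq, enc.mem_finOf]
  show m.testBit (idx (pt i)) = true ↔ _
  rw [idx_pt hi]

theorem trL_data : allBelow (fun i => Nat.blt (trL i) 3795 && anyBelow (fun j => Nat.beq (trT (trL i) j) O0) 3 &&
    anyBelow (fun j => Nat.beq (trT (trL i) j) (atM i)) 3 && tb (atM i) 4 && Nat.beq (Nat.land (atM i) O0) 0) 15 = true := by
  decide +kernel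

theorem trL_lt {i : ℕ} (hi : i < 15) : trL i < 3795 := by
  have h := (allBelow_iff _ _).1 trL_data i hi
  simp only [Bool.and_eq_true] at h
  simpa [Nat.blt_eq] using h.1.1.1.1

theorem O0_mem_trL {i : ℕ} (hi : i < 15) : enc.finOf O0 ∈ trS (trL i) := by
  have h := (allBelow_iff _ _).1 trL_data i hi
  simp only [Bool.and_eq_true] at h
  exact (mem_trS_finOf (by norm_num)).2 h.1.1.1.2

theorem atM_mem_trL {i : ℕ} (hi : i < 15) : enc.finOf (atM i) ∈ trS (trL i) := by
  have h := (allBelow_iff _ _).1 trL_data i hi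
  simp only [Bool.and_eq_true] at h
  exact (mem_trS_finOf (atM_lt i)).2 h.1.1.2

theorem pt4_mem_atM {i : ℕ} (hi : i < 15) : pt 4 ∈ (enc.finOf (atM i) : Finset GolayPt) := by
  have h := (allBelow_iff _ _).1 trL_data i hi
  simp only [Bool.and_eq_true] at h
  exact (mem_finOf_pt (by norm_num)).2 h.1.2

theorem trL_complete : allBelow (fun k => !(anyBelow (fun j => Nat.beq (trT k j) O0) 3) ||
    anyBelow (fun i => Nat.beq (trL i) k) 15) 3795 = true := by
  decide +kernel

theorem trL_sorted : allBelow (fun i => Nat.blt (trL i) (trL (i + 1))) 14 = true := by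
  decide +kernel

theorem trL_lt_of_lt {a b : ℕ} (hab : a < b) (hb : b < 15) : trL a < trL b := by
  have step : ∀ k, k + 1 < 15 → trL k < trL (k + 1) := fun k hk => by
    have := (allBelow_iff _ _).1 trL_sorted k (by omega)
    simpa [Nat.blt_eq] using this
  induction b, hab using Nat.le_induction with
  | base => exact step a hb
  | succ n hn ih => exact lt_trans (ih (by omega)) (step n hb)

theorem trL_inj {a b : ℕ} (ha : a < 15) (hb : b < 15) (h : trS (trL a) = trS (trL b)) : a = b := by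
  have h1 := trS_injOn (trL_lt ha) (trL_lt hb) h
  by_contra hne
  rcases Nat.lt_or_gt_of_ne hne with h2 | h2
  · have := trL_lt_of_lt h2 hb
    omega
  · have := trL_lt_of_lt h2 ha
    omega

theorem trios_through {T : Finset (Finset GolayPt)} :
    (T ∈ trios ∧ enc.finOf O0 ∈ T) ↔ ∃ i, i < 15 ∧ T = trS (trL i) := by
  constructor
  · rintro ⟨h1, h2⟩
    obtain ⟨k, hk, rfl⟩ := mem_trios_iff.1 h1
    have h3 := (allBelow_iff _ _).1 trL_complete k hk
    rw [(mem_trS_finOf (by norm_num)).1 h2] at h3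
    simp only [Bool.not_true, Bool.false_or] at h3
    obtain ⟨i, hi, h4⟩ := (anyBelow_iff _ _).1 h3
    exact ⟨i, hi, by rw [Nat.eq_of_beq_eq_true h4]⟩
  · rintro ⟨i, hi, rfl⟩
    exact ⟨trS_mem_trios (trL_lt hi), O0_mem_trL hi⟩

theorem ncard_through : {T : Finset (Finset GolayPt) | T ∈ trios ∧ enc.finOf O0 ∈ T}.ncard = 15 := by
  have h := ncard_table (A := {T : Finset (Finset GolayPt) | T ∈ trios ∧ enc.finOf O0 ∈ T})
    (elt := fun i => trS (trL i)) (K := 15) (fun x => trios_through)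
    (fun a b ha hb hab => trL_inj ha hb hab) (fun _ => True) (fun _ => true) (fun _ _ => by simp)
  have h2 : countBelow (fun _ => true) 15 = 15 := by decide +kernel
  rw [h2] at h
  simpa using h

/-! ### Two-transitivity -/

/-- The action on pairs. -/
noncomputable def actP (f : ℕ → ℕ) (k k' : ℕ) : Bool :=
  famEq f (trT (trL (k / 15))) (trT (trL (k' / 15))) 3 && famEq f (trT (trL (k % 15))) (trT (trL (k' % 15))) 3

/-- The pair number `k`. -/
noncomputable def zP (k : ℕ) : Finset (Finset GolayPt) × Finset (Finset GolayPt) :=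
  (trS (trL (k / 15)), trS (trL (k % 15)))

theorem pT_chk : descChk gO 225 actP pTRoots (pget 8 255 pTPar) (pget 2 3 pTGen) (pget 3 7 pTDist) = true := by
  decide +kernel

theorem zP_act (σ : ↥M24) (f : ℕ → ℕ) (hf : enc.IsCode σ.1 f) (k k' : ℕ) (hk : k < 225) (h : actP f k k' = true) :
    σ • zP k = zP k' := by
  have h15 : ∀ a, a < 15 → ∀ b, famEq f (trT (trL a)) (trT (trL b)) 3 = true → σ • trS (trL a) = trS (trL b) := by
    intro a ha b hab
    have hc : (famOf (trT (trL b)) 3).card ≤ (famOf (trT (trL a)) 3).card := by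
      rw [famOf_trT_card (trL_lt ha)]
      exact Finset.card_image_le.trans (by simp)
    exact famEq_spec hf hab hc
  simp only [actP, Bool.and_eq_true] at h
  have h1 : k / 15 < 15 := by omega
  have h2 : k % 15 < 15 := by omega
  exact Prod.ext (h15 _ h1 _ h.1) (h15 _ h2 _ h.2)

theorem gO_gens : ∀ p ∈ gO, ∃ hv : vld p = true, gOf hv • (enc.finOf O0 : Finset GolayPt) = enc.finOf O0 :=
  gens_of_fix (octBase O0) Finset.singleton_injective oTri_fix

theorem pT_roots : ∀ r ∈ pTRoots, r = 1 ∨ r / 15 = r % 15 := by decide +kernel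

theorem pair_to_root {i j : ℕ} (hi : i < 15) (hj : j < 15) (hne : i ≠ j) :
    ∃ σ : ↥(MulAction.stabilizer ↥M24 (enc.finOf O0 : Finset GolayPt)),
      σ • trS (trL i) = trS (trL 0) ∧ σ • trS (trL j) = trS (trL 1) := by
  obtain ⟨r, hr, σ, hσ⟩ := descent_root (x₀ := (enc.finOf O0 : Finset GolayPt)) (zt := zP) (K := 225) (act := actP)
    (fun σ f hf k k' hk h => zP_act σ f hf k k' hk h) gO_gens pT_chk (15 * i + j) (by omega)
  have h1 : (15 * i + j) / 15 = i := by omega
  have h2 : (15 * i + j) % 15 = j := by omega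
  have h3 : σ • trS (trL i) = trS (trL (r / 15)) := by
    have := congrArg Prod.fst hσ
    simp only [zP, h1] at this
    exact this
  have h4 : σ • trS (trL j) = trS (trL (r % 15)) := by
    have := congrArg Prod.snd hσ
    simp only [zP, h2] at this
    exact this
  rcases pT_roots r hr with rfl | hd
  · exact ⟨σ, h3, h4⟩
  · exfalso
    rw [hd, ← h4] at h3
    exact hne (trL_inj hi hj (MulAction.injective σ h3))

/-- Double transitivity at the base octad. -/
theorem two_trans_base {T₁ T₂ T₁' T₂' : Finset (Finset GolayPt)} (h1 : T₁ ∈ trios) (h2 : T₂ ∈ trios) (h1' : T₁' ∈ trios)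
    (h2' : T₂' ∈ trios) (m1 : enc.finOf O0 ∈ T₁) (m2 : enc.finOf O0 ∈ T₂) (m1' : enc.finOf O0 ∈ T₁') (m2' : enc.finOf O0 ∈ T₂')
    (hne : T₁ ≠ T₂) (hne' : T₁' ≠ T₂') :
    ∃ σ : ↥(MulAction.stabilizer ↥M24 (enc.finOf O0 : Finset GolayPt)), σ • T₁ = T₁' ∧ σ • T₂ = T₂' := by
  obtain ⟨i, hi, rfl⟩ := trios_through.1 ⟨h1, m1⟩
  obtain ⟨j, hj, rfl⟩ := trios_through.1 ⟨h2, m2⟩
  obtain ⟨i', hi', rfl⟩ := trios_through.1 ⟨h1', m1'⟩
  obtain ⟨j', hj', rfl⟩ := trios_through.1 ⟨h2', m2'⟩
  obtain ⟨σ, a1, a2⟩ := pair_to_root hi hj (fun e => hne (by rw [e]))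
  obtain ⟨τ, b1, b2⟩ := pair_to_root hi' hj' (fun e => hne' (by rw [e]))
  refine ⟨τ⁻¹ * σ, ?_, ?_⟩
  · rw [mul_smul, a1, ← b1, inv_smul_smul]
  · rw [mul_smul, a2, ← b2, inv_smul_smul]

/-! ### The kernel -/

theorem E16_ok : E16.all (fun p => vld p && allBelow (fun i => !(tb O0 i) || Nat.beq (pc p i) i) 24 &&
    allBelow (fun i => famEq (pc p) (trT (trL i)) (trT (trL i)) 3) 15) = true := by
  decide +kernel

theorem E16_cover : allBelow (fun a => tb O0 a || (E16.map (fun p => pc p 4)).contains a) 24 = true := by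
  decide +kernel

theorem sep_check : allBelow (fun y => allBelow (fun z => tb O0 y || tb O0 z || Nat.beq y z || Nat.beq y 4 || Nat.beq z 4 ||
    anyBelow (fun i => tb (atM i) y && !(tb (atM i) z)) 15) 24) 24 = true := by
  decide +kernel

theorem kOff_vld : vld kOff = true := by decide +kernel

theorem kOff_check : [5, 4, 3, 2, 1, 0, 23].all (fun i => !(tb O0 (pc kOff i))) = true := by decide +kernel

theorem tb_O0_4 : tb O0 4 = false := by decide +kernel

theorem tb_O0_base : [5, 3, 2, 1, 0, 23].all (fun i => tb O0 i) = true := by decide +kernel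

theorem E16_mem {p : ℕ} (hp : p ∈ E16) : ppm p ∈ M24 := by
  have h := List.all_eq_true.1 E16_ok p hp
  simp only [Bool.and_eq_true] at h
  exact vld_mem h.1.1

theorem E16_code {p : ℕ} (hp : p ∈ E16) : enc.IsCode (ppm p) (pc p) := by
  have h := List.all_eq_true.1 E16_ok p hp
  simp only [Bool.and_eq_true] at h
  exact vld_code h.1.1

theorem E16_fix {p : ℕ} (hp : p ∈ E16) {q : GolayPt} (hq : q ∈ (enc.finOf O0 : Finset GolayPt)) : ppm p q = q := by
  have h := List.all_eq_true.1 E16_ok p hp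
  simp only [Bool.and_eq_true] at h
  have h1 := (allBelow_iff _ _).1 h.1.2 (idx q) (idx_lt q)
  have h2 : tb O0 (idx q) = true := by
    rw [tb_eq]
    simpa using hq
  rw [h2] at h1
  simp only [Bool.not_true, Bool.false_or] at h1
  have h3 := E16_code hp q
  simp only [enc_idx] at h3
  have h4 : idx (ppm p q) = idx q := by
    rw [← h3]
    exact Nat.eq_of_beq_eq_true h1
  exact enc.idx_injective h4

theorem E16_trios {p : ℕ} (hp : p ∈ E16) {i : ℕ} (hi : i < 15) : ppm p • trS (trL i) = trS (trL i) := by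
  have h := List.all_eq_true.1 E16_ok p hp
  simp only [Bool.and_eq_true] at h
  exact famEq_spec (E16_code hp) ((allBelow_iff _ _).1 h.2 i hi) le_rfl

theorem pt4_not_mem : pt 4 ∉ (enc.finOf O0 : Finset GolayPt) := by
  rw [mem_finOf_pt (by norm_num), tb_O0_4]
  simp

theorem exists_E16 {a : GolayPt} (ha : a ∉ (enc.finOf O0 : Finset GolayPt)) : ∃ p ∈ E16, ppm p (pt 4) = a := by
  have h1 := (allBelow_iff _ _).1 E16_cover (idx a) (idx_lt a)
  have h2 : tb O0 (idx a) = false := by
    rw [tb_eq]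
    simpa using ha
  rw [h2] at h1
  simp only [Bool.false_or, List.contains_iff_mem, List.mem_map] at h1
  obtain ⟨p, hp, h3⟩ := h1
  refine ⟨p, hp, ?_⟩
  rw [code_pt (E16_code hp) (by norm_num), h3, pt_idx]

/-- An element fixing the base octad pointwise is one of the sixteen. -/
theorem mem_E16_of_fix {h : Equiv.Perm GolayPt} (hh : h ∈ M24) (hf : ∀ q ∈ (enc.finOf O0 : Finset GolayPt), h q = q) :
    ∃ p ∈ E16, h = ppm p := by
  have h1 : h (pt 4) ∉ (enc.finOf O0 : Finset GolayPt) := by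
    intro hq
    have h2 := hf _ hq
    exact pt4_not_mem (by rw [← h.injective h2]; exact hq)
  obtain ⟨p, hp, hpe⟩ := exists_E16 h1
  refine ⟨p, hp, ?_⟩
  have h3 : (ppm p)⁻¹ * h = 1 := by
    apply eq_one_of_fix7 (M24.mul_mem (M24.inv_mem (E16_mem hp)) hh)
    intro i hi
    rw [Equiv.Perm.mul_apply, Equiv.Perm.inv_eq_iff_eq]
    by_cases h4 : i = 4
    · subst h4
      rw [hpe]
    · have h5 : i ∈ [5, 3, 2, 1, 0, 23] := by
        simp only [List.mem_cons, List.not_mem_nil, or_false] at hi ⊢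
        omega
      have h6 : i < 24 := by
        simp only [List.mem_cons, List.not_mem_nil, or_false] at h5
        omega
      have h7 := List.all_eq_true.1 tb_O0_base i h5
      have h8 : pt i ∈ (enc.finOf O0 : Finset GolayPt) := (mem_finOf_pt h6).2 h7
      rw [hf _ h8, E16_fix hp h8]
  exact (inv_mul_eq_one.1 h3).symm

/-- The converse direction: pointwise stabiliser fixes all the trios. -/
theorem trios_of_fix {h : Equiv.Perm GolayPt} (hh : h ∈ M24) (hf : ∀ q ∈ (enc.finOf O0 : Finset GolayPt), h q = q)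
    {T : Finset (Finset GolayPt)} (hT : T ∈ trios) (hm : enc.finOf O0 ∈ T) : h • T = T := by
  obtain ⟨p, hp, rfl⟩ := mem_E16_of_fix hh hf
  obtain ⟨i, hi, rfl⟩ := trios_through.1 ⟨hT, hm⟩
  exact E16_trios hp hi

/-- An element of the stabiliser fixing all trios through the base octad fixes it pointwise. -/
theorem fix_of_trios {h : Equiv.Perm GolayPt} (hh : h ∈ M24) (h0 : h • (enc.finOf O0 : Finset GolayPt) = enc.finOf O0)
    (hT : ∀ T ∈ trios, enc.finOf O0 ∈ T → h • T = T) : ∀ q ∈ (enc.finOf O0 : Finset GolayPt), h q = q := by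
  have hout : ∀ {a : GolayPt}, a ∉ (enc.finOf O0 : Finset GolayPt) → h a ∉ (enc.finOf O0 : Finset GolayPt) := by
    intro a ha hq
    rw [← h0] at hq
    obtain ⟨b, hb, hbe⟩ := Finset.mem_smul_finset.1 hq
    have : b = a := h.injective hbe
    exact ha (this ▸ hb)
  obtain ⟨p, hp, hpe⟩ := exists_E16 (hout pt4_not_mem)
  let g' : Equiv.Perm GolayPt := (ppm p)⁻¹ * h
  have hg'M : g' ∈ M24 := M24.mul_mem (M24.inv_mem (E16_mem hp)) hh
  have hg'x : g' (pt 4) = pt 4 := by
    show (ppm p)⁻¹ (h (pt 4)) = pt 4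
    rw [Equiv.Perm.inv_eq_iff_eq, hpe]
  have hg'O : ∀ {a : GolayPt}, a ∉ (enc.finOf O0 : Finset GolayPt) → g' a ∉ (enc.finOf O0 : Finset GolayPt) := by
    intro a ha hq
    apply hout ha
    have h1 := E16_fix hp hq
    have h2 : (ppm p) (g' a) = h a := by
      show (ppm p) ((ppm p)⁻¹ (h a)) = h a
      simp
    rw [← h2, h1]
    exact hq
  have hg'T : ∀ i, i < 15 → g' • trS (trL i) = trS (trL i) := by
    intro i hi
    have h1 := hT _ (trS_mem_trios (trL_lt hi)) (O0_mem_trL hi)
    have h2 : g' • trS (trL i) = (ppm p)⁻¹ • (h • trS (trL i)) := mul_smul _ _ _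
    rw [h2, h1]
    exact inv_smul_eq_iff.2 (E16_trios hp hi).symm
  have hg'A : ∀ i, i < 15 → g' • (enc.finOf (atM i) : Finset GolayPt) = enc.finOf (atM i) := by
    intro i hi
    have h1 : g' • (enc.finOf (atM i) : Finset GolayPt) ∈ trS (trL i) := by
      rw [← hg'T i hi]
      exact Finset.smul_mem_smul_finset (atM_mem_trL hi)
    by_contra hne
    have h2 := (trS_mem_trios (trL_lt hi)).2.2 _ h1 _ (atM_mem_trL hi) hne
    have h3 : pt 4 ∈ g' • (enc.finOf (atM i) : Finset GolayPt) := by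
      rw [← hg'x]
      exact Finset.mem_smul_finset.2 ⟨_, pt4_mem_atM hi, rfl⟩
    exact (Finset.disjoint_left.1 h2 h3) (pt4_mem_atM hi)
  have hg'fix : ∀ {a : GolayPt}, a ∉ (enc.finOf O0 : Finset GolayPt) → g' a = a := by
    intro a ha
    by_contra hne
    by_cases hy : a = pt 4
    · subst hy
      exact hne hg'x
    have hz : g' a ≠ pt 4 := by
      intro e
      rw [← hg'x] at e
      exact hy (g'.injective e)
    have h1 := (allBelow_iff _ _).1 ((allBelow_iff _ _).1 sep_check (idx a) (idx_lt a)) (idx (g' a)) (idx_lt _)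
    have tO : ∀ b : GolayPt, b ∉ (enc.finOf O0 : Finset GolayPt) → tb O0 (idx b) = false := by
      intro b hb
      rw [tb_eq]
      simpa using hb
    have nb : ∀ x y : GolayPt, x ≠ y → Nat.beq (idx x) (idx y) = false := by
      intro x y hxy
      rw [← Bool.not_eq_true, Nat.beq_eq]
      exact fun e => hxy (enc.idx_injective e)
    have n4 : ∀ x : GolayPt, x ≠ pt 4 → Nat.beq (idx x) 4 = false := by
      intro x hx
      have := nb x (pt 4) hx
      rwa [idx_pt (by norm_num)] at this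
    rw [tO a ha, tO _ (hg'O ha), nb a _ (Ne.symm hne), n4 a hy, n4 _ hz] at h1
    simp only [Bool.false_or] at h1
    obtain ⟨i, hi, h2⟩ := (anyBelow_iff _ _).1 h1
    simp only [Bool.and_eq_true, Bool.not_eq_true'] at h2
    have h3 : a ∈ (enc.finOf (atM i) : Finset GolayPt) := by
      rw [tb_eq] at h2
      simpa using h2.1
    have h4 : g' a ∈ (enc.finOf (atM i) : Finset GolayPt) := by
      rw [← hg'A i hi]
      exact Finset.mem_smul_finset.2 ⟨_, h3, rfl⟩
    have h5 : tb (atM i) (idx (g' a)) = true := by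
      rw [tb_eq]
      simpa using h4
    rw [h5] at h2
    exact Bool.noConfusion h2.2
  have hg'1 : g' = 1 := by
    have hk := kOff_vld
    have hc := vld_code hk
    have h1 : (ppm kOff)⁻¹ * g' * ppm kOff = 1 := by
      apply eq_one_of_fix7 (M24.mul_mem (M24.mul_mem (M24.inv_mem (vld_mem hk)) hg'M) (vld_mem hk))
      intro i hi
      have h2 := List.all_eq_true.1 kOff_check i hi
      have h3 : i < 24 := by
        simp only [List.mem_cons, List.not_mem_nil, or_false] at hi
        omega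
      rw [Equiv.Perm.mul_apply, Equiv.Perm.mul_apply, Equiv.Perm.inv_eq_iff_eq]
      apply hg'fix
      rw [code_pt hc h3, mem_finOf_pt (code_lt hc h3)]
      simpa using h2
    have h2 : g' * ppm kOff = ppm kOff := by
      have := inv_mul_eq_one.1 (by rw [← mul_assoc]; exact h1 : (ppm kOff)⁻¹ * (g' * ppm kOff) = 1)
      exact this.symm
    exact mul_eq_right.1 h2
  have hhe : h = ppm p := by
    have : (ppm p)⁻¹ * h = 1 := hg'1
    exact (inv_mul_eq_one.1 this).symm
  intro q hq
  rw [hhe]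
  exact E16_fix hp hq

end Cfsg.Agent.Lib.M24
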