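import Cfsg.Agent.Lib.M24.OctInv
import Cfsg.Agent.Lib.LargeES.SplitData
import Cfsg.Agent.Lib.LargeES.Sub
import Cfsg.Agent.Lib.Classical.Basic

/-!
# The centraliser of an involution of `M24` with an octad of fixed points: structure
-/

set_option autoImplicit false
set_option linter.constructorNameAsVariable false

namespace Cfsg.Agent.Lib.M24

open Cfsg Cfsg.Agent.Lib.Compute Cfsg.Agent.Lib.Golay
open scoped Pointwise commutatorElement

/-- The normal extraspecial subgroup. -/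
noncomputable abbrev QP : Subgroup (Equiv.Perm GolayPt) := genS oQg
/-- The pointwise stabiliser of the octad. -/
noncomputable abbrev VP : Subgroup (Equiv.Perm GolayPt) := genS oVg
/-- The complement. -/
noncomputable def KP : Subgroup (Equiv.Perm GolayPt) := stabL (centG (ppm r2a)) [pt 23, pt 3]

theorem mem_QP {σ : Equiv.Perm GolayPt} : σ ∈ QP ↔ ∃ p ∈ oQL, σ = ppm p := lgB_mem_iff oQ_lg
theorem mem_VP {σ : Equiv.Perm GolayPt} : σ ∈ VP ↔ ∃ p ∈ oVL, σ = ppm p := lgB_mem_iff oV_lg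

theorem oQL_vld {p : ℕ} (hp : p ∈ oQL) : vld p = true :=
  List.all_eq_true.1 (lgB_parts oQ_lg).2.1 p hp
theorem oQg_vld {p : ℕ} (hp : p ∈ oQg) : vld p = true :=
  List.all_eq_true.1 (lgB_parts oQ_lg).1 p hp
theorem oVL_vld {p : ℕ} (hp : p ∈ oVL) : vld p = true :=
  List.all_eq_true.1 (lgB_parts oV_lg).2.1 p hp
theorem oKL_vld {p : ℕ} (hp : p ∈ oKL) : vld p = true :=
  List.all_eq_true.1 (lgB_parts oK_lg).2.1 p hp
theorem oKg_vld {p : ℕ} (hp : p ∈ oKg) : vld p = true :=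
  List.all_eq_true.1 (lgB_parts oK_lg).1 p hp

theorem oQg_mem {p : ℕ} (hp : p ∈ oQg) : ppm p ∈ QP := Subgroup.subset_closure ⟨p, hp, rfl⟩

theorem mem_KP {σ : Equiv.Perm GolayPt} : σ ∈ KP ↔
    σ ∈ M24 ∧ σ * ppm r2a = ppm r2a * σ ∧ σ (pt 23) = pt 23 ∧ σ (pt 3) = pt 3 := by
  unfold KP
  constructor
  · rintro ⟨h1, h2⟩
    obtain ⟨h3, h4⟩ := mem_centG.1 h1
    exact ⟨h3, h4, h2 _ (by simp), h2 _ (by simp)⟩
  · rintro ⟨h1, h2, h3, h4⟩
    refine ⟨mem_centG.2 ⟨h1, h2⟩, fun x hx => ?_⟩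
    simp only [List.mem_cons, List.not_mem_nil, or_false] at hx
    rcases hx with rfl | rfl
    · exact h3
    · exact h4

theorem zP_mem : ppm r2a ∈ M24 := vld_mem r2a_vld

theorem zP_apply (i : ℕ) (hi : i < 24) : ppm r2a (pt i) = pt (pc r2a i) := code_pt (vld_code r2a_vld) hi

/-- The elements of the complement are in the list. -/
theorem k_cover {σ : Equiv.Perm GolayPt} (hσ : σ ∈ M24) (hc : σ * ppm r2a = ppm r2a * σ)
    (h23 : σ (pt 23) = pt 23) (h3 : σ (pt 3) = pt 3) : ∃ p ∈ oKL, σ = ppm p := by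
  have hcode := vld_code r2a_vld
  obtain ⟨r0, r1, -⟩ := r2a_images
  have hcomm : ∀ a, σ (ppm r2a a) = ppm r2a (σ a) := fun a => by
    have := congrArg (fun s : Equiv.Perm GolayPt => s a) hc
    simpa using this
  have hstep : ∀ i j, i < 24 → pc r2a i = j → idx (σ (pt j)) = pc r2a (idx (σ (pt i))) := by
    intro i j hi hij
    have h5 : ppm r2a (pt i) = pt j := by
      rw [code_pt hcode hi, hij]
    rw [← h5, hcomm]
    have := hcode (σ (pt i))
    simpa using this.symm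
  set u := idx (σ (pt 1)) with hu
  have hult : u < 24 := idx_lt _
  obtain ⟨b0, b1, b2, b3, b4⟩ := baseAt_vals
  have h23' : idx (σ (pt 23)) = 23 := by
    rw [h23, idx_pt (by norm_num)]
  have h3' : idx (σ (pt 3)) = 3 := by
    rw [h3, idx_pt (by norm_num)]
  obtain ⟨f, hf, hΦ⟩ := enum_spec o3_enum hσ hult fun i hi => by
    interval_cases i
    · simp only [I3, Nat.beq, bcond_true]
      rw [b0, h23']
    · simp only [I3, Nat.beq, bcond_true, bcond_false]
      rw [b1, hstep 23 0 (by norm_num) r0, h23', r0]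
    · simp only [I3, Nat.beq, bcond_true, bcond_false]
      rw [b2]
    · simp only [I3, Nat.beq, bcond_true, bcond_false]
      rw [b3, hstep 1 2 (by norm_num) r1]
    · simp only [I3, Nat.beq, bcond_false]
      rw [b4, h3']
  simp only [o3Test, Bool.or_eq_true, Bool.not_eq_true', List.any_eq_true] at hΦ
  have h5 : conjF f (pc r2a) (pc r2a) = true := (conjF_iff hf hcode hcode).2 hc
  rcases hΦ with h4 | ⟨p, hp, h4⟩
  · rw [h5] at h4
    exact Bool.noConfusion h4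
  · exact ⟨p, hp, (eqF_iff hf (vld_code (oKL_vld hp))).1 h4⟩

theorem k_list {p : ℕ} (hp : p ∈ oKL) : ppm p ∈ KP := by
  have h := List.all_eq_true.1 oKL_check p hp
  simp only [Bool.and_eq_true] at h
  obtain ⟨⟨h1, h2⟩, h3⟩ := h
  have hc := vld_code (oKL_vld hp)
  refine mem_KP.2 ⟨vld_mem (oKL_vld hp), (conjF_iff hc (vld_code r2a_vld) (vld_code r2a_vld)).1 h1, ?_, ?_⟩
  · rw [code_pt hc (by norm_num), Nat.eq_of_beq_eq_true h2]
  · rw [code_pt hc (by norm_num), Nat.eq_of_beq_eq_true h3]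

theorem mem_KP_iff_list {σ : Equiv.Perm GolayPt} : σ ∈ KP ↔ ∃ p ∈ oKL, σ = ppm p := by
  constructor
  · intro h
    obtain ⟨h1, h2, h3, h4⟩ := mem_KP.1 h
    exact k_cover h1 h2 h3 h4
  · rintro ⟨p, hp, rfl⟩
    exact k_list hp

theorem KP_eq : KP = genS oKg := by
  ext σ
  rw [mem_KP_iff_list, lgB_mem_iff oK_lg]

theorem card_KP : Nat.card KP = 168 := by
  rw [KP_eq, lgB_card oK_lg, oKL_length]

theorem card_QP : Nat.card QP = 128 := by
  rw [lgB_card oQ_lg, oQL_length]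

theorem card_VP : Nat.card VP = 16 := by
  rw [lgB_card oV_lg, oVL_length]

theorem QP_comm {q : Equiv.Perm GolayPt} (hq : q ∈ QP) : q * ppm r2a = ppm r2a * q := by
  obtain ⟨p, hp, rfl⟩ := mem_QP.1 hq
  exact (conjF_iff (vld_code (oQL_vld hp)) (vld_code r2a_vld) (vld_code r2a_vld)).1
    (List.all_eq_true.1 oQL_comm p hp)

theorem QP_le : QP ≤ M24 := by
  intro q hq
  obtain ⟨p, hp, rfl⟩ := mem_QP.1 hq
  exact vld_mem (oQL_vld hp)

theorem KP_le : KP ≤ M24 := fun _ h => (mem_KP.1 h).1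

theorem VP_le_QP : VP ≤ QP := by
  intro q hq
  obtain ⟨p, hp, rfl⟩ := mem_VP.1 hq
  have h := List.all_eq_true.1 oVL_check p hp
  simp only [Bool.and_eq_true, List.any_eq_true] at h
  obtain ⟨-, r, hr, h3⟩ := h
  rw [(eqF_iff (vld_code (oVL_vld hp)) (vld_code (oQL_vld hr))).1 h3]
  exact mem_QP.2 ⟨r, hr, rfl⟩

theorem zP_mem_QP : ppm r2a ∈ QP := by
  obtain ⟨p, hp, h⟩ := List.any_eq_true.1 oQL_z
  rw [← (eqF_iff (vld_code (oQL_vld hp)) (vld_code r2a_vld)).1 h]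
  exact mem_QP.2 ⟨p, hp, rfl⟩

/-- Factorisation of the centraliser. -/
theorem perm_prod {c : Equiv.Perm GolayPt} (hc : c ∈ M24) (hz : c * ppm r2a = ppm r2a * c) :
    ∃ q ∈ QP, ∃ k ∈ KP, c = q * k := by
  have hfix : ppm r2a (c (pt 3)) = c (pt 3) := by
    have h1 := congrArg (fun s : Equiv.Perm GolayPt => s (pt 3)) hz
    simp only [Equiv.Perm.mul_apply] at h1
    rw [← h1, zP_apply 3 (by norm_num), r2a_images.2.2]
  have hidx : ∀ a : GolayPt, pc r2a (idx a) = idx (ppm r2a a) := fun a => by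
    have := vld_code r2a_vld a
    simpa using this
  have h1 : (oQL.any fun q => Nat.beq (pc q 3) (idx (c (pt 3)))) = true := by
    have h2 := (allBelow_iff _ _).1 oQL_trans _ (idx_lt (c (pt 3)))
    rw [hidx, hfix, Nat.beq_refl] at h2
    simpa using h2
  obtain ⟨q, hq, h2⟩ := List.any_eq_true.1 h1
  have hq3 : ppm q (pt 3) = c (pt 3) := by
    rw [code_pt (vld_code (oQL_vld hq)) (by norm_num), Nat.eq_of_beq_eq_true h2, pt_idx]
  have hqm : ppm q ∈ QP := mem_QP.2 ⟨q, hq, rfl⟩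
  set c₁ := (ppm q)⁻¹ * c with hc₁
  have hc₁m : c₁ ∈ M24 := M24.mul_mem (M24.inv_mem (QP_le hqm)) hc
  have hqz := QP_comm hqm
  have hc₁z : c₁ * ppm r2a = ppm r2a * c₁ := by
    have h3 : (ppm q)⁻¹ * ppm r2a = ppm r2a * (ppm q)⁻¹ := by
      rw [inv_mul_eq_iff_eq_mul, ← mul_assoc, hqz, mul_assoc, mul_inv_cancel, mul_one]
    rw [hc₁, mul_assoc, hz, ← mul_assoc, h3, mul_assoc]
  have hc₁3 : c₁ (pt 3) = pt 3 := by
    rw [hc₁, Equiv.Perm.mul_apply, ← hq3]
    simp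
  have hne : ppm r2a (c₁ (pt 23)) ≠ c₁ (pt 23) := by
    intro h
    have h1' := congrArg (fun s : Equiv.Perm GolayPt => s (pt 23)) hc₁z
    simp only [Equiv.Perm.mul_apply] at h1'
    rw [h, zP_apply 23 (by norm_num), r2a_images.1] at h1'
    have h4 := c₁.injective h1'
    have h5 := pt_inj (by norm_num) (by norm_num) h4
    norm_num at h5
  have h3 : (oVL.any fun v => Nat.beq (pc v 23) (idx (c₁ (pt 23)))) = true := by
    have h2 := (allBelow_iff _ _).1 oVL_trans _ (idx_lt (c₁ (pt 23)))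
    rw [hidx] at h2
    have h4 : Nat.beq (idx (ppm r2a (c₁ (pt 23)))) (idx (c₁ (pt 23))) = false := by
      cases h5 : Nat.beq (idx (ppm r2a (c₁ (pt 23)))) (idx (c₁ (pt 23)))
      · rfl
      · exact absurd (enc.idx_injective (Nat.eq_of_beq_eq_true h5)) hne
    rw [h4] at h2
    simpa using h2
  obtain ⟨v, hv, h4⟩ := List.any_eq_true.1 h3
  have hvm : ppm v ∈ VP := mem_VP.2 ⟨v, hv, rfl⟩
  have hv23 : ppm v (pt 23) = c₁ (pt 23) := by
    rw [code_pt (vld_code (oVL_vld hv)) (by norm_num), Nat.eq_of_beq_eq_true h4, pt_idx]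
  have hv3 : ppm v (pt 3) = pt 3 := by
    have h := List.all_eq_true.1 oVL_check v hv
    simp only [Bool.and_eq_true] at h
    rw [code_pt (vld_code (oVL_vld hv)) (by norm_num), Nat.eq_of_beq_eq_true h.1]
  have hvQ := VP_le_QP hvm
  have hvz := QP_comm hvQ
  refine ⟨ppm q * ppm v, mul_mem hqm hvQ, (ppm v)⁻¹ * c₁, mem_KP.2 ⟨?_, ?_, ?_, ?_⟩, ?_⟩
  · exact M24.mul_mem (M24.inv_mem (QP_le hvQ)) hc₁m
  · have h5 : (ppm v)⁻¹ * ppm r2a = ppm r2a * (ppm v)⁻¹ := by
      rw [inv_mul_eq_iff_eq_mul, ← mul_assoc, hvz, mul_assoc, mul_inv_cancel, mul_one]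
    rw [mul_assoc, hc₁z, ← mul_assoc, h5, mul_assoc]
  · rw [Equiv.Perm.mul_apply, ← hv23]
    simp
  · rw [Equiv.Perm.mul_apply, hc₁3]
    nth_rewrite 1 [← hv3]
    simp
  · rw [hc₁]
    group

/-- Conjugation by a generator of the complement. -/
theorem gen_conj {g : ℕ} (hg : g ∈ oKg) {q : Equiv.Perm GolayPt} (hq : q ∈ QP) :
    ppm g * q * (ppm g)⁻¹ ∈ QP := by
  refine Subgroup.closure_induction (p := fun y _ => ppm g * y * (ppm g)⁻¹ ∈ QP) ?_ ?_ ?_ ?_ hq
  · rintro _ ⟨g', hg', rfl⟩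
    obtain ⟨r, hr, h3⟩ := List.any_eq_true.1 (List.all_eq_true.1 (List.all_eq_true.1 oKg_norm g hg) g' hg')
    have := conj_eq_of_conjF (vld_code (oKg_vld hg)) (vld_code (oQg_vld hg')) (vld_code (oQL_vld hr)) h3
    show ppm g * ppm g' * (ppm g)⁻¹ ∈ QP
    rw [this]
    exact mem_QP.2 ⟨r, hr, rfl⟩
  · simp
  · intro x y _ _ hx hy
    have e : ppm g * (x * y) * (ppm g)⁻¹ = (ppm g * x * (ppm g)⁻¹) * (ppm g * y * (ppm g)⁻¹) := by group
    rw [e]
    exact mul_mem hx hy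
  · intro x _ hx
    have e : ppm g * x⁻¹ * (ppm g)⁻¹ = (ppm g * x * (ppm g)⁻¹)⁻¹ := by group
    rw [e]
    exact inv_mem hx

/-- The complement normalises `Q`. -/
theorem K_norm {k : Equiv.Perm GolayPt} (hk : k ∈ KP) {q : Equiv.Perm GolayPt} (hq : q ∈ QP) :
    k * q * k⁻¹ ∈ QP := by
  rw [KP_eq] at hk
  obtain ⟨h1, -, h3, -⟩ := lgB_parts oK_lg
  refine Subgroup.closure_induction_left (p := fun y _ => ∀ q ∈ QP, y * q * y⁻¹ ∈ QP) ?_ ?_ ?_ hk q hq
  · intro q hq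
    simpa using hq
  · rintro _ ⟨g, hg, rfl⟩ y _ hy q hq
    have e : ppm g * y * q * (ppm g * y)⁻¹ = ppm g * (y * q * y⁻¹) * (ppm g)⁻¹ := by group
    rw [e]
    exact gen_conj hg (hy q hq)
  · rintro _ ⟨g, hg, rfl⟩ y _ hy q hq
    have h8 := (sqId_iff (vld_code (List.all_eq_true.1 h1 g hg))).1 (List.all_eq_true.1 h3 g hg)
    have h9 : (ppm g)⁻¹ = ppm g := by
      rw [inv_eq_iff_mul_eq_one]
      exact h8
    rw [h9]
    have e : ppm g * y * q * (ppm g * y)⁻¹ = ppm g * (y * q * y⁻¹) * (ppm g)⁻¹ := by group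
    rw [e]
    exact gen_conj hg (hy q hq)

/-- The centraliser normalises `Q`. -/
theorem perm_norm {c : Equiv.Perm GolayPt} (hc : c ∈ M24) (hz : c * ppm r2a = ppm r2a * c)
    {x : Equiv.Perm GolayPt} (hx : x ∈ QP) : c * x * c⁻¹ ∈ QP := by
  obtain ⟨q, hq, k, hk, rfl⟩ := perm_prod hc hz
  have e : q * k * x * (q * k)⁻¹ = q * (k * x * k⁻¹) * q⁻¹ := by group
  rw [e]
  exact mul_mem (mul_mem hq (K_norm hk hx)) (inv_mem hq)

/-- Two elements of `Q` commute up to the involution. -/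
theorem QP_pair {a b : Equiv.Perm GolayPt} (ha : a ∈ QP) (hb : b ∈ QP) :
    a * b = b * a ∨ a * b = ppm r2a * b * a := by
  obtain ⟨p, hp, rfl⟩ := mem_QP.1 ha
  obtain ⟨q, hq, rfl⟩ := mem_QP.1 hb
  have h := List.all_eq_true.1 (List.all_eq_true.1 oQL_pairs p hp) q hq
  rw [Bool.or_eq_true] at h
  rcases h with h | h
  · exact Or.inl ((conjF_iff (vld_code (oQL_vld hp)) (vld_code (oQL_vld hq)) (vld_code (oQL_vld hq))).1 h)
  · exact Or.inr ((conjF_iff (vld_code (oQL_vld hp)) (vld_code (oQL_vld hq))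
      (isCode_mul (vld_code r2a_vld) (vld_code (oQL_vld hq)))).1 h)

/-- The centraliser of `Q` lies in `Q`. -/
theorem perm_cent {c : Equiv.Perm GolayPt} (hc : c ∈ M24) (h : ∀ q ∈ QP, c * q = q * c) : c ∈ QP := by
  obtain ⟨q, hq, k, hk, rfl⟩ := perm_prod hc (h _ zP_mem_QP)
  obtain ⟨p, hp, rfl⟩ := mem_KP_iff_list.1 hk
  have h1 := List.all_eq_true.1 oKL_faith p hp
  simp only [Bool.or_eq_true, List.any_eq_true, Bool.and_eq_true, Bool.not_eq_true'] at h1
  rcases h1 with h1 | ⟨g, hg, h2, h3⟩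
  · rw [(idF_iff (vld_code (oKL_vld hp))).1 h1, mul_one]
    exact hq
  · exfalso
    have hgm := oQg_mem hg
    have hcode := vld_code (oKL_vld hp)
    have hgcode := vld_code (oQg_vld hg)
    have h4 : ppm p * ppm g = q⁻¹ * ppm g * q * ppm p := by
      have h5 := h _ hgm
      have e1 : ppm p * ppm g = q⁻¹ * (q * ppm p * ppm g) := by group
      rw [e1, h5]
      group
    rcases QP_pair (inv_mem hq) hgm with h6 | h6
    · have h7 : ppm p * ppm g = ppm g * ppm p := by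
        rw [h4, h6]
        group
      have := (conjF_iff hcode hgcode hgcode).2 h7
      rw [this] at h2
      exact Bool.noConfusion h2
    · have h7 : ppm p * ppm g = ppm r2a * ppm g * ppm p := by
        rw [h4, h6]
        group
      have := (conjF_iff hcode hgcode (isCode_mul (vld_code r2a_vld) hgcode)).2 h7
      rw [this] at h3
      exact Bool.noConfusion h3

end Cfsg.Agent.Lib.M24
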