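import Cfsg.Agent.Lib.M24.OctCent

/-!
# The centraliser of an involution of `M24` with an octad of fixed points: the data
-/

set_option autoImplicit false
set_option linter.constructorNameAsVariable false

namespace Cfsg.Agent.Lib.M24

open Cfsg Cfsg.Agent.Lib.Compute Cfsg.Agent.Lib.Golay Subgroup
open scoped Pointwise commutatorElement

/-! ### The linear action of the complement -/

/-- The natural module. -/
abbrev WW := Fin 3 → ZMod 2

/-- Vector with a given number. -/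
def wvec (n : ℕ) : WW := fun i => if n.testBit i = true then 1 else 0
/-- Number of a vector. -/
def wnum (v : WW) : ℕ := (v 0).val + 2 * (v 1).val + 4 * (v 2).val

theorem wnum_lt : ∀ v : WW, wnum v < 8 := by decide +kernel
theorem wvec_wnum : ∀ v : WW, wvec (wnum v) = v := by decide +kernel
theorem wnum_add : ∀ u v : WW, wnum (u + v) = Nat.xor (wnum u) (wnum v) := by decide +kernel
theorem wnum_wvec : ∀ n, n < 8 → wnum (wvec n) = n := by decide +kernel

/-- The action on labels. -/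
noncomputable def phiL (σ : Equiv.Perm GolayPt) (n : ℕ) : ℕ := olb (idx (σ (pt (opv n))))

theorem phiL_ppm {p : ℕ} (hp : vld p = true) {n : ℕ} (hn : n < 8) : phiL (ppm p) n = olb (pc p (opv n)) := by
  rw [phiL, code_pt (vld_code hp) (opv_lt n hn), idx_pt (code_lt (vld_code hp) (opv_lt n hn))]

theorem phiL_lt {σ : Equiv.Perm GolayPt} (hσ : σ ∈ KP) {n : ℕ} (hn : n < 8) : phiL σ n < 8 := by
  obtain ⟨p, hp, rfl⟩ := mem_KP_iff_list.1 hσ
  rw [phiL_ppm (oKL_vld hp) hn]
  have h := (allBelow_iff _ _).1 (List.all_eq_true.1 oKL_lab p hp) n hn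
  simp only [Bool.and_eq_true] at h
  simpa [Nat.blt_eq] using h.1

theorem phiL_apply {σ : Equiv.Perm GolayPt} (hσ : σ ∈ KP) {n : ℕ} (hn : n < 8) :
    σ (pt (opv n)) = pt (opv (phiL σ n)) := by
  obtain ⟨p, hp, rfl⟩ := mem_KP_iff_list.1 hσ
  rw [phiL_ppm (oKL_vld hp) hn, code_pt (vld_code (oKL_vld hp)) (opv_lt n hn)]
  have h := (allBelow_iff _ _).1 (List.all_eq_true.1 oKL_lab p hp) n hn
  simp only [Bool.and_eq_true] at h
  rw [Nat.eq_of_beq_eq_true h.2]

theorem phiL_xor {σ : Equiv.Perm GolayPt} (hσ : σ ∈ KP) {a b : ℕ} (ha : a < 8) (hb : b < 8) :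
    phiL σ (Nat.xor a b) = Nat.xor (phiL σ a) (phiL σ b) := by
  obtain ⟨p, hp, rfl⟩ := mem_KP_iff_list.1 hσ
  have hx : Nat.xor a b < 8 := by
    have := Nat.xor_lt_two_pow (x := a) (y := b) (n := 3) (by simpa using ha) (by simpa using hb)
    simpa using this
  rw [phiL_ppm (oKL_vld hp) hx, phiL_ppm (oKL_vld hp) ha, phiL_ppm (oKL_vld hp) hb]
  have h := (allBelow_iff _ _).1 ((allBelow_iff _ _).1 (List.all_eq_true.1 oKL_add p hp) a ha) b hb
  exact Nat.eq_of_beq_eq_true h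

theorem phiL_mul {σ τ : Equiv.Perm GolayPt} (hτ : τ ∈ KP) {n : ℕ} (hn : n < 8) :
    phiL (σ * τ) n = phiL σ (phiL τ n) := by
  rw [phiL, Equiv.Perm.mul_apply, phiL_apply hτ hn]
  rfl

theorem phiL_one {n : ℕ} (hn : n < 8) : phiL 1 n = n := by
  rw [phiL, Equiv.Perm.one_apply, idx_pt (opv_lt n hn), olb_opv n hn]

/-- The action on vectors. -/
noncomputable def Tf (σ : Equiv.Perm GolayPt) (v : WW) : WW := wvec (phiL σ (wnum v))

theorem Tf_add {σ : Equiv.Perm GolayPt} (hσ : σ ∈ KP) (u v : WW) : Tf σ (u + v) = Tf σ u + Tf σ v := by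
  rw [Tf, Tf, Tf, wnum_add, phiL_xor hσ (wnum_lt u) (wnum_lt v)]
  have h1 := wnum_add (wvec (phiL σ (wnum u))) (wvec (phiL σ (wnum v)))
  rw [wnum_wvec _ (phiL_lt hσ (wnum_lt u)), wnum_wvec _ (phiL_lt hσ (wnum_lt v))] at h1
  rw [← h1, wvec_wnum]

/-- The linear map of an element of the complement. -/
noncomputable def Lf (σ : ↥KP) : WW →ₗ[ZMod 2] WW :=
  (AddMonoidHom.mk' (Tf σ.1) (Tf_add σ.2)).toZModLinearMap 2

theorem Lf_apply (σ : ↥KP) (v : WW) : Lf σ v = Tf σ.1 v := rfl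

/-- The matrix representation. -/
noncomputable def rhoM : ↥KP →* Matrix (Fin 3) (Fin 3) (ZMod 2) where
  toFun σ := LinearMap.toMatrix' (Lf σ)
  map_one' := by
    rw [← LinearMap.toMatrix'_id]
    congr 1
    ext1 v
    ext i
    show Tf 1 _ i = _
    rw [Tf, phiL_one (wnum_lt _), wvec_wnum]
    rfl
  map_mul' a b := by
    rw [← LinearMap.toMatrix'_comp]
    congr 1
    apply LinearMap.ext
    intro v
    show Tf (a.1 * b.1) v = Tf a.1 (Tf b.1 v)
    rw [Tf, Tf, Tf, phiL_mul b.2 (wnum_lt _), wnum_wvec _ (phiL_lt b.2 (wnum_lt _))]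

theorem rhoM_det (σ : ↥KP) : (rhoM σ).det = 1 := by
  apply Cfsg.Agent.Lib.LargeES.SLn.det_eq_one_of_mul (B := rhoM σ⁻¹)
  rw [← map_mul, mul_inv_cancel, map_one]

/-- The homomorphism to the special linear group. -/
noncomputable def rhoS : ↥KP →* Matrix.SpecialLinearGroup (Fin 3) (ZMod 2) where
  toFun σ := ⟨rhoM σ, rhoM_det σ⟩
  map_one' := Subtype.ext (map_one rhoM)
  map_mul' a b := Subtype.ext (map_mul rhoM a b)

theorem rhoS_injective : Function.Injective rhoS := by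
  rintro ⟨σ, hσ⟩ ⟨τ, hτ⟩ h
  have h1 : rhoM ⟨σ, hσ⟩ = rhoM ⟨τ, hτ⟩ := congrArg Subtype.val h
  have h2 : Lf ⟨σ, hσ⟩ = Lf ⟨τ, hτ⟩ := LinearMap.toMatrix'.injective h1
  have h3 : ∀ n, n < 8 → phiL σ n = phiL τ n := by
    intro n hn
    have h4 := congrArg (fun f => wnum (f (wvec n))) h2
    simp only [Lf_apply, Tf, wnum_wvec n hn] at h4
    rwa [wnum_wvec _ (phiL_lt hσ hn), wnum_wvec _ (phiL_lt hτ hn)] at h4
  obtain ⟨p, hp, rfl⟩ := mem_KP_iff_list.1 hσ
  obtain ⟨q, hq, rfl⟩ := mem_KP_iff_list.1 hτ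
  have h5 := h3 1 (by norm_num)
  have h6 := h3 2 (by norm_num)
  have h7 := h3 4 (by norm_num)
  rw [phiL_ppm (oKL_vld hp) (by norm_num), phiL_ppm (oKL_vld hq) (by norm_num)] at h5 h6 h7
  have h8 : p = q := List.inj_on_of_nodup_map (ndB_nodup oKL_keys) hp hq (by
    show olb (pc p (opv 1)) + 8 * olb (pc p (opv 2)) + 64 * olb (pc p (opv 4)) =
      olb (pc q (opv 1)) + 8 * olb (pc q (opv 2)) + 64 * olb (pc q (opv 4))
    rw [h5, h6, h7])
  subst h8
  rfl

theorem card_SL3 : Nat.card (Matrix.SpecialLinearGroup (Fin 3) (ZMod 2)) = 168 := by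
  have h := Cfsg.Agent.Lib.Classical.card_SL (F := ZMod 2) (q := 2) (by simp [ZMod.card]) 3 (by norm_num)
  have h3 : (∏ i : Fin 3, (2 ^ 3 - 2 ^ (i : ℕ))) = 168 := by decide
  rw [h3] at h
  generalize Nat.card (Matrix.SpecialLinearGroup (Fin 3) (ZMod 2)) = x at h ⊢
  omega

theorem rhoS_bijective : Function.Bijective rhoS := by
  apply rhoS_injective.bijective_of_nat_card_le
  rw [card_SL3, card_KP]

/-- The complement is the special linear group. -/
noncomputable def KPiso : ↥KP ≃* Matrix.SpecialLinearGroup (Fin 3) (ZMod 2) :=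
  MulEquiv.ofBijective rhoS rhoS_bijective

/-! ### The split data in `M24` -/

/-- The involution. -/
noncomputable def z₀ : ↥M24 := ⟨ppm r2a, zP_mem⟩

theorem z₀_coe : (z₀ : Equiv.Perm GolayPt) = ppm r2a := rfl

theorem orderOf_z₀ : orderOf z₀ = 2 := by
  apply orderOf_eq_prime
  · apply Subtype.ext
    show ppm r2a ^ 2 = 1
    rw [pow_two, r2a_sq]
  · intro h
    exact r2a_ne_one (congrArg Subtype.val h)

/-- The element `z` in `QP`. -/
noncomputable def zQ : ↥QP := ⟨ppm r2a, zP_mem_QP⟩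

theorem orderOf_zQ : orderOf zQ = 2 := by
  apply orderOf_eq_prime
  · apply Subtype.ext
    show ppm r2a ^ 2 = 1
    rw [pow_two, r2a_sq]
  · intro h
    exact r2a_ne_one (congrArg Subtype.val h)

theorem QP_extraspecial : IsExtraspecial 2 ↥QP := by
  have hone : ∀ y : ↥QP, (y : Equiv.Perm GolayPt) = ppm r2a → y ∈ zpowers zQ := by
    intro y hy
    have : y = zQ := Subtype.ext hy
    rw [this]
    exact mem_zpowers _
  have hzero : ∀ y : ↥QP, (y : Equiv.Perm GolayPt) = 1 → y ∈ zpowers zQ := by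
    intro y hy
    have : y = 1 := Subtype.ext hy
    rw [this]
    exact one_mem _
  refine Cfsg.Agent.Lib.LargeES.isExtraspecial_two_of zQ orderOf_zQ ?_ ?_ ?_ ?_ ?_
  · rintro ⟨y, hy⟩ h
    obtain ⟨p, hp, rfl⟩ := mem_QP.1 hy
    have h1 := List.all_eq_true.1 oQL_center p hp
    simp only [Bool.or_eq_true, List.any_eq_true, Bool.not_eq_true'] at h1
    rcases h1 with (h1 | h1) | ⟨g, hg, h2⟩
    · exact hzero _ ((idF_iff (vld_code (oQL_vld hp))).1 h1)
    · exact hone _ ((eqF_iff (vld_code (oQL_vld hp)) (vld_code r2a_vld)).1 h1)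
    · exfalso
      have h3 := congrArg Subtype.val (h ⟨ppm g, oQg_mem hg⟩)
      have h4 := (conjF_iff (vld_code (oQL_vld hp)) (vld_code (oQg_vld hg)) (vld_code (oQg_vld hg))).2 h3
      rw [h4] at h2
      exact Bool.noConfusion h2
  · rintro ⟨u, hu⟩
    apply Subtype.ext
    exact (QP_comm hu).symm
  · rintro ⟨a, ha⟩
    obtain ⟨p, hp, rfl⟩ := mem_QP.1 ha
    have h1 := List.all_eq_true.1 oQL_squares p hp
    rw [Bool.or_eq_true] at h1
    rcases h1 with h1 | h1
    · exact hzero _ ((sqId_iff (vld_code (oQL_vld hp))).1 h1)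
    · exact hone _ ((eqF_iff (isCode_mul (vld_code (oQL_vld hp)) (vld_code (oQL_vld hp))) (vld_code r2a_vld)).1 h1)
  · rintro ⟨a, ha⟩ ⟨b, hb⟩
    rcases QP_pair ha hb with h | h
    · apply hzero
      show ⁅a, b⁆ = 1
      rw [commutatorElement_def, h]
      group
    · apply hone
      show ⁅a, b⁆ = ppm r2a
      rw [commutatorElement_def, h]
      group
  · obtain ⟨a, ha, h1⟩ := List.any_eq_true.1 oQg_noncomm
    obtain ⟨b, hb, h2⟩ := List.any_eq_true.1 h1
    refine ⟨⟨ppm a, oQg_mem ha⟩, ⟨ppm b, oQg_mem hb⟩, fun h => ?_⟩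
    have h3 := congrArg Subtype.val h
    have h4 := (conjF_iff (vld_code (oQg_vld ha)) (vld_code (oQg_vld hb)) (vld_code (oQg_vld hb))).2 h3
    rw [Bool.not_eq_true'] at h2
    rw [h4] at h2
    exact Bool.noConfusion h2

/-- The data in `M24`. -/
theorem splitData₀ : Cfsg.Agent.Lib.LargeES.SplitData z₀ (QP.subgroupOf M24) (KP.subgroupOf M24)
    (VP.subgroupOf M24) := by
  have hE : IsExtraspecial 2 ↥(QP.subgroupOf M24) :=
    Cfsg.Agent.Lib.LargeES.isExtraspecial_congr (Subgroup.subgroupOfEquivOfLe QP_le).symm QP_extraspecial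
  have hcomm : ∀ c : ↥M24, c * z₀ = z₀ * c → (c : Equiv.Perm GolayPt) * ppm r2a = ppm r2a * c :=
    fun c hc => congrArg Subtype.val hc
  refine ⟨orderOf_z₀, ?_, ?_, ?_, ?_, hE, ?_, ?_, ?_, ?_, ?_, ?_, ?_, ?_, ?_⟩
  · intro x hx
    rw [Subgroup.mem_centralizer_singleton_iff]
    apply Subtype.ext
    exact (mem_KP.1 (Subgroup.mem_subgroupOf.1 hx)).2.1
  · intro x hx
    rw [Subgroup.mem_centralizer_singleton_iff]
    apply Subtype.ext
    exact QP_comm (Subgroup.mem_subgroupOf.1 hx)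
  · intro c hc
    obtain ⟨q, hq, k, hk, e⟩ := perm_prod c.2 (hcomm c hc)
    exact ⟨⟨q, QP_le hq⟩, Subgroup.mem_subgroupOf.2 hq, ⟨k, KP_le hk⟩, Subgroup.mem_subgroupOf.2 hk,
      Subtype.ext e⟩
  · intro c hc q hq
    exact Subgroup.mem_subgroupOf.2 (perm_norm c.2 (hcomm c hc) (Subgroup.mem_subgroupOf.1 hq))
  · symm
    apply Subgroup.eq_of_le_of_card_ge
    · rw [zpowers_le]
      refine ⟨⟨z₀, Subgroup.mem_subgroupOf.2 zP_mem_QP⟩, ?_, rfl⟩
      rw [SetLike.mem_coe, Subgroup.mem_center_iff]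
      rintro ⟨x, hx⟩
      apply Subtype.ext
      apply Subtype.ext
      exact QP_comm (Subgroup.mem_subgroupOf.1 hx)
    · rw [Nat.card_zpowers, orderOf_z₀, Subgroup.card_map_of_injective (QP.subgroupOf M24).subtype_injective]
      exact hE.2.le
  · intro c hc
    refine Subgroup.mem_subgroupOf.2 (perm_cent c.2 ?_)
    intro q hq
    have := hc ⟨q, QP_le hq⟩ (Subgroup.mem_subgroupOf.2 hq)
    exact congrArg Subtype.val this
  · rw [Nat.card_congr (Subgroup.subgroupOfEquivOfLe QP_le).toEquiv, card_QP]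
    norm_num
  · obtain ⟨w, hw, h1⟩ := List.any_eq_true.1 oHg_conj
    simp only [Bool.and_eq_true, Bool.not_eq_true'] at h1
    have hc := vld_code oHg_vld
    have h2 := conj_eq_of_conjF hc (vld_code r2a_vld) (vld_code (oQL_vld hw)) h1.1
    refine ⟨⟨ppm oHg, vld_mem oHg_vld⟩, ?_, ?_⟩
    · refine Subgroup.mem_subgroupOf.2 ?_
      show ppm oHg * ppm r2a * (ppm oHg)⁻¹ ∈ QP
      rw [h2]
      exact mem_QP.2 ⟨w, hw, rfl⟩
    · intro h3
      have h4 : ppm oHg * ppm r2a * (ppm oHg)⁻¹ = ppm r2a := congrArg Subtype.val h3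
      rw [h2] at h4
      have h5 := (eqF_iff (vld_code (oQL_vld hw)) (vld_code r2a_vld)).2 h4
      rw [h5] at h1
      exact Bool.noConfusion h1.2
  · rw [eq_bot_iff]
    rintro x ⟨hx1, hx2⟩
    have h1 := Subgroup.mem_subgroupOf.1 hx1
    have h2 := mem_KP.1 (Subgroup.mem_subgroupOf.1 hx2)
    obtain ⟨p, hp, hpx⟩ := mem_QP.1 h1
    have h3 := List.all_eq_true.1 oQL_inf p hp
    have hc := vld_code (oQL_vld hp)
    have h4 : pc p 3 = 3 := by
      have h5 := h2.2.2.2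
      rw [hpx, code_pt hc (by norm_num)] at h5
      exact pt_inj (code_lt hc (by norm_num)) (by norm_num) h5
    have h6 : pc p 23 = 23 := by
      have h5 := h2.2.2.1
      rw [hpx, code_pt hc (by norm_num)] at h5
      exact pt_inj (code_lt hc (by norm_num)) (by norm_num) h5
    rw [h4, h6] at h3
    simp only [Nat.beq_refl, Bool.and_true, Bool.not_true, Bool.false_or] at h3
    rw [Subgroup.mem_bot]
    apply Subtype.ext
    rw [hpx]
    exact (idF_iff hc).1 h3
  · intro x hx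
    exact Subgroup.mem_subgroupOf.2 (VP_le_QP (Subgroup.mem_subgroupOf.1 hx))
  · refine ⟨⟨⟨?_⟩⟩, ?_⟩
    · rintro ⟨x, hx⟩ ⟨y, hy⟩
      obtain ⟨p, hp, hpx⟩ := mem_VP.1 (Subgroup.mem_subgroupOf.1 hx)
      obtain ⟨q, hq, hqy⟩ := mem_VP.1 (Subgroup.mem_subgroupOf.1 hy)
      have h := List.all_eq_true.1 oVL_ab p hp
      simp only [Bool.and_eq_true, List.all_eq_true] at h
      have h1 := (conjF_iff (vld_code (oVL_vld hp)) (vld_code (oVL_vld hq)) (vld_code (oVL_vld hq))).1 (h.2 q hq)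
      apply Subtype.ext
      apply Subtype.ext
      show (x : Equiv.Perm GolayPt) * y = y * x
      rw [hpx, hqy]
      exact h1
    · intro x hx
      obtain ⟨p, hp, hpx⟩ := mem_VP.1 (Subgroup.mem_subgroupOf.1 hx)
      have h := List.all_eq_true.1 oVL_ab p hp
      simp only [Bool.and_eq_true] at h
      apply Subtype.ext
      show (x : Equiv.Perm GolayPt) ^ 2 = 1
      rw [hpx, pow_two]
      exact (sqId_iff (vld_code (oVL_vld hp))).1 h.1
  · rw [Nat.card_congr (Subgroup.subgroupOfEquivOfLe (VP_le_QP.trans QP_le)).toEquiv, card_VP]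
    norm_num
  · exact ⟨(Subgroup.subgroupOfEquivOfLe KP_le).trans KPiso⟩

/-- Every involution of `M24` fixing a point is conjugate to the representative. -/
theorem exists_conj_r2a {z : ↥M24} (hz : orderOf z = 2) {a : GolayPt} (ha : (z : Equiv.Perm GolayPt) a = a) :
    ∃ k : ↥M24, k * z₀ * k⁻¹ = z := by
  have hz1 : ((z : Equiv.Perm GolayPt)) * z = 1 := by
    have := congrArg Subtype.val (pow_orderOf_eq_one z)
    rw [hz] at this
    rw [← pow_two]
    exact this
  have hz2 : (z : Equiv.Perm GolayPt) ≠ 1 := by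
    intro h
    have : z = 1 := Subtype.ext h
    rw [this, orderOf_one] at hz
    omega
  obtain ⟨k, hk, h | h⟩ := involution_classify z.2 hz1 hz2
  · refine ⟨⟨k⁻¹, M24.inv_mem hk⟩, Subtype.ext ?_⟩
    show k⁻¹ * ppm r2a * (k⁻¹)⁻¹ = z
    rw [← h]
    group
  · exfalso
    exact ((fpf_conj_iff h).2 r2b_fpf) a ha

end Cfsg.Agent.Lib.M24
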