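import Cfsg.Agent.Lib.M24.Orbits
import Cfsg.Agent.Lib.M24.OrbData

/-!
# The orbit decompositions for the octad, sextet, trio, and pair of dodecads in `M24`
-/

set_option autoImplicit false
set_option linter.constructorNameAsVariable false

namespace Cfsg.Agent.Lib.M24

open Cfsg Cfsg.Agent.Lib.Compute Cfsg.Agent.Lib.Golay
open scoped Pointwise

/-- All packed elements are in `M24` and fix the family. -/
noncomputable def gensFix (gens : List ℕ) (T₀ : ℕ → ℕ) (n₀ : ℕ) : Bool :=
  gens.all fun p => vld p && famEq (pc p) T₀ T₀ n₀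

theorem gens_of_fix {W : Type*} [MulAction ↥M24 W] {x₀ : W} {Φ : W → Finset (Finset GolayPt)} {T₀ : ℕ → ℕ} {n₀ : ℕ}
    (hb : WBase x₀ Φ T₀ n₀) (hinj : Function.Injective Φ) {gens : List ℕ} (h : gensFix gens T₀ n₀ = true) :
    ∀ p ∈ gens, ∃ hv : vld p = true, gOf hv • x₀ = x₀ := by
  intro p hp
  have h1 := List.all_eq_true.1 h p hp
  simp only [Bool.and_eq_true] at h1
  refine ⟨h1.1, hinj ?_⟩
  rw [hb.Φ_smul, hb.Φ_x₀]
  exact famEq_spec (vld_code h1.1) h1.2 le_rfl

/-! ### Transitivity -/

theorem gM_vld : ∀ p ∈ gM, vld p = true := by decide +kernel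

theorem mSex_chk : descChk gM 1771 (fun f k k' => famEq f (sxT k) (sxT k') 6) [0]
    (pget 11 2047 mSexPar) (pget 2 3 mSexGen) (pget 4 15 mSexDist) = true := by decide +kernel

theorem mTri_chk : descChk gM 3795 (fun f k k' => famEq f (trT k) (trT k') 3) [0]
    (pget 12 4095 mTriPar) (pget 2 3 mTriGen) (pget 4 15 mTriDist) = true := by decide +kernel

theorem sextets_trans {S : Finset (Finset GolayPt)} (hS : S ∈ sextets) : ∃ σ : ↥M24, σ • sxS 0 = S :=
  cert_transitive sexTable gM_vld mSex_chk (by norm_num) hS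

theorem trios_trans {S : Finset (Finset GolayPt)} (hS : S ∈ trios) : ∃ σ : ↥M24, σ • trS 0 = S :=
  cert_transitive triTable gM_vld mTri_chk (by norm_num) hS

/-! ### Base points -/

/-- The complementary pair of dodecads. -/
noncomputable def dpT (j : ℕ) : ℕ := pget 24 16777215 dPair j

theorem sxBase : WBase (W := Finset (Finset GolayPt)) (famOf (sxT 0) 6) id (sxT 0) 6 :=
  famBase (famOf_sxT_card (by norm_num))

theorem trBase : WBase (W := Finset (Finset GolayPt)) (famOf (trT 0) 3) id (trT 0) 3 :=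
  famBase (famOf_trT_card (by norm_num))

theorem famOf_two (T : ℕ → ℕ) : famOf T 2 = {enc.finOf (T 0), enc.finOf (T 1)} := by
  ext x
  simp only [famOf, Finset.mem_image, Finset.mem_range, Finset.mem_insert, Finset.mem_singleton]
  constructor
  · rintro ⟨j, hj, rfl⟩
    have : j = 0 ∨ j = 1 := by omega
    rcases this with rfl | rfl <;> simp
  · rintro (rfl | rfl)
    · exact ⟨0, by norm_num, rfl⟩
    · exact ⟨1, by norm_num, rfl⟩

theorem dp_card : (famOf dpT 2).card = 2 := by
  rw [famOf_two, Finset.card_pair]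
  intro h
  have h1 := enc.finOf_injOn (a := dpT 0) (b := dpT 1) (n := 24) (by decide +kernel) (by decide +kernel) h
  revert h1
  decide +kernel

theorem dpBase : WBase (W := Finset (Finset GolayPt)) (famOf dpT 2) id dpT 2 := famBase dp_card

/-! ### The decompositions -/

theorem oTri_chk : descChk gO 3795 (fun f k k' => famEq f (trT k) (trT k') 3) [879, 6, 0] (pget 12 4095 oTriPar) (pget 2 3 oTriGen) (pget 4 15 oTriDist) = true := by
  decide +kernel

theorem oTri_fix : gensFix gO (fun _ => O0) 1 = true := by decide +kernel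

theorem oTri_nodup : (List.map (tblInv (fun _ => O0) 1 trT 3) [879, 6, 0]).Nodup := by decide +kernel

theorem oTri_count1 : countBelow (fun k => Nat.beq (tblInv (fun _ => O0) 1 trT 3 k) (tblInv (fun _ => O0) 1 trT 3 879)) 3795 = 15 := by
  decide +kernel

theorem oTri_count2 : countBelow (fun k => Nat.beq (tblInv (fun _ => O0) 1 trT 3 k) (tblInv (fun _ => O0) 1 trT 3 6)) 3795 = 420 := by
  decide +kernel

theorem oTri_count3 : countBelow (fun k => Nat.beq (tblInv (fun _ => O0) 1 trT 3 k) (tblInv (fun _ => O0) 1 trT 3 0)) 3795 = 3360 := by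
  decide +kernel

theorem octad_trios : OrbDecomp3 (G := ↥M24) (enc.finOf O0 : Finset GolayPt) trios 15 420 3360 :=
  cert3 triTable (octBase O0) (gens_of_fix (octBase O0) Finset.singleton_injective oTri_fix) oTri_chk (by norm_num) (by norm_num) (by norm_num) oTri_nodup oTri_count1 oTri_count2 oTri_count3

theorem oSex_chk : descChk gO 1771 (fun f k k' => famEq f (sxT k) (sxT k') 6) [0, 19, 1] (pget 11 2047 oSexPar) (pget 2 3 oSexGen) (pget 3 7 oSexDist) = true := by
  decide +kernel

theorem oSex_fix : gensFix gO (fun _ => O0) 1 = true := by decide +kernel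

theorem oSex_nodup : (List.map (tblInv (fun _ => O0) 1 sxT 6) [0, 19, 1]).Nodup := by decide +kernel

theorem oSex_count1 : countBelow (fun k => Nat.beq (tblInv (fun _ => O0) 1 sxT 6 k) (tblInv (fun _ => O0) 1 sxT 6 0)) 1771 = 35 := by
  decide +kernel

theorem oSex_count2 : countBelow (fun k => Nat.beq (tblInv (fun _ => O0) 1 sxT 6 k) (tblInv (fun _ => O0) 1 sxT 6 19)) 1771 = 840 := by
  decide +kernel

theorem oSex_count3 : countBelow (fun k => Nat.beq (tblInv (fun _ => O0) 1 sxT 6 k) (tblInv (fun _ => O0) 1 sxT 6 1)) 1771 = 896 := by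
  decide +kernel

theorem octad_sextets : OrbDecomp3 (G := ↥M24) (enc.finOf O0 : Finset GolayPt) sextets 35 840 896 :=
  cert3 sexTable (octBase O0) (gens_of_fix (octBase O0) Finset.singleton_injective oSex_fix) oSex_chk (by norm_num) (by norm_num) (by norm_num) oSex_nodup oSex_count1 oSex_count2 oSex_count3

theorem sOct_chk : descChk gS 759 (fun f k k' => famEq f (fun _ => ocT k) (fun _ => ocT k') 1) [0, 3, 1] (pget 10 1023 sOctPar) (pget 2 3 sOctGen) (pget 3 7 sOctDist) = true := by
  decide +kernel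

theorem sOct_fix : gensFix gS (sxT 0) 6 = true := by decide +kernel

theorem sOct_nodup : (List.map (tblInv (sxT 0) 6 (fun k _ => ocT k) 1) [0, 3, 1]).Nodup := by decide +kernel

theorem sOct_count1 : countBelow (fun k => Nat.beq (tblInv (sxT 0) 6 (fun k _ => ocT k) 1 k) (tblInv (sxT 0) 6 (fun k _ => ocT k) 1 0)) 759 = 15 := by
  decide +kernel

theorem sOct_count2 : countBelow (fun k => Nat.beq (tblInv (sxT 0) 6 (fun k _ => ocT k) 1 k) (tblInv (sxT 0) 6 (fun k _ => ocT k) 1 3)) 759 = 360 := by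
  decide +kernel

theorem sOct_count3 : countBelow (fun k => Nat.beq (tblInv (sxT 0) 6 (fun k _ => ocT k) 1 k) (tblInv (sxT 0) 6 (fun k _ => ocT k) 1 1)) 759 = 384 := by
  decide +kernel

theorem sextet_octads : OrbDecomp3 (G := ↥M24) (famOf (sxT 0) 6) octads 15 360 384 :=
  cert3 octTable sxBase (gens_of_fix sxBase Function.injective_id sOct_fix) sOct_chk (by norm_num) (by norm_num) (by norm_num) sOct_nodup sOct_count1 sOct_count2 sOct_count3

theorem sTri_chk : descChk gS 3795 (fun f k k' => famEq f (trT k) (trT k') 3) [6, 0, 47, 15] (pget 12 4095 sTriPar) (pget 2 3 sTriGen) (pget 4 15 sTriDist) = true := by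
  decide +kernel

theorem sTri_fix : gensFix gS (sxT 0) 6 = true := by decide +kernel

theorem sTri_nodup : (List.map (tblInv (sxT 0) 6 trT 3) [6, 0, 47, 15]).Nodup := by decide +kernel

theorem sTri_count1 : countBelow (fun k => Nat.beq (tblInv (sxT 0) 6 trT 3 k) (tblInv (sxT 0) 6 trT 3 6)) 3795 = 15 := by
  decide +kernel

theorem sTri_count2 : countBelow (fun k => Nat.beq (tblInv (sxT 0) 6 trT 3 k) (tblInv (sxT 0) 6 trT 3 0)) 3795 = 180 := by
  decide +kernel

theorem sTri_count3 : countBelow (fun k => Nat.beq (tblInv (sxT 0) 6 trT 3 k) (tblInv (sxT 0) 6 trT 3 47)) 3795 = 720 := by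
  decide +kernel

theorem sTri_count4 : countBelow (fun k => Nat.beq (tblInv (sxT 0) 6 trT 3 k) (tblInv (sxT 0) 6 trT 3 15)) 3795 = 2880 := by
  decide +kernel

theorem sextet_trios : OrbDecomp4 (G := ↥M24) (famOf (sxT 0) 6) trios 15 180 720 2880 :=
  cert4 triTable sxBase (gens_of_fix sxBase Function.injective_id sTri_fix) sTri_chk (by norm_num) (by norm_num) (by norm_num) (by norm_num) sTri_nodup sTri_count1 sTri_count2 sTri_count3 sTri_count4

theorem tOct_chk : descChk gT 759 (fun f k k' => famEq f (fun _ => ocT k) (fun _ => ocT k') 1) [0, 18, 1] (pget 10 1023 tOctPar) (pget 2 3 tOctGen) (pget 3 7 tOctDist) = true := by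
  decide +kernel

theorem tOct_fix : gensFix gT (trT 0) 3 = true := by decide +kernel

theorem tOct_nodup : (List.map (tblInv (trT 0) 3 (fun k _ => ocT k) 1) [0, 18, 1]).Nodup := by decide +kernel

theorem tOct_count1 : countBelow (fun k => Nat.beq (tblInv (trT 0) 3 (fun k _ => ocT k) 1 k) (tblInv (trT 0) 3 (fun k _ => ocT k) 1 0)) 759 = 3 := by
  decide +kernel

theorem tOct_count2 : countBelow (fun k => Nat.beq (tblInv (trT 0) 3 (fun k _ => ocT k) 1 k) (tblInv (trT 0) 3 (fun k _ => ocT k) 1 18)) 759 = 84 := by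
  decide +kernel

theorem tOct_count3 : countBelow (fun k => Nat.beq (tblInv (trT 0) 3 (fun k _ => ocT k) 1 k) (tblInv (trT 0) 3 (fun k _ => ocT k) 1 1)) 759 = 672 := by
  decide +kernel

theorem trio_octads : OrbDecomp3 (G := ↥M24) (famOf (trT 0) 3) octads 3 84 672 :=
  cert3 octTable trBase (gens_of_fix trBase Function.injective_id tOct_fix) tOct_chk (by norm_num) (by norm_num) (by norm_num) tOct_nodup tOct_count1 tOct_count2 tOct_count3

theorem tSex_chk : descChk gT 1771 (fun f k k' => famEq f (sxT k) (sxT k') 6) [3, 0, 81, 5] (pget 11 2047 tSexPar) (pget 2 3 tSexGen) (pget 3 7 tSexDist) = true := by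
  decide +kernel

theorem tSex_fix : gensFix gT (trT 0) 3 = true := by decide +kernel

theorem tSex_nodup : (List.map (tblInv (trT 0) 3 sxT 6) [3, 0, 81, 5]).Nodup := by decide +kernel

theorem tSex_count1 : countBelow (fun k => Nat.beq (tblInv (trT 0) 3 sxT 6 k) (tblInv (trT 0) 3 sxT 6 3)) 1771 = 7 := by
  decide +kernel

theorem tSex_count2 : countBelow (fun k => Nat.beq (tblInv (trT 0) 3 sxT 6 k) (tblInv (trT 0) 3 sxT 6 0)) 1771 = 84 := by
  decide +kernel

theorem tSex_count3 : countBelow (fun k => Nat.beq (tblInv (trT 0) 3 sxT 6 k) (tblInv (trT 0) 3 sxT 6 81)) 1771 = 336 := by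
  decide +kernel

theorem tSex_count4 : countBelow (fun k => Nat.beq (tblInv (trT 0) 3 sxT 6 k) (tblInv (trT 0) 3 sxT 6 5)) 1771 = 1344 := by
  decide +kernel

theorem trio_sextets : OrbDecomp4 (G := ↥M24) (famOf (trT 0) 3) sextets 7 84 336 1344 :=
  cert4 sexTable trBase (gens_of_fix trBase Function.injective_id tSex_fix) tSex_chk (by norm_num) (by norm_num) (by norm_num) (by norm_num) tSex_nodup tSex_count1 tSex_count2 tSex_count3 tSex_count4

theorem dSex_chk : descChk gD 1771 (fun f k k' => famEq f (sxT k) (sxT k') 6) [5, 3, 0] (pget 11 2047 dSexPar) (pget 2 3 dSexGen) (pget 3 7 dSexDist) = true := by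
  decide +kernel

theorem dSex_fix : gensFix gD dpT 2 = true := by decide +kernel

theorem dSex_nodup : (List.map (tblInv dpT 2 sxT 6) [5, 3, 0]).Nodup := by decide +kernel

theorem dSex_count1 : countBelow (fun k => Nat.beq (tblInv dpT 2 sxT 6 k) (tblInv dpT 2 sxT 6 5)) 1771 = 396 := by
  decide +kernel

theorem dSex_count2 : countBelow (fun k => Nat.beq (tblInv dpT 2 sxT 6 k) (tblInv dpT 2 sxT 6 3)) 1771 = 495 := by
  decide +kernel

theorem dSex_count3 : countBelow (fun k => Nat.beq (tblInv dpT 2 sxT 6 k) (tblInv dpT 2 sxT 6 0)) 1771 = 880 := by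
  decide +kernel

theorem dpair_sextets : OrbDecomp3 (G := ↥M24) (famOf dpT 2) sextets 396 495 880 :=
  cert3 sexTable dpBase (gens_of_fix dpBase Function.injective_id dSex_fix) dSex_chk (by norm_num) (by norm_num) (by norm_num) dSex_nodup dSex_count1 dSex_count2 dSex_count3

end Cfsg.Agent.Lib.M24
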