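import Cfsg.Agent.Lib.M24.Tables
import Cfsg.Agent.Lib.M24.OctData

/-!
# Orbits of stabilisers in `M24` from descent certificates on tables
-/

set_option autoImplicit false
set_option linter.constructorNameAsVariable false

namespace Cfsg.Agent.Lib.M24

open Cfsg Cfsg.Agent.Lib.Compute Cfsg.Agent.Lib.Golay
open scoped Pointwise

/-! ### Octad table -/

/-- Octad number `k`. -/
noncomputable def ocT (k : ℕ) : ℕ := pget 24 16777215 ocData k

theorem ocT_lt (k : ℕ) : ocT k < 2 ^ 24 := by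
  have h : ocT k = Nat.shiftRight ocData (Nat.mul 24 k) &&& (2 ^ 24 - 1) := rfl
  rw [h]
  exact Nat.and_lt_two_pow _ (by norm_num)

theorem oc_check : allBelow (fun k => inCode (ocT k) && Nat.beq (Enc.popAux (ocT k) 24) 8) 759 = true := by
  decide +kernel

theorem oc_sorted : allBelow (fun k => Nat.blt (ocT k) (ocT (k + 1))) 758 = true := by
  decide +kernel

theorem oc_lt_of_lt {a b : ℕ} (hab : a < b) (hb : b < 759) : ocT a < ocT b := by
  have step : ∀ k, k + 1 < 759 → ocT k < ocT (k + 1) := fun k hk => by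
    have := (allBelow_iff _ _).1 oc_sorted k (by omega)
    simpa [Nat.blt_eq] using this
  induction b, hab using Nat.le_induction with
  | base => exact step a hb
  | succ n hn ih => exact lt_trans (ih (by omega)) (step n hb)

theorem oc_mem {k : ℕ} (hk : k < 759) : enc.finOf (ocT k) ∈ octads :=
  octad_of_mask ((allBelow_iff _ _).1 oc_check k hk)

theorem oc_injOn {a b : ℕ} (ha : a < 759) (hb : b < 759) (h : (enc.finOf (ocT a) : Finset GolayPt) = enc.finOf (ocT b)) :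
    a = b := by
  have h1 := enc.finOf_injOn (ocT_lt a) (ocT_lt b) h
  by_contra hne
  rcases Nat.lt_or_gt_of_ne hne with h2 | h2
  · have := oc_lt_of_lt h2 hb
    omega
  · have := oc_lt_of_lt h2 ha
    omega

/-- The table of octads is complete. -/
theorem mem_octads_table {o : Finset GolayPt} : o ∈ octads ↔ ∃ k, k < 759 ∧ o = enc.finOf (ocT k) := by
  classical
  have hset : ((Finset.range 759).image fun k => (enc.finOf (ocT k) : Finset GolayPt)) = Steiner.blocks octads := by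
    apply Finset.eq_of_subset_of_card_le
    · intro x hx
      rw [Finset.mem_image] at hx
      obtain ⟨k, hk, rfl⟩ := hx
      exact Steiner.mem_blocks.2 (oc_mem (Finset.mem_range.1 hk))
    · rw [Finset.card_image_of_injOn, card_octad_blocks, Finset.card_range]
      intro a ha b hb h
      exact oc_injOn (Finset.mem_range.1 (Finset.mem_coe.1 ha)) (Finset.mem_range.1 (Finset.mem_coe.1 hb)) h
  constructor
  · intro ho
    have h1 : o ∈ (Finset.range 759).image fun k => (enc.finOf (ocT k) : Finset GolayPt) := by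
      rw [hset]
      exact Steiner.mem_blocks.2 ho
    rw [Finset.mem_image] at h1
    obtain ⟨k, hk, rfl⟩ := h1
    exact ⟨k, Finset.mem_range.1 hk, rfl⟩
  · rintro ⟨k, hk, rfl⟩
    exact oc_mem hk

/-! ### Families given by masks -/

/-- A family of sets from a mask function. -/
noncomputable def famOf (T : ℕ → ℕ) (n : ℕ) : Finset (Finset GolayPt) :=
  (Finset.range n).image fun j => enc.finOf (T j)

theorem sxS_eq (k : ℕ) : sxS k = famOf (sxT k) 6 := rfl
theorem trS_eq (k : ℕ) : trS k = famOf (trT k) 3 := rfl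

/-- The test that a coded permutation maps a family into another one. -/
noncomputable def famEq (f : ℕ → ℕ) (T U : ℕ → ℕ) (n : ℕ) : Bool :=
  allBelow (fun j => anyBelow (fun j' => Nat.beq (imgMask f (T j) 24) (U j')) n) n

theorem famEq_spec {σ : Equiv.Perm GolayPt} {f : ℕ → ℕ} (hf : enc.IsCode σ f) {T U : ℕ → ℕ} {n : ℕ}
    (h : famEq f T U n = true) (hc : (famOf U n).card ≤ (famOf T n).card) :
    σ • famOf T n = famOf U n := by
  apply Finset.eq_of_subset_of_card_le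
  · intro x hx
    obtain ⟨y, hy, rfl⟩ := Finset.mem_smul_finset.1 hx
    obtain ⟨j, hj, rfl⟩ := Finset.mem_image.1 hy
    have hj' : j < n := Finset.mem_range.1 hj
    obtain ⟨j', hj'', h2⟩ := (anyBelow_iff _ _).1 ((allBelow_iff _ _).1 h j hj')
    show σ • (enc.finOf (T j) : Finset GolayPt) ∈ famOf U n
    rw [img_finOf hf, Nat.eq_of_beq_eq_true h2]
    exact Finset.mem_image.2 ⟨j', Finset.mem_range.2 hj'', rfl⟩
  · rwa [Finset.card_smul_finset]

/-! ### Invariants of pairs of families -/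

/-- Kernel-friendly sums. -/
noncomputable def sumB (f : ℕ → ℕ) (n : ℕ) : ℕ := Nat.rec 0 (fun i ih => Nat.add (f i) ih) n

theorem sumB_eq (f : ℕ → ℕ) (n : ℕ) : sumB f n = ∑ i ∈ Finset.range n, f i := by
  induction n with
  | zero => rfl
  | succ n ih =>
    rw [Finset.sum_range_succ, ← ih]
    show f n + sumB f n = _
    omega

/-- The invariant of two families, abstractly. -/
noncomputable def famInvA (F G : Finset (Finset GolayPt)) : ℕ :=
  ∑ a ∈ F, ∑ b ∈ G, 2 ^ (6 * (a ∩ b).card)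

theorem famInvA_smul (σ : Equiv.Perm GolayPt) (F G : Finset (Finset GolayPt)) :
    famInvA (σ • F) (σ • G) = famInvA F G := by
  have hinj : ∀ (H : Finset (Finset GolayPt)), Set.InjOn (fun a : Finset GolayPt => σ • a) (H : Set (Finset GolayPt)) :=
    fun _ a _ b _ h => MulAction.injective σ h
  unfold famInvA
  rw [Finset.smul_finset_def, Finset.sum_image (hinj F)]
  refine Finset.sum_congr rfl fun a _ => ?_
  rw [Finset.smul_finset_def, Finset.sum_image (hinj G)]
  refine Finset.sum_congr rfl fun b _ => ?_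
  rw [← Finset.smul_finset_inter, Finset.card_smul_finset]

/-- The invariant of two families of masks. -/
noncomputable def famInvN (T : ℕ → ℕ) (n : ℕ) (U : ℕ → ℕ) (m : ℕ) : ℕ :=
  sumB (fun i => sumB (fun j => Nat.shiftLeft 1 (Nat.mul 6 (Enc.popAux (Nat.land (T i) (U j)) 24))) m) n

theorem famInvA_table {T U : ℕ → ℕ} {n m : ℕ} (hT : (famOf T n).card = n) (hU : (famOf U m).card = m) :
    famInvA (famOf T n) (famOf U m) = famInvN T n U m := by
  have hinj : ∀ {V : ℕ → ℕ} {l : ℕ}, (famOf V l).card = l →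
      Set.InjOn (fun j => (enc.finOf (V j) : Finset GolayPt)) (Finset.range l : Finset ℕ) := by
    intro V l h
    rw [← Finset.card_image_iff, ]
    rw [show (Finset.range l).image (fun j => (enc.finOf (V j) : Finset GolayPt)) = famOf V l from rfl, h]
    simp
  unfold famInvA famInvN
  rw [sumB_eq]
  show ∑ a ∈ (Finset.range n).image _, _ = _
  rw [Finset.sum_image (hinj hT)]
  refine Finset.sum_congr rfl fun i _ => ?_
  rw [sumB_eq]
  show ∑ a ∈ (Finset.range m).image _, _ = _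
  rw [Finset.sum_image (hinj hU)]
  refine Finset.sum_congr rfl fun j _ => ?_
  have h1 : (enc.finOf (T i) ∩ enc.finOf (U j) : Finset GolayPt) = enc.finOf (Nat.land (T i) (U j)) :=
    (enc.finOf_and _ _).symm
  rw [h1, card_enc_finOf]
  show _ = (1 <<< (6 * Enc.popAux (Nat.land (T i) (U j)) 24))
  rw [Nat.one_shiftLeft]

/-! ### The machine -/

section machine

variable {W Z : Type*} [MulAction ↥M24 W] [MulAction ↥M24 Z]

/-- An element from a packed valid permutation. -/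
noncomputable def gOf {p : ℕ} (h : vld p = true) : ↥M24 := ⟨ppm p, vld_mem h⟩

/-- The descent check. -/
noncomputable def descChk (gens : List ℕ) (K : ℕ) (act : (ℕ → ℕ) → ℕ → ℕ → Bool) (roots : List ℕ)
    (par gen dist : ℕ → ℕ) : Bool :=
  allBelow (fun k => roots.contains k || (Nat.blt (gen k) gens.length && Nat.blt (par k) K &&
    Nat.blt (dist (par k)) (dist k) && act (pc (gens.getD (gen k) 0)) k (par k))) K

theorem descent_root {x₀ : W} {zt : ℕ → Z} {K : ℕ} {act : (ℕ → ℕ) → ℕ → ℕ → Bool}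
    (hact : ∀ (σ : ↥M24) (f : ℕ → ℕ), enc.IsCode σ.1 f → ∀ k k', k < K → act f k k' = true → σ • zt k = zt k')
    {gens : List ℕ} (hgens : ∀ p ∈ gens, ∃ hv : vld p = true, gOf hv • x₀ = x₀) {roots : List ℕ}
    {par gen dist : ℕ → ℕ} (h : descChk gens K act roots par gen dist = true) :
    ∀ k, k < K → ∃ r ∈ roots, ∃ σ : ↥(MulAction.stabilizer ↥M24 x₀), σ • zt k = zt r := by
  have main : ∀ n k, dist k < n → k < K →
      ∃ r ∈ roots, ∃ σ : ↥(MulAction.stabilizer ↥M24 x₀), σ • zt k = zt r := by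
    intro n
    induction n with
    | zero => intro k hk; omega
    | succ n ih =>
      intro k hd hk
      have h1 := (allBelow_iff _ _).1 h k hk
      simp only [Bool.or_eq_true, Bool.and_eq_true, List.contains_iff_mem] at h1
      rcases h1 with h1 | ⟨⟨⟨h2, h3⟩, h4⟩, h5⟩
      · exact ⟨k, h1, 1, by simp⟩
      · have h2' : gen k < gens.length := by simpa [Nat.blt_eq] using h2
        have h3' : par k < K := by simpa [Nat.blt_eq] using h3
        have h4' : dist (par k) < dist k := by simpa [Nat.blt_eq] using h4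
        have hmem : gens.getD (gen k) 0 ∈ gens := by
          rw [List.getD_eq_getElem _ _ h2']
          exact List.getElem_mem h2'
        obtain ⟨hv, hfix⟩ := hgens _ hmem
        have hstep := hact (gOf hv) _ (vld_code hv) k (par k) hk h5
        obtain ⟨r, hr, σ, hσ⟩ := ih (par k) (by omega) h3'
        refine ⟨r, hr, σ * ⟨gOf hv, hfix⟩, ?_⟩
        rw [mul_smul, ← hσ]
        congr 1
  exact fun k hk => main (dist k + 1) k (Nat.lt_succ_self _) hk

/-- The orbit of a root. -/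
theorem orbit_eq_of_inv {x₀ : W} {zt : ℕ → Z} {K : ℕ} {inv : ℕ → ℕ} {roots : List ℕ}
    (hclosed : ∀ (σ : ↥(MulAction.stabilizer ↥M24 x₀)) k, k < K → ∃ k', k' < K ∧ σ • zt k = zt k')
    (hinv : ∀ (σ : ↥(MulAction.stabilizer ↥M24 x₀)) k k', k < K → k' < K → σ • zt k = zt k' → inv k = inv k')
    (hdesc : ∀ k, k < K → ∃ r ∈ roots, ∃ σ : ↥(MulAction.stabilizer ↥M24 x₀), σ • zt k = zt r)
    (hroots : ∀ r ∈ roots, r < K) (hdist : ∀ r ∈ roots, ∀ r' ∈ roots, inv r = inv r' → r = r')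
    {r : ℕ} (hr : r ∈ roots) :
    MulAction.orbit ↥(MulAction.stabilizer ↥M24 x₀) (zt r) = zt '' {k | k < K ∧ inv k = inv r} := by
  ext y
  constructor
  · rintro ⟨σ, rfl⟩
    obtain ⟨k', hk', h⟩ := hclosed σ r (hroots r hr)
    refine ⟨k', ⟨hk', (hinv σ r k' (hroots r hr) hk' h).symm⟩, h.symm⟩
  · rintro ⟨k, ⟨hk, hi⟩, rfl⟩
    obtain ⟨r', hr', σ, hσ⟩ := hdesc k hk
    have h1 := hinv σ k r' hk (hroots r' hr') hσ
    have h2 : r' = r := hdist r' hr' r hr (h1.symm.trans hi)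
    subst h2
    refine ⟨σ⁻¹, ?_⟩
    show σ⁻¹ • zt r' = zt k
    rw [← hσ, inv_smul_smul]

omit [MulAction ↥M24 Z] in
theorem ncard_image_filter {zt : ℕ → Z} {K : ℕ} (hinj : ∀ a b, a < K → b < K → zt a = zt b → a = b)
    (inv : ℕ → ℕ) (v : ℕ) :
    (zt '' {k | k < K ∧ inv k = v}).ncard = countBelow (fun k => Nat.beq (inv k) v) K := by
  classical
  have hset : {k | k < K ∧ inv k = v} = (((Finset.range K).filter fun k => Nat.beq (inv k) v = true : Finset ℕ) : Set ℕ) := by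
    ext k
    simp only [Set.mem_ofPred_eq, Finset.coe_filter, Finset.mem_range]
    constructor
    · rintro ⟨h1, h2⟩
      exact ⟨h1, by rw [h2]; exact Nat.beq_refl v⟩
    · rintro ⟨h1, h2⟩
      exact ⟨h1, Nat.eq_of_beq_eq_true h2⟩
  rw [hset, Set.InjOn.ncard_image, Set.ncard_coe_finset, countBelow_eq]
  intro a ha b hb hab
  simp only [Finset.coe_filter, Finset.mem_range, Set.mem_ofPred_eq] at ha hb
  exact hinj a b ha.1 hb.1 hab

end machine

/-! ### Transport along an element of the group -/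

section transport

variable {G W Z : Type*} [Group G] [MulAction G W] [MulAction G Z]

theorem orbit_stabilizer_smul (g : G) (w : W) (z : Z) :
    MulAction.orbit ↥(MulAction.stabilizer G (g • w)) (g • z) =
      (fun y => g • y) '' MulAction.orbit ↥(MulAction.stabilizer G w) z := by
  ext y
  constructor
  · rintro ⟨⟨s, hs⟩, rfl⟩
    have hs' : s • g • w = g • w := hs
    have h1 : g⁻¹ * s * g ∈ MulAction.stabilizer G w := by
      show (g⁻¹ * s * g) • w = w
      rw [mul_smul, mul_smul, hs', inv_smul_smul]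
    refine ⟨g⁻¹ • (s • g • z), ⟨⟨g⁻¹ * s * g, h1⟩, ?_⟩, ?_⟩
    · show (g⁻¹ * s * g) • z = _
      rw [mul_smul, mul_smul]
    · show g • g⁻¹ • (s • g • z) = s • g • z
      rw [smul_inv_smul]
  · rintro ⟨_, ⟨⟨s, hs⟩, rfl⟩, rfl⟩
    have hs' : s • w = w := hs
    have h1 : g * s * g⁻¹ ∈ MulAction.stabilizer G (g • w) := by
      show (g * s * g⁻¹) • g • w = g • w
      rw [mul_smul, mul_smul, inv_smul_smul, hs']
    refine ⟨⟨g * s * g⁻¹, h1⟩, ?_⟩
    show (g * s * g⁻¹) • g • z = g • (s • z)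
    rw [mul_smul, mul_smul, inv_smul_smul]

theorem ncard_orbit_smul (g : G) (w : W) (z : Z) :
    (MulAction.orbit ↥(MulAction.stabilizer G (g • w)) (g • z)).ncard =
      (MulAction.orbit ↥(MulAction.stabilizer G w) z).ncard := by
  rw [orbit_stabilizer_smul, Set.ncard_image_of_injective _ (MulAction.injective g)]

/-- A decomposition of an invariant set into three orbits. -/
def OrbDecomp3 (w : W) (A : Set Z) (c₁ c₂ c₃ : ℕ) : Prop :=
  ∃ X₁ ∈ A, ∃ X₂ ∈ A, ∃ X₃ ∈ A, (MulAction.orbit ↥(MulAction.stabilizer G w) X₁).ncard = c₁ ∧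
    (MulAction.orbit ↥(MulAction.stabilizer G w) X₂).ncard = c₂ ∧
    (MulAction.orbit ↥(MulAction.stabilizer G w) X₃).ncard = c₃ ∧
    A = MulAction.orbit ↥(MulAction.stabilizer G w) X₁ ∪ MulAction.orbit ↥(MulAction.stabilizer G w) X₂ ∪
      MulAction.orbit ↥(MulAction.stabilizer G w) X₃

/-- A decomposition of an invariant set into four orbits. -/
def OrbDecomp4 (w : W) (A : Set Z) (c₁ c₂ c₃ c₄ : ℕ) : Prop :=
  ∃ X₁ ∈ A, ∃ X₂ ∈ A, ∃ X₃ ∈ A, ∃ X₄ ∈ A, (MulAction.orbit ↥(MulAction.stabilizer G w) X₁).ncard = c₁ ∧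
    (MulAction.orbit ↥(MulAction.stabilizer G w) X₂).ncard = c₂ ∧
    (MulAction.orbit ↥(MulAction.stabilizer G w) X₃).ncard = c₃ ∧
    (MulAction.orbit ↥(MulAction.stabilizer G w) X₄).ncard = c₄ ∧
    A = MulAction.orbit ↥(MulAction.stabilizer G w) X₁ ∪ MulAction.orbit ↥(MulAction.stabilizer G w) X₂ ∪
      MulAction.orbit ↥(MulAction.stabilizer G w) X₃ ∪ MulAction.orbit ↥(MulAction.stabilizer G w) X₄

theorem image_smul_of_invariant {A : Set Z} (hA : ∀ (g : G), ∀ x ∈ A, g • x ∈ A) (g : G) :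
    (fun y => g • y) '' A = A := by
  ext y
  constructor
  · rintro ⟨x, hx, rfl⟩
    exact hA g x hx
  · intro hy
    exact ⟨g⁻¹ • y, hA g⁻¹ y hy, by simp⟩

theorem OrbDecomp3.smul {w : W} {A : Set Z} {c₁ c₂ c₃ : ℕ} (h : OrbDecomp3 (G := G) w A c₁ c₂ c₃)
    (hA : ∀ (g : G), ∀ x ∈ A, g • x ∈ A) (g : G) : OrbDecomp3 (G := G) (g • w) A c₁ c₂ c₃ := by
  obtain ⟨X₁, h1, X₂, h2, X₃, h3, e1, e2, e3, hU⟩ := h
  refine ⟨g • X₁, hA g _ h1, g • X₂, hA g _ h2, g • X₃, hA g _ h3, ?_, ?_, ?_, ?_⟩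
  · rw [ncard_orbit_smul, e1]
  · rw [ncard_orbit_smul, e2]
  · rw [ncard_orbit_smul, e3]
  · rw [orbit_stabilizer_smul, orbit_stabilizer_smul, orbit_stabilizer_smul, ← Set.image_union,
      ← Set.image_union, ← hU, image_smul_of_invariant hA]

theorem OrbDecomp4.smul {w : W} {A : Set Z} {c₁ c₂ c₃ c₄ : ℕ} (h : OrbDecomp4 (G := G) w A c₁ c₂ c₃ c₄)
    (hA : ∀ (g : G), ∀ x ∈ A, g • x ∈ A) (g : G) : OrbDecomp4 (G := G) (g • w) A c₁ c₂ c₃ c₄ := by
  obtain ⟨X₁, h1, X₂, h2, X₃, h3, X₄, h4, e1, e2, e3, e4, hU⟩ := h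
  refine ⟨g • X₁, hA g _ h1, g • X₂, hA g _ h2, g • X₃, hA g _ h3, g • X₄, hA g _ h4, ?_, ?_, ?_, ?_, ?_⟩
  · rw [ncard_orbit_smul, e1]
  · rw [ncard_orbit_smul, e2]
  · rw [ncard_orbit_smul, e3]
  · rw [ncard_orbit_smul, e4]
  · rw [orbit_stabilizer_smul, orbit_stabilizer_smul, orbit_stabilizer_smul, orbit_stabilizer_smul,
      ← Set.image_union, ← Set.image_union, ← Set.image_union, ← hU, image_smul_of_invariant hA]

end transport

/-! ### Certificates of orbit decompositions -/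

section cert

variable {W Z : Type*} [MulAction ↥M24 W] [MulAction ↥M24 Z]

/-- A numbered invariant subset of a set on which `M24` acts, with its description by a family of masks. -/
structure ZTable (A : Set Z) (zt : ℕ → Z) (K : ℕ) (Ψ : Z → Finset (Finset GolayPt)) (T : ℕ → ℕ → ℕ) (n : ℕ) : Prop where
  mem_iff : ∀ y, y ∈ A ↔ ∃ k, k < K ∧ y = zt k
  inv_A : ∀ (σ : ↥M24) y, y ∈ A → σ • y ∈ A
  inj : ∀ a b, a < K → b < K → zt a = zt b → a = b
  Ψ_smul : ∀ (σ : ↥M24) z, Ψ (σ • z) = σ.1 • Ψ z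
  Ψ_zt : ∀ k, k < K → Ψ (zt k) = famOf (T k) n
  card : ∀ k, k < K → (famOf (T k) n).card = n
  act : ∀ (σ : ↥M24) (f : ℕ → ℕ), enc.IsCode σ.1 f → ∀ k k', k < K → famEq f (T k) (T k') n = true → σ • zt k = zt k'

/-- A base point `x₀` and the family of masks describing it. -/
structure WBase (x₀ : W) (Φ : W → Finset (Finset GolayPt)) (T₀ : ℕ → ℕ) (n₀ : ℕ) : Prop where
  Φ_smul : ∀ (σ : ↥M24) x, Φ (σ • x) = σ.1 • Φ x
  Φ_x₀ : Φ x₀ = famOf T₀ n₀
  card : (famOf T₀ n₀).card = n₀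

variable {A : Set Z} {zt : ℕ → Z} {K : ℕ} {Ψ : Z → Finset (Finset GolayPt)} {T : ℕ → ℕ → ℕ} {n : ℕ}
  {x₀ : W} {Φ : W → Finset (Finset GolayPt)} {T₀ : ℕ → ℕ} {n₀ : ℕ}

theorem ZTable.inv_eq (ht : ZTable A zt K Ψ T n) (hb : WBase x₀ Φ T₀ n₀)
    (σ : ↥(MulAction.stabilizer ↥M24 x₀)) (k k' : ℕ) (hk : k < K) (hk' : k' < K) (h : σ • zt k = zt k') :
    famInvN T₀ n₀ (T k) n = famInvN T₀ n₀ (T k') n := by
  rw [← famInvA_table hb.card (ht.card k hk), ← famInvA_table hb.card (ht.card k' hk'),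
    ← ht.Ψ_zt k hk, ← ht.Ψ_zt k' hk', ← hb.Φ_x₀, ← h]
  have h1 : Φ x₀ = (σ : ↥M24).1 • Φ x₀ := by
    rw [← hb.Φ_smul, show (σ : ↥M24) • x₀ = x₀ from σ.2]
  have h2 : Ψ (σ • zt k) = (σ : ↥M24).1 • Ψ (zt k) := ht.Ψ_smul _ _
  rw [h2]
  conv_rhs => rw [h1, famInvA_smul]

/-- The invariant of a number in the table. -/
noncomputable def tblInv (T₀ : ℕ → ℕ) (n₀ : ℕ) (T : ℕ → ℕ → ℕ) (n k : ℕ) : ℕ := famInvN T₀ n₀ (T k) n

/-- The full description of the orbits of the stabiliser from a descent. -/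
theorem cert_main (ht : ZTable A zt K Ψ T n) (hb : WBase x₀ Φ T₀ n₀) {gens roots : List ℕ} {par gen dist : ℕ → ℕ}
    (hgens : ∀ p ∈ gens, ∃ hv : vld p = true, gOf hv • x₀ = x₀)
    (h : descChk gens K (fun f k k' => famEq f (T k) (T k') n) roots par gen dist = true)
    (hroots : ∀ r ∈ roots, r < K)
    (hdist : ∀ r ∈ roots, ∀ r' ∈ roots, tblInv T₀ n₀ T n r = tblInv T₀ n₀ T n r' → r = r') :
    (∀ r ∈ roots, (MulAction.orbit ↥(MulAction.stabilizer ↥M24 x₀) (zt r)).ncard =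
        countBelow (fun k => Nat.beq (tblInv T₀ n₀ T n k) (tblInv T₀ n₀ T n r)) K) ∧
      (∀ y, y ∈ A ↔ ∃ r ∈ roots, y ∈ MulAction.orbit ↥(MulAction.stabilizer ↥M24 x₀) (zt r)) := by
  have hdesc := descent_root (x₀ := x₀) (zt := zt) (K := K) (act := fun f k k' => famEq f (T k) (T k') n)
    (fun σ f hf k k' hk hh => ht.act σ f hf k k' hk hh) hgens h
  have hclosed : ∀ (σ : ↥(MulAction.stabilizer ↥M24 x₀)) k, k < K → ∃ k', k' < K ∧ σ • zt k = zt k' := by
    intro σ k hk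
    exact (ht.mem_iff _).1 (ht.inv_A σ.1 _ ((ht.mem_iff _).2 ⟨k, hk, rfl⟩))
  have hinv : ∀ (σ : ↥(MulAction.stabilizer ↥M24 x₀)) k k', k < K → k' < K → σ • zt k = zt k' →
      tblInv T₀ n₀ T n k = tblInv T₀ n₀ T n k' := fun σ k k' hk hk' h => ht.inv_eq hb σ k k' hk hk' h
  refine ⟨fun r hr => ?_, fun y => ⟨fun hy => ?_, ?_⟩⟩
  · rw [orbit_eq_of_inv hclosed hinv hdesc hroots hdist hr, ncard_image_filter ht.inj]
  · obtain ⟨k, hk, rfl⟩ := (ht.mem_iff _).1 hy
    obtain ⟨r, hr, σ, hσ⟩ := hdesc k hk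
    refine ⟨r, hr, σ⁻¹, ?_⟩
    show σ⁻¹ • zt r = zt k
    rw [← hσ, inv_smul_smul]
  · rintro ⟨r, hr, σ, rfl⟩
    exact ht.inv_A σ.1 _ ((ht.mem_iff _).2 ⟨r, hroots r hr, rfl⟩)

theorem cert3 (ht : ZTable A zt K Ψ T n) (hb : WBase x₀ Φ T₀ n₀) {gens : List ℕ} {r₁ r₂ r₃ : ℕ} {par gen dist : ℕ → ℕ}
    (hgens : ∀ p ∈ gens, ∃ hv : vld p = true, gOf hv • x₀ = x₀)
    (h : descChk gens K (fun f k k' => famEq f (T k) (T k') n) [r₁, r₂, r₃] par gen dist = true)
    (h1 : r₁ < K) (h2 : r₂ < K) (h3 : r₃ < K)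
    (hd : (List.map (tblInv T₀ n₀ T n) [r₁, r₂, r₃]).Nodup)
    {c₁ c₂ c₃ : ℕ}
    (e1 : countBelow (fun k => Nat.beq (tblInv T₀ n₀ T n k) (tblInv T₀ n₀ T n r₁)) K = c₁)
    (e2 : countBelow (fun k => Nat.beq (tblInv T₀ n₀ T n k) (tblInv T₀ n₀ T n r₂)) K = c₂)
    (e3 : countBelow (fun k => Nat.beq (tblInv T₀ n₀ T n k) (tblInv T₀ n₀ T n r₃)) K = c₃) :
    OrbDecomp3 (G := ↥M24) x₀ A c₁ c₂ c₃ := by
  have hr : ∀ r ∈ [r₁, r₂, r₃], r < K := by
    intro r hr
    simp only [List.mem_cons, List.not_mem_nil, or_false] at hr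
    rcases hr with rfl | rfl | rfl <;> assumption
  have hdist : ∀ r ∈ [r₁, r₂, r₃], ∀ r' ∈ [r₁, r₂, r₃], tblInv T₀ n₀ T n r = tblInv T₀ n₀ T n r' → r = r' :=
    fun r hr r' hr' he => (List.inj_on_of_nodup_map hd) hr hr' he
  obtain ⟨hc, hu⟩ := cert_main ht hb hgens h hr hdist
  have hin : ∀ r ∈ [r₁, r₂, r₃], zt r ∈ A := fun r hrr => (ht.mem_iff _).2 ⟨r, hr r hrr, rfl⟩
  refine ⟨zt r₁, hin _ (by simp), zt r₂, hin _ (by simp), zt r₃, hin _ (by simp), ?_, ?_, ?_, ?_⟩
  · rw [hc _ (by simp), e1]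
  · rw [hc _ (by simp), e2]
  · rw [hc _ (by simp), e3]
  · ext y
    rw [hu y]
    simp only [List.mem_cons, List.not_mem_nil, or_false, exists_eq_or_imp, exists_eq_left, Set.mem_union, or_assoc]

theorem cert4 (ht : ZTable A zt K Ψ T n) (hb : WBase x₀ Φ T₀ n₀) {gens : List ℕ} {r₁ r₂ r₃ r₄ : ℕ} {par gen dist : ℕ → ℕ}
    (hgens : ∀ p ∈ gens, ∃ hv : vld p = true, gOf hv • x₀ = x₀)
    (h : descChk gens K (fun f k k' => famEq f (T k) (T k') n) [r₁, r₂, r₃, r₄] par gen dist = true)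
    (h1 : r₁ < K) (h2 : r₂ < K) (h3 : r₃ < K) (h4 : r₄ < K)
    (hd : (List.map (tblInv T₀ n₀ T n) [r₁, r₂, r₃, r₄]).Nodup)
    {c₁ c₂ c₃ c₄ : ℕ}
    (e1 : countBelow (fun k => Nat.beq (tblInv T₀ n₀ T n k) (tblInv T₀ n₀ T n r₁)) K = c₁)
    (e2 : countBelow (fun k => Nat.beq (tblInv T₀ n₀ T n k) (tblInv T₀ n₀ T n r₂)) K = c₂)
    (e3 : countBelow (fun k => Nat.beq (tblInv T₀ n₀ T n k) (tblInv T₀ n₀ T n r₃)) K = c₃)
    (e4 : countBelow (fun k => Nat.beq (tblInv T₀ n₀ T n k) (tblInv T₀ n₀ T n r₄)) K = c₄) :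
    OrbDecomp4 (G := ↥M24) x₀ A c₁ c₂ c₃ c₄ := by
  have hr : ∀ r ∈ [r₁, r₂, r₃, r₄], r < K := by
    intro r hr
    simp only [List.mem_cons, List.not_mem_nil, or_false] at hr
    rcases hr with rfl | rfl | rfl | rfl <;> assumption
  have hdist : ∀ r ∈ [r₁, r₂, r₃, r₄], ∀ r' ∈ [r₁, r₂, r₃, r₄], tblInv T₀ n₀ T n r = tblInv T₀ n₀ T n r' → r = r' :=
    fun r hr r' hr' he => (List.inj_on_of_nodup_map hd) hr hr' he
  obtain ⟨hc, hu⟩ := cert_main ht hb hgens h hr hdist
  have hin : ∀ r ∈ [r₁, r₂, r₃, r₄], zt r ∈ A := fun r hrr => (ht.mem_iff _).2 ⟨r, hr r hrr, rfl⟩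
  refine ⟨zt r₁, hin _ (by simp), zt r₂, hin _ (by simp), zt r₃, hin _ (by simp), zt r₄, hin _ (by simp),
    ?_, ?_, ?_, ?_, ?_⟩
  · rw [hc _ (by simp), e1]
  · rw [hc _ (by simp), e2]
  · rw [hc _ (by simp), e3]
  · rw [hc _ (by simp), e4]
  · ext y
    rw [hu y]
    simp only [List.mem_cons, List.not_mem_nil, or_false, exists_eq_or_imp, exists_eq_left, Set.mem_union, or_assoc]

/-- Transitivity of `M24` on a table from a descent to a single root. -/
theorem cert_transitive (ht : ZTable A zt K Ψ T n) {gens : List ℕ} {par gen dist : ℕ → ℕ} (hg : ∀ p ∈ gens, vld p = true)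
    {r : ℕ} (h : descChk gens K (fun f k k' => famEq f (T k) (T k') n) [r] par gen dist = true) (hr : r < K)
    {y : Z} (hy : y ∈ A) : ∃ σ : ↥M24, σ • zt r = y := by
  have hgens : ∀ p ∈ gens, ∃ hv : vld p = true, gOf hv • (∅ : Finset GolayPt) = ∅ := fun p hp =>
    ⟨hg p hp, by rw [Finset.smul_finset_empty]⟩
  obtain ⟨k, hk, rfl⟩ := (ht.mem_iff _).1 hy
  obtain ⟨r', hr', σ, hσ⟩ := descent_root (x₀ := (∅ : Finset GolayPt)) (zt := zt) (K := K)
    (act := fun f k k' => famEq f (T k) (T k') n)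
    (fun σ f hf k k' hk hh => ht.act σ f hf k k' hk hh) hgens h k hk
  have hrr : r' = r := by simpa using hr'
  subst hrr
  refine ⟨(σ : ↥M24)⁻¹, ?_⟩
  rw [← hσ]
  show (σ : ↥M24)⁻¹ • ((σ : ↥M24) • zt k) = zt k
  rw [inv_smul_smul]

end cert

/-! ### The tables -/

/-- The table of octads. -/
theorem octTable : ZTable (Z := Finset GolayPt) octads (fun k => enc.finOf (ocT k)) 759 (fun z => {z})
    (fun k _ => ocT k) 1 where
  mem_iff := by
    intro y
    exact mem_octads_table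
  inv_A := fun σ y hy => smul_mem_octads σ.2 hy
  inj := fun a b ha hb h => oc_injOn ha hb h
  Ψ_smul := fun σ z => by
    show ({σ.1 • z} : Finset (Finset GolayPt)) = σ.1 • {z}
    rw [Finset.smul_finset_singleton]
  Ψ_zt := fun k _ => by
    show _ = (Finset.range 1).image _
    simp
  card := fun k _ => by
    show ((Finset.range 1).image _).card = 1
    simp
  act := by
    intro σ f hf k k' _ h
    obtain ⟨j, hj, h2⟩ := (anyBelow_iff _ _).1 ((allBelow_iff _ _).1 h 0 (by norm_num))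
    show σ.1 • (enc.finOf (ocT k) : Finset GolayPt) = _
    rw [img_finOf hf, Nat.eq_of_beq_eq_true h2]

theorem famOf_sxT_card {k : ℕ} (hk : k < 1771) : (famOf (sxT k) 6).card = 6 :=
  (sxS_mem_sextets hk).1

theorem famOf_trT_card {k : ℕ} (hk : k < 3795) : (famOf (trT k) 3).card = 3 :=
  (trS_mem_trios hk).1

/-- The table of sextets. -/
theorem sexTable : ZTable (Z := Finset (Finset GolayPt)) sextets sxS 1771 id sxT 6 where
  mem_iff := fun _ => mem_sextets_iff
  inv_A := fun σ y hy => smul_mem_sextets σ.2 hy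
  inj := fun _ _ ha hb h => sxS_injOn ha hb h
  Ψ_smul := fun _ _ => rfl
  Ψ_zt := fun _ _ => rfl
  card := fun _ hk => famOf_sxT_card hk
  act := by
    intro σ f hf k k' hk h
    have hk'card : (famOf (sxT k') 6).card ≤ (famOf (sxT k) 6).card := by
      rw [famOf_sxT_card hk]
      exact Finset.card_image_le.trans (by simp)
    exact famEq_spec hf h hk'card

/-- The table of trios. -/
theorem triTable : ZTable (Z := Finset (Finset GolayPt)) trios trS 3795 id trT 3 where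
  mem_iff := fun _ => mem_trios_iff
  inv_A := fun σ y hy => smul_mem_trios σ.2 hy
  inj := fun _ _ ha hb h => trS_injOn ha hb h
  Ψ_smul := fun _ _ => rfl
  Ψ_zt := fun _ _ => rfl
  card := fun _ hk => famOf_trT_card hk
  act := by
    intro σ f hf k k' hk h
    have hk'card : (famOf (trT k') 3).card ≤ (famOf (trT k) 3).card := by
      rw [famOf_trT_card hk]
      exact Finset.card_image_le.trans (by simp)
    exact famEq_spec hf h hk'card

/-- A base point in the octads. -/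
theorem octBase (m : ℕ) : WBase (W := Finset GolayPt) (enc.finOf m) (fun z => {z}) (fun _ => m) 1 where
  Φ_smul := fun σ z => by
    show ({σ.1 • z} : Finset (Finset GolayPt)) = σ.1 • {z}
    rw [Finset.smul_finset_singleton]
  Φ_x₀ := by
    show _ = (Finset.range 1).image _
    simp
  card := by
    show ((Finset.range 1).image _).card = 1
    simp

/-- A base point among the families. -/
theorem famBase {T₀ : ℕ → ℕ} {n₀ : ℕ} (h : (famOf T₀ n₀).card = n₀) :
    WBase (W := Finset (Finset GolayPt)) (famOf T₀ n₀) id T₀ n₀ where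
  Φ_smul := fun _ _ => rfl
  Φ_x₀ := rfl
  card := h

end Cfsg.Agent.Lib.M24
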