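import Cfsg.Agent.Lib.M24.OrbCerts
import Cfsg.Agent.Lib.M24.Y3Data

/-!
# The stabiliser of a 3-set acting on sextets
-/

set_option autoImplicit false
set_option linter.constructorNameAsVariable false

namespace Cfsg.Agent.Lib.M24

open Cfsg Cfsg.Agent.Lib.Compute Cfsg.Agent.Lib.Golay
open scoped Pointwise

/-- Transitivity on subsets of size at most 5. -/
theorem exists_smul_eq_of_card {s t : Finset GolayPt} {k : ℕ} (hk : k ≤ 5) (hs : s.card = k) (ht : t.card = k) :
    ∃ g : ↥M24, g • s = t := by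
  have hT := M24_isMultiplyPretransitive k hk
  let x : Fin k ↪ GolayPt := ((Finset.equivFinOfCardEq hs).symm.toEmbedding).trans (Function.Embedding.subtype _)
  let y : Fin k ↪ GolayPt := ((Finset.equivFinOfCardEq ht).symm.toEmbedding).trans (Function.Embedding.subtype _)
  have hx : ∀ a, a ∈ s ↔ ∃ i, x i = a := by
    intro a
    constructor
    · intro ha
      refine ⟨(Finset.equivFinOfCardEq hs) ⟨a, ha⟩, ?_⟩
      simp [x]
    · rintro ⟨i, rfl⟩
      exact ((Finset.equivFinOfCardEq hs).symm i).2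
  have hy : ∀ a, a ∈ t ↔ ∃ i, y i = a := by
    intro a
    constructor
    · intro ha
      refine ⟨(Finset.equivFinOfCardEq ht) ⟨a, ha⟩, ?_⟩
      simp [y]
    · rintro ⟨i, rfl⟩
      exact ((Finset.equivFinOfCardEq ht).symm i).2
  obtain ⟨g, hg⟩ := MulAction.IsPretransitive.exists_smul_eq (M := M24) x y
  refine ⟨g, ?_⟩
  have hgi : ∀ i, g.1 (x i) = y i := fun i => congrArg (fun e : Fin k ↪ GolayPt => e i) hg
  ext a
  show a ∈ s.image g.1 ↔ a ∈ t
  rw [Finset.mem_image, hy]
  constructor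
  · rintro ⟨b, hb, rfl⟩
    obtain ⟨i, rfl⟩ := (hx b).1 hb
    exact ⟨i, (hgi i).symm⟩
  · rintro ⟨i, rfl⟩
    exact ⟨x i, (hx _).2 ⟨i, rfl⟩, hgi i⟩

/-- The number of members of a family meeting a set. -/
noncomputable def hit (Y : Finset GolayPt) (S : Finset (Finset GolayPt)) : ℕ :=
  (S.filter fun t => (t ∩ Y).Nonempty).card

theorem hit_smul (g : Equiv.Perm GolayPt) (Y : Finset GolayPt) (S : Finset (Finset GolayPt)) :
    hit (g • Y) (g • S) = hit Y S := by
  classical
  unfold hit
  have h0 : g • S = S.image (fun t => g • t) := rfl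
  rw [h0, Finset.filter_image, Finset.card_image_of_injective _ (MulAction.injective g)]
  refine congrArg Finset.card (Finset.filter_congr ?_)
  intro t _
  show ((g • t) ∩ (g • Y)).Nonempty ↔ _
  rw [← Finset.smul_finset_inter, Finset.smul_finset_nonempty]

/-- The count of a table. -/
noncomputable def hitN (m : ℕ) (U : ℕ → ℕ) (n : ℕ) : ℕ :=
  countBelow (fun j => !Nat.beq (Enc.popAux (Nat.land (U j) m) 24) 0) n

theorem hit_table {U : ℕ → ℕ} {n : ℕ} (m : ℕ) (hc : (famOf U n).card = n) :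
    hit (enc.finOf m) (famOf U n) = hitN m U n := by
  classical
  have hinj : Set.InjOn (fun j => (enc.finOf (U j) : Finset GolayPt)) (Finset.range n : Finset ℕ) := by
    rw [← Finset.card_image_iff]
    rw [show (Finset.range n).image (fun j => (enc.finOf (U j) : Finset GolayPt)) = famOf U n from rfl, hc]
    simp
  have h0 : famOf U n = (Finset.range n).image (fun j => (enc.finOf (U j) : Finset GolayPt)) := rfl
  unfold hit hitN
  rw [countBelow_eq, h0, Finset.filter_image, Finset.card_image_of_injOn]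
  · refine congrArg Finset.card (Finset.filter_congr ?_)
    intro j _
    have h1 : ((enc.finOf (U j) : Finset GolayPt) ∩ enc.finOf m).card = Enc.popAux (Nat.land (U j) m) 24 := by
      rw [show (enc.finOf (U j) ∩ enc.finOf m : Finset GolayPt) = enc.finOf (Nat.land (U j) m) from (enc.finOf_and _ _).symm,
        card_enc_finOf]
    rw [Bool.not_eq_true', ← Finset.card_pos, h1]
    constructor
    · intro h2
      rw [← Bool.not_eq_true, Nat.beq_eq]
      omega
    · intro h2
      rw [← Bool.not_eq_true, Nat.beq_eq] at h2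
      omega
  · intro a ha b hb h
    exact hinj (Finset.mem_coe.2 (Finset.mem_filter.1 (Finset.mem_coe.1 ha)).1) (Finset.mem_coe.2 (Finset.mem_filter.1 (Finset.mem_coe.1 hb)).1) h

/-- The base 3-set. -/
abbrev Y0 : ℕ := 8388611

theorem Y0_card : (enc.finOf Y0 : Finset GolayPt).card = 3 := by decide +kernel

theorem y_fix : gensFix gY (fun _ => Y0) 1 = true := by decide +kernel

theorem y_chk : descChk gY 1771 (fun f k k' => famEq f (sxT k) (sxT k') 6) [119, 0, 3]
    (pget 11 2047 ySexPar) (pget 2 3 ySexGen) (pget 3 7 ySexDist) = true := by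
  decide +kernel

theorem y_nodup : (List.map (tblInv (fun _ => Y0) 1 sxT 6) [119, 0, 3]).Nodup := by decide +kernel

theorem y_main :
    ∀ y, y ∈ sextets ↔ ∃ r ∈ [119, 0, 3], y ∈ MulAction.orbit ↥(MulAction.stabilizer ↥M24 (enc.finOf Y0 : Finset GolayPt)) (sxS r) := by
  refine (cert_main sexTable (octBase Y0) (gens_of_fix (octBase Y0) Finset.singleton_injective y_fix) y_chk ?_ ?_).2
  · intro r hr
    simp only [List.mem_cons, List.not_mem_nil, or_false] at hr
    rcases hr with rfl | rfl | rfl <;> norm_num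
  · exact fun r hr r' hr' he => (List.inj_on_of_nodup_map y_nodup) hr hr' he

theorem hit_root1 : hit (enc.finOf Y0) (sxS 119) = 1 := by
  rw [sxS_eq, hit_table _ (famOf_sxT_card (by norm_num))]
  decide +kernel

theorem hit_root2 : hit (enc.finOf Y0) (sxS 0) = 2 := by
  rw [sxS_eq, hit_table _ (famOf_sxT_card (by norm_num))]
  decide +kernel

theorem hit_root3 : hit (enc.finOf Y0) (sxS 3) = 3 := by
  rw [sxS_eq, hit_table _ (famOf_sxT_card (by norm_num))]
  decide +kernel

theorem y_same {S S' : Finset (Finset GolayPt)} (hS : S ∈ sextets) (hS' : S' ∈ sextets)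
    (h : hit (enc.finOf Y0) S = hit (enc.finOf Y0) S') :
    ∃ σ : ↥(MulAction.stabilizer ↥M24 (enc.finOf Y0 : Finset GolayPt)), σ • S = S' := by
  have key : ∀ {T : Finset (Finset GolayPt)}, T ∈ sextets → ∃ r ∈ [119, 0, 3], hit (enc.finOf Y0) T = hit (enc.finOf Y0) (sxS r) ∧
      ∃ σ : ↥(MulAction.stabilizer ↥M24 (enc.finOf Y0 : Finset GolayPt)), σ • sxS r = T := by
    intro T hT
    obtain ⟨r, hr, σ, rfl⟩ := (y_main T).1 hT
    refine ⟨r, hr, ?_, σ, rfl⟩
    have h1 := hit_smul (σ : ↥M24).1 (enc.finOf Y0) (sxS r)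
    have h2 : (σ : ↥M24).1 • (enc.finOf Y0 : Finset GolayPt) = enc.finOf Y0 := σ.2
    rw [h2] at h1
    exact h1
  obtain ⟨r, hr, h1, σ, rfl⟩ := key hS
  obtain ⟨r', hr', h2, σ', rfl⟩ := key hS'
  have hrr : r = r' := by
    rw [h1, h2] at h
    simp only [List.mem_cons, List.not_mem_nil, or_false] at hr hr'
    rcases hr with rfl | rfl | rfl <;> rcases hr' with rfl | rfl | rfl <;>
      first
        | rfl
        | (simp only [hit_root1, hit_root2, hit_root3] at h; done)
        | (simp only [hit_root1, hit_root2, hit_root3] at h; omega)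
  subst hrr
  refine ⟨σ' * σ⁻¹, ?_⟩
  rw [mul_smul, inv_smul_smul]

theorem hit_ncard (c : ℕ) :
    {S : Finset (Finset GolayPt) | S ∈ sextets ∧ hit (enc.finOf Y0) S = c}.ncard =
      countBelow (fun k => Nat.beq (hitN Y0 (sxT k) 6) c) 1771 := by
  have h : {S : Finset (Finset GolayPt) | S ∈ sextets ∧ hit (enc.finOf Y0) S = c} =
      sxS '' {k | k < 1771 ∧ hitN Y0 (sxT k) 6 = c} := by
    ext S
    constructor
    · rintro ⟨h1, h2⟩
      obtain ⟨k, hk, rfl⟩ := mem_sextets_iff.1 h1
      refine ⟨k, ⟨hk, ?_⟩, rfl⟩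
      rw [← hit_table _ (famOf_sxT_card hk)]
      exact h2
    · rintro ⟨k, ⟨hk, h2⟩, rfl⟩
      refine ⟨sxS_mem_sextets hk, ?_⟩
      rw [sxS_eq, hit_table _ (famOf_sxT_card hk), h2]
  rw [h]
  exact ncard_image_filter sexTable.inj (fun k => hitN Y0 (sxT k) 6) c

theorem hit_count1 : countBelow (fun k => Nat.beq (hitN Y0 (sxT k) 6) 1) 1771 = 21 := by decide +kernel
theorem hit_count2 : countBelow (fun k => Nat.beq (hitN Y0 (sxT k) 6) 2) 1771 = 630 := by decide +kernel
theorem hit_count3 : countBelow (fun k => Nat.beq (hitN Y0 (sxT k) 6) 3) 1771 = 1120 := by decide +kernel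

theorem hit_transport (g : ↥M24) (c : ℕ) :
    {S : Finset (Finset GolayPt) | S ∈ sextets ∧ hit (g • enc.finOf Y0) S = c}.ncard =
      {S : Finset (Finset GolayPt) | S ∈ sextets ∧ hit (enc.finOf Y0) S = c}.ncard := by
  have h : {S : Finset (Finset GolayPt) | S ∈ sextets ∧ hit (g • enc.finOf Y0) S = c} =
      (fun S => g • S) '' {S : Finset (Finset GolayPt) | S ∈ sextets ∧ hit (enc.finOf Y0) S = c} := by
    ext S
    constructor
    · rintro ⟨h1, h2⟩
      refine ⟨g⁻¹ • S, ⟨smul_mem_sextets (g⁻¹).2 h1, ?_⟩, smul_inv_smul g S⟩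
      rw [← hit_smul g.1 (enc.finOf Y0) _]
      show hit _ (g • g⁻¹ • S) = c
      rw [smul_inv_smul]
      exact h2
    · rintro ⟨T, ⟨h1, h2⟩, rfl⟩
      refine ⟨smul_mem_sextets g.2 h1, ?_⟩
      have := hit_smul g.1 (enc.finOf Y0) T
      rw [h2] at this
      exact this
  rw [h, Set.ncard_image_of_injective _ (MulAction.injective g)]

end Cfsg.Agent.Lib.M24
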