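import Cfsg.Agent.Lib.M24.OrbCerts
import Cfsg.Agent.Lib.M24.Coatom2
import Cfsg.Agent.Lib.M24.SetsData
import Cfsg.Agent.Lib.M24.Y3

/-!
# The stabilisers of pairs and triples of points
-/

set_option autoImplicit false
set_option linter.constructorNameAsVariable false

namespace Cfsg.Agent.Lib.M24

open Cfsg Cfsg.Agent.Lib.Compute Cfsg.Agent.Lib.Golay
open scoped Pointwise

/-- A sorted table of all `r`-subsets. -/
theorem rsetTable {r K : ℕ} {tbl : ℕ → ℕ} (hlt : ∀ k, tbl k < 2 ^ 24)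
    (hpop : allBelow (fun k => Nat.beq (Enc.popAux (tbl k) 24) r) K = true)
    (hsort : allBelow (fun k => Nat.blt (tbl k) (tbl (k + 1))) (K - 1) = true)
    (hchoose : Nat.choose 24 r = K) :
    ZTable (Z := Finset GolayPt) {s | s.card = r} (fun k => enc.finOf (tbl k)) K (fun z => {z}) (fun k _ => tbl k) 1 := by
  classical
  have hlt' : ∀ {a b : ℕ}, a < b → b < K → tbl a < tbl b := by
    intro a b hab hb
    have step : ∀ k, k + 1 < K → tbl k < tbl (k + 1) := fun k hk => by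
      have := (allBelow_iff _ _).1 hsort k (by omega)
      simpa [Nat.blt_eq] using this
    induction b, hab using Nat.le_induction with
    | base => exact step a hb
    | succ n hn ih => exact lt_trans (ih (by omega)) (step n hb)
  have hinj : ∀ a b, a < K → b < K → (enc.finOf (tbl a) : Finset GolayPt) = enc.finOf (tbl b) → a = b := by
    intro a b ha hb h
    have h1 := enc.finOf_injOn (hlt a) (hlt b) h
    by_contra hne
    rcases Nat.lt_or_gt_of_ne hne with h2 | h2
    · have := hlt' h2 hb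
      omega
    · have := hlt' h2 ha
      omega
  have hmem : ∀ k, k < K → (enc.finOf (tbl k) : Finset GolayPt).card = r := by
    intro k hk
    rw [card_enc_finOf]
    exact Nat.eq_of_beq_eq_true ((allBelow_iff _ _).1 hpop k hk)
  have hset : (fun k => (enc.finOf (tbl k) : Finset GolayPt)) '' {k | k < K} = {s | s.card = r} := by
    apply Set.eq_of_subset_of_ncard_le
    · rintro _ ⟨k, hk, rfl⟩
      exact hmem k hk
    · have h1 : {s : Finset GolayPt | s.card = r} = ((Finset.powersetCard r Finset.univ : Finset (Finset GolayPt)) : Set (Finset GolayPt)) := by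
        ext s
        simp [Finset.mem_powersetCard]
      have h2 : (Fintype.card GolayPt) = 24 := by decide
      rw [h1, Set.ncard_coe_finset, Finset.card_powersetCard, Finset.card_univ, h2, hchoose,
        Set.InjOn.ncard_image]
      · have : {k | k < K} = ((Finset.range K : Finset ℕ) : Set ℕ) := by
          ext k
          simp
        rw [this, Set.ncard_coe_finset, Finset.card_range]
      · intro a ha b hb h
        exact hinj a b ha hb h
    · exact Set.toFinite _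
  exact
    { mem_iff := by
        intro y
        constructor
        · intro hy
          rw [← hset] at hy
          obtain ⟨k, hk, rfl⟩ := hy
          exact ⟨k, hk, rfl⟩
        · rintro ⟨k, hk, rfl⟩
          exact hmem k hk
      inv_A := fun σ y hy => by
        show (σ.1 • y).card = r
        rw [Finset.card_smul_finset]
        exact hy
      inj := fun a b ha hb h => hinj a b ha hb h
      Ψ_smul := fun σ z => by
        show ({σ.1 • z} : Finset (Finset GolayPt)) = σ.1 • {z}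
        rw [Finset.smul_finset_singleton]
      Ψ_zt := fun k _ => by
        show _ = (Finset.range 1).image _
        simp
      card := fun k _ => by
        show ((Finset.range 1).image _).card = 1
        simp
      act := by
        intro σ f hf k k' _ h
        obtain ⟨j, hj, h2⟩ := (anyBelow_iff _ _).1 ((allBelow_iff _ _).1 h 0 (by norm_num))
        show σ.1 • (enc.finOf (tbl k) : Finset GolayPt) = _
        rw [img_finOf hf, Nat.eq_of_beq_eq_true h2] }

theorem pget24_lt (d k : ℕ) : pget 24 16777215 d k < 2 ^ 24 := by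
  have h : pget 24 16777215 d k = Nat.shiftRight d (Nat.mul 24 k) &&& (2 ^ 24 - 1) := rfl
  rw [h]
  exact Nat.and_lt_two_pow _ (by norm_num)

theorem orbit_card_eq {s : Finset GolayPt} {k : ℕ} (hk : k ≤ 5) (hs : s.card = k) :
    MulAction.orbit ↥M24 s = {t | t.card = k} := by
  ext y
  constructor
  · rintro ⟨g, rfl⟩
    show (g.1 • s).card = k
    rw [Finset.card_smul_finset, hs]
  · intro hy
    obtain ⟨g, hg⟩ := exists_smul_eq_of_card hk hs hy
    exact ⟨g, hg⟩

/-! ### Pairs -/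

/-- Pair number `k`. -/
noncomputable def zs2 (k : ℕ) : ℕ := pget 24 16777215 zs2Data k

/-- The base pair. -/
abbrev P0 : ℕ := 8388609

theorem zs2Table : ZTable (Z := Finset GolayPt) {s | s.card = 2} (fun k => enc.finOf (zs2 k)) 276 (fun z => {z}) (fun k _ => zs2 k) 1 :=
  rsetTable (fun k => pget24_lt _ k) (by decide +kernel) (by decide +kernel) (by decide)

theorem zs2_chk : descChk gP2 276 (fun f k k' => famEq f (fun _ => zs2 k) (fun _ => zs2 k') 1) [253, 0, 2]
    (pget 9 511 zs2Par) (pget 1 1 zs2Gen) (pget 4 15 zs2Dist) = true := by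
  decide +kernel

theorem zs2_fix : gensFix gP2 (fun _ => P0) 1 = true := by decide +kernel

theorem zs2_nodup : (List.map (tblInv (fun _ => P0) 1 (fun k _ => zs2 k) 1) [253, 0, 2]).Nodup := by decide +kernel

theorem pair_decomp0 : OrbDecomp3 (G := ↥M24) (enc.finOf P0 : Finset GolayPt) ({s | s.card = 2} : Set (Finset GolayPt)) 1 44 231 :=
  cert3 zs2Table (octBase P0) (gens_of_fix (octBase P0) Finset.singleton_injective zs2_fix) zs2_chk (by norm_num) (by norm_num) (by norm_num) zs2_nodup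
    (by decide +kernel) (by decide +kernel) (by decide +kernel)

theorem P0_card : (enc.finOf P0 : Finset GolayPt).card = 2 := by
  rw [card_enc_finOf]
  decide +kernel

/-- The setwise stabiliser of two points is a maximal subgroup. -/
theorem pair_coatom {s : Finset GolayPt} (hs : s.card = 2) : IsCoatom (MulAction.stabilizer ↥M24 s) := by
  obtain ⟨g, rfl⟩ := exists_smul_eq_of_card (by norm_num) P0_card hs
  have hinv : ∀ (σ : ↥M24), ∀ x ∈ ({s | s.card = 2} : Set (Finset GolayPt)), σ • x ∈ ({s | s.card = 2} : Set (Finset GolayPt)) :=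
    fun σ x hx => zs2Table.inv_A σ x hx
  have h := pair_decomp0.smul hinv g
  rw [← orbit_card_eq (by norm_num) hs] at h
  exact coatom_of_decomp3 h (by norm_num) (by norm_num) (by norm_num) (by decide +kernel) (by norm_num)

/-! ### Triples -/

/-- A general form of the certificate with any invariant. -/
theorem cert_main_inv {W Z : Type*} [MulAction ↥M24 W] [MulAction ↥M24 Z] {A : Set Z} {zt : ℕ → Z} {K : ℕ}
    {Ψ : Z → Finset (Finset GolayPt)} {T : ℕ → ℕ → ℕ} {n : ℕ} {x₀ : W}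
    (ht : ZTable A zt K Ψ T n) {gens roots : List ℕ} {par gen dist : ℕ → ℕ} {inv : ℕ → ℕ}
    (hgens : ∀ p ∈ gens, ∃ hv : vld p = true, gOf hv • x₀ = x₀)
    (h : descChk gens K (fun f k k' => famEq f (T k) (T k') n) roots par gen dist = true)
    (hroots : ∀ r ∈ roots, r < K)
    (hdist : ∀ r ∈ roots, ∀ r' ∈ roots, inv r = inv r' → r = r')
    (hinv : ∀ (σ : ↥(MulAction.stabilizer ↥M24 x₀)) k k', k < K → k' < K → σ • zt k = zt k' → inv k = inv k') :
    (∀ k, k < K → ∃ r ∈ roots, ∃ σ : ↥(MulAction.stabilizer ↥M24 x₀), σ • zt k = zt r) ∧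
    (∀ r ∈ roots, (MulAction.orbit ↥(MulAction.stabilizer ↥M24 x₀) (zt r)).ncard =
        countBelow (fun k => Nat.beq (inv k) (inv r)) K) ∧
      (∀ y, y ∈ A ↔ ∃ r ∈ roots, y ∈ MulAction.orbit ↥(MulAction.stabilizer ↥M24 x₀) (zt r)) := by
  have hdesc := descent_root (x₀ := x₀) (zt := zt) (K := K) (act := fun f k k' => famEq f (T k) (T k') n)
    (fun σ f hf k k' hk hh => ht.act σ f hf k k' hk hh) hgens h
  have hclosed : ∀ (σ : ↥(MulAction.stabilizer ↥M24 x₀)) k, k < K → ∃ k', k' < K ∧ σ • zt k = zt k' := by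
    intro σ k hk
    exact (ht.mem_iff _).1 (ht.inv_A σ.1 _ ((ht.mem_iff _).2 ⟨k, hk, rfl⟩))
  refine ⟨hdesc, fun r hr => ?_, fun y => ⟨fun hy => ?_, ?_⟩⟩
  · rw [orbit_eq_of_inv hclosed hinv hdesc hroots hdist hr, ncard_image_filter ht.inj]
  · obtain ⟨k, hk, rfl⟩ := (ht.mem_iff _).1 hy
    obtain ⟨r, hr, σ, hσ⟩ := hdesc k hk
    refine ⟨r, hr, σ⁻¹, ?_⟩
    show σ⁻¹ • zt r = zt k
    rw [← hσ, inv_smul_smul]
  · rintro ⟨r, hr, σ, rfl⟩
    exact ht.inv_A σ.1 _ ((ht.mem_iff _).2 ⟨r, hroots r hr, rfl⟩)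

/-- Two sets lie in a common octad. -/
def inO (T U : Finset GolayPt) : Prop := ∃ o ∈ octads, T ∪ U ⊆ o

theorem inO_smul (g : ↥M24) (T U : Finset GolayPt) : inO (g • T) (g • U) ↔ inO T U := by
  have key : ∀ (g : ↥M24) (T U : Finset GolayPt), inO T U → inO (g • T) (g • U) := by
    rintro g T U ⟨o, ho, hs⟩
    refine ⟨g • o, smul_mem_octads g.2 ho, ?_⟩
    show g.1 • T ∪ g.1 • U ⊆ g.1 • o
    rw [← Finset.smul_finset_union]
    exact Finset.smul_finset_subset_smul_finset_iff.2 hs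
  refine ⟨fun h => ?_, key g T U⟩
  have h1 := key g⁻¹ _ _ h
  rwa [inv_smul_smul, inv_smul_smul] at h1

theorem inO_table (a b : ℕ) (ha : a < 2 ^ 24) (hb : b < 2 ^ 24) :
    inO (enc.finOf a) (enc.finOf b) ↔
      anyBelow (fun j => Nat.beq (Nat.land (ocT j) (Nat.lor a b)) (Nat.lor a b)) 759 = true := by
  rw [anyBelow_iff]
  have hor : (enc.finOf a ∪ enc.finOf b : Finset GolayPt) = enc.finOf (Nat.lor a b) := (enc.finOf_or _ _).symm
  have hlt : Nat.lor a b < 2 ^ 24 := Nat.or_lt_two_pow ha hb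
  constructor
  · rintro ⟨o, ho, hs⟩
    obtain ⟨j, hj, rfl⟩ := mem_octads_table.1 ho
    refine ⟨j, hj, ?_⟩
    rw [hor] at hs
    have h1 : (enc.finOf (Nat.land (ocT j) (Nat.lor a b)) : Finset GolayPt) = enc.finOf (Nat.lor a b) := by
      show (enc.finOf (ocT j &&& Nat.lor a b) : Finset GolayPt) = _
      rw [enc.finOf_and]
      exact Finset.inter_eq_right.2 hs
    have h2 : Nat.land (ocT j) (Nat.lor a b) = Nat.lor a b := enc.finOf_injOn (lt_of_le_of_lt Nat.and_le_right hlt) hlt h1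
    rw [h2]
    exact Nat.beq_refl _
  · rintro ⟨j, hj, h⟩
    refine ⟨enc.finOf (ocT j), oc_mem hj, ?_⟩
    rw [hor]
    have h1 := Nat.eq_of_beq_eq_true h
    have h2 : (enc.finOf (ocT j) ∩ enc.finOf (Nat.lor a b) : Finset GolayPt) = enc.finOf (Nat.lor a b) := by
      rw [← enc.finOf_and]
      exact congrArg _ h1
    exact Finset.inter_eq_right.1 h2

/-- Triple number `k`. -/
noncomputable def zs3 (k : ℕ) : ℕ := pget 24 16777215 zs3Data k

theorem zs3Table : ZTable (Z := Finset GolayPt) {s | s.card = 3} (fun k => enc.finOf (zs3 k)) 2024 (fun z => {z}) (fun k _ => zs3 k) 1 :=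
  rsetTable (fun k => pget24_lt _ k) (by decide +kernel) (by decide +kernel) (by decide)

theorem zs3_chk : descChk gY 2024 (fun f k k' => famEq f (fun _ => zs3 k) (fun _ => zs3 k') 1) [1771, 0, 15, 2, 9]
    (pget 11 2047 zs3Par) (pget 2 3 zs3Gen) (pget 3 7 zs3Dist) = true := by
  decide +kernel

/-- The invariant of a triple. -/
noncomputable def inv3 (k : ℕ) : ℕ :=
  Nat.add (Enc.popAux (Nat.land Y0 (zs3 k)) 24)
    (Nat.mul 8 (bcond (anyBelow (fun j => Nat.beq (Nat.land (ocT j) (Nat.lor Y0 (zs3 k))) (Nat.lor Y0 (zs3 k))) 759) 1 0))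

open scoped Classical in
theorem inv3_eq (k : ℕ) : inv3 k = ((enc.finOf Y0 : Finset GolayPt) ∩ enc.finOf (zs3 k)).card +
    8 * (if inO (enc.finOf Y0) (enc.finOf (zs3 k)) then 1 else 0) := by
  have h1 := inO_table Y0 (zs3 k) (by norm_num) (pget24_lt _ k)
  have h2 : ((enc.finOf Y0 : Finset GolayPt) ∩ enc.finOf (zs3 k)).card = Enc.popAux (Nat.land Y0 (zs3 k)) 24 := by
    rw [show (enc.finOf Y0 ∩ enc.finOf (zs3 k) : Finset GolayPt) = enc.finOf (Nat.land Y0 (zs3 k)) from (enc.finOf_and _ _).symm,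
      card_enc_finOf]
  have h0 : inv3 k = Enc.popAux (Nat.land Y0 (zs3 k)) 24 +
      8 * bcond (anyBelow (fun j => Nat.beq (Nat.land (ocT j) (Nat.lor Y0 (zs3 k))) (Nat.lor Y0 (zs3 k))) 759) 1 0 := rfl
  rw [h0, h2]
  by_cases h3 : inO (enc.finOf Y0) (enc.finOf (zs3 k))
  · rw [if_pos h3, h1.1 h3]
    rfl
  · rw [if_neg h3]
    have h4 : anyBelow (fun j => Nat.beq (Nat.land (ocT j) (Nat.lor Y0 (zs3 k))) (Nat.lor Y0 (zs3 k))) 759 = false := by
      cases h5 : anyBelow (fun j => Nat.beq (Nat.land (ocT j) (Nat.lor Y0 (zs3 k))) (Nat.lor Y0 (zs3 k))) 759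
      · rfl
      · exact absurd (h1.2 h5) h3
    rw [h4]
    rfl

theorem zs3_inv_smul (σ : ↥(MulAction.stabilizer ↥M24 (enc.finOf Y0 : Finset GolayPt))) (k k' : ℕ)
    (h : σ • (enc.finOf (zs3 k) : Finset GolayPt) = enc.finOf (zs3 k')) : inv3 k = inv3 k' := by
  have h0 : (σ : ↥M24) • (enc.finOf Y0 : Finset GolayPt) = enc.finOf Y0 := σ.2
  have h1 : ((σ : ↥M24) • (enc.finOf (zs3 k) : Finset GolayPt)) = enc.finOf (zs3 k') := h
  rw [inv3_eq, inv3_eq, ← h1]
  have h2 := inO_smul (σ : ↥M24) (enc.finOf Y0) (enc.finOf (zs3 k))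
  rw [h0] at h2
  have h3 : ((enc.finOf Y0 : Finset GolayPt) ∩ (σ : ↥M24) • enc.finOf (zs3 k)).card = ((enc.finOf Y0 : Finset GolayPt) ∩ enc.finOf (zs3 k)).card := by
    have h30 : (((σ : ↥M24) • (enc.finOf Y0 : Finset GolayPt)) ∩ (σ : ↥M24) • enc.finOf (zs3 k)).card = ((enc.finOf Y0 : Finset GolayPt) ∩ enc.finOf (zs3 k)).card := by
      show ((σ : ↥M24).1 • (enc.finOf Y0 : Finset GolayPt) ∩ (σ : ↥M24).1 • (enc.finOf (zs3 k) : Finset GolayPt)).card = _
      rw [← Finset.smul_finset_inter, Finset.card_smul_finset]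
    rwa [h0] at h30
  rw [h3]
  by_cases h5 : inO (enc.finOf Y0) (enc.finOf (zs3 k))
  · rw [if_pos h5, if_pos (h2.2 h5)]
  · rw [if_neg h5, if_neg (fun h => h5 (h2.1 h))]

theorem zs3_nodup : (List.map inv3 [1771, 0, 15, 2, 9]).Nodup := by decide +kernel

theorem zs3_main :
    (∀ k, k < 2024 → ∃ r ∈ [1771, 0, 15, 2, 9], ∃ σ : ↥(MulAction.stabilizer ↥M24 (enc.finOf Y0 : Finset GolayPt)),
      σ • (enc.finOf (zs3 k) : Finset GolayPt) = enc.finOf (zs3 r)) ∧
    (∀ r ∈ [1771, 0, 15, 2, 9], (MulAction.orbit ↥(MulAction.stabilizer ↥M24 (enc.finOf Y0 : Finset GolayPt)) (enc.finOf (zs3 r) : Finset GolayPt)).ncard =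
        countBelow (fun k => Nat.beq (inv3 k) (inv3 r)) 2024) ∧
      (∀ y : Finset GolayPt, y ∈ ({s | s.card = 3} : Set (Finset GolayPt)) ↔ ∃ r ∈ [1771, 0, 15, 2, 9],
        y ∈ MulAction.orbit ↥(MulAction.stabilizer ↥M24 (enc.finOf Y0 : Finset GolayPt)) (enc.finOf (zs3 r) : Finset GolayPt)) :=
  cert_main_inv (x₀ := (enc.finOf Y0 : Finset GolayPt)) (inv := inv3) zs3Table (gens_of_fix (octBase Y0) Finset.singleton_injective y_fix) zs3_chk
    (by
      intro r hr
      simp only [List.mem_cons, List.not_mem_nil, or_false] at hr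
      rcases hr with rfl | rfl | rfl | rfl | rfl <;> norm_num)
    (fun r hr r' hr' he => (List.inj_on_of_nodup_map zs3_nodup) hr hr' he)
    (fun σ k k' _ _ h => zs3_inv_smul σ k k' h)

theorem zs3_count : (countBelow (fun k => Nat.beq (inv3 k) (inv3 1771)) 2024 = 1) ∧
    (countBelow (fun k => Nat.beq (inv3 k) (inv3 0)) 2024 = 63) ∧
    (countBelow (fun k => Nat.beq (inv3 k) (inv3 15)) 2024 = 210) ∧
    (countBelow (fun k => Nat.beq (inv3 k) (inv3 2)) 2024 = 630) ∧
    (countBelow (fun k => Nat.beq (inv3 k) (inv3 9)) 2024 = 1120) := by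
  decide +kernel

theorem triple_decomp0 : OrbDecomp5 (G := ↥M24) (enc.finOf Y0 : Finset GolayPt) ({s | s.card = 3} : Set (Finset GolayPt)) 1 63 210 630 1120 := by
  obtain ⟨_, hc, hu⟩ := zs3_main
  obtain ⟨c1, c2, c3, c4, c5⟩ := zs3_count
  have hr : ∀ r ∈ [1771, 0, 15, 2, 9], r < 2024 := by decide
  have hin : ∀ r ∈ [1771, 0, 15, 2, 9], (enc.finOf (zs3 r) : Finset GolayPt) ∈ ({s | s.card = 3} : Set (Finset GolayPt)) :=
    fun r hrr => (zs3Table.mem_iff _).2 ⟨r, hr r hrr, rfl⟩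
  refine ⟨_, hin 1771 (by simp), _, hin 0 (by simp), _, hin 15 (by simp), _, hin 2 (by simp), _, hin 9 (by simp), ?_, ?_, ?_, ?_, ?_, ?_⟩
  · rw [hc _ (by simp), c1]
  · rw [hc _ (by simp), c2]
  · rw [hc _ (by simp), c3]
  · rw [hc _ (by simp), c4]
  · rw [hc _ (by simp), c5]
  · ext y
    rw [hu y]
    simp only [List.mem_cons, List.not_mem_nil, or_false, exists_eq_or_imp, exists_eq_left, Set.mem_union, or_assoc]

/-- The setwise stabiliser of three points is a maximal subgroup. -/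
theorem triple_coatom {s : Finset GolayPt} (hs : s.card = 3) : IsCoatom (MulAction.stabilizer ↥M24 s) := by
  obtain ⟨g, rfl⟩ := exists_smul_eq_of_card (by norm_num) Y0_card hs
  have hinv : ∀ (σ : ↥M24), ∀ x ∈ ({s | s.card = 3} : Set (Finset GolayPt)), σ • x ∈ ({s | s.card = 3} : Set (Finset GolayPt)) :=
    fun σ x hx => zs3Table.inv_A σ x hx
  have h := triple_decomp0.smul hinv g
  rw [← orbit_card_eq (by norm_num) hs] at h
  exact coatom_of_decomp5 h (by decide) (by decide +kernel) (by norm_num)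

/-! ### Triads -/

theorem zs3_count8 : countBelow (fun k => Nat.beq (inv3 k) 8) 2024 = 210 := by decide +kernel
theorem zs3_count0 : countBelow (fun k => Nat.beq (inv3 k) 0) 2024 = 1120 := by decide +kernel

theorem card_inter_le_three (k : ℕ) :
    ((enc.finOf Y0 : Finset GolayPt) ∩ enc.finOf (zs3 k)).card ≤ 3 := by
  have h1 := Finset.card_le_card (Finset.inter_subset_left (s₁ := (enc.finOf Y0 : Finset GolayPt)) (s₂ := enc.finOf (zs3 k)))
  rwa [Y0_card] at h1

open scoped Classical in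
theorem inv3_eq8 {k : ℕ} :
    (Disjoint (enc.finOf Y0 : Finset GolayPt) (enc.finOf (zs3 k)) ∧ inO (enc.finOf Y0) (enc.finOf (zs3 k))) ↔ inv3 k = 8 := by
  rw [inv3_eq, Finset.disjoint_iff_inter_eq_empty, ← Finset.card_eq_zero]
  have h3 := card_inter_le_three k
  by_cases h : inO (enc.finOf Y0) (enc.finOf (zs3 k))
  · rw [if_pos h]
    constructor
    · rintro ⟨a, _⟩
      omega
    · intro h5
      exact ⟨by omega, h⟩
  · rw [if_neg h]
    constructor
    · rintro ⟨_, b⟩
      exact absurd b h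
    · intro h5
      omega

open scoped Classical in
theorem inv3_eq0 {k : ℕ} :
    (Disjoint (enc.finOf Y0 : Finset GolayPt) (enc.finOf (zs3 k)) ∧ ¬ inO (enc.finOf Y0) (enc.finOf (zs3 k))) ↔ inv3 k = 0 := by
  rw [inv3_eq, Finset.disjoint_iff_inter_eq_empty, ← Finset.card_eq_zero]
  have h3 := card_inter_le_three k
  by_cases h : inO (enc.finOf Y0) (enc.finOf (zs3 k))
  · rw [if_pos h]
    constructor
    · rintro ⟨_, b⟩
      exact absurd h b
    · intro h5
      omega
  · rw [if_neg h]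
    constructor
    · rintro ⟨a, _⟩
      omega
    · intro h5
      exact ⟨by omega, h⟩

theorem disjoint_smul (g : ↥M24) (T U : Finset GolayPt) : Disjoint (g • T) (g • U) ↔ Disjoint T U := by
  show Disjoint (g.1 • T) (g.1 • U) ↔ _
  rw [Finset.disjoint_iff_inter_eq_empty, Finset.disjoint_iff_inter_eq_empty, ← Finset.smul_finset_inter,
    Finset.smul_finset_eq_empty]

/-- Orbits of a triad stabiliser on the triads disjoint from it. -/
theorem triad_orbits {T : Finset GolayPt} (hT : T.card = 3) :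
    {U : Finset GolayPt | U.card = 3 ∧ Disjoint T U ∧ (∃ o ∈ octads, T ∪ U ⊆ o)}.ncard = 210 ∧
    {U : Finset GolayPt | U.card = 3 ∧ Disjoint T U ∧ ¬ (∃ o ∈ octads, T ∪ U ⊆ o)}.ncard = 1120 ∧
    ∀ U U' : Finset GolayPt, U.card = 3 → U'.card = 3 → Disjoint T U → Disjoint T U' →
      ((∃ o ∈ octads, T ∪ U ⊆ o) ↔ (∃ o ∈ octads, T ∪ U' ⊆ o)) →
      ∃ g : Equiv.Perm GolayPt, g ∈ M24 ∧ g • T = T ∧ g • U = U' := by
  obtain ⟨g, rfl⟩ := exists_smul_eq_of_card (by norm_num) Y0_card hT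
  have hcardS : ∀ (g : ↥M24) (U : Finset GolayPt), (g • U).card = U.card := fun g U => Finset.card_smul_finset g.1 U
  refine ⟨?_, ?_, ?_⟩
  · have h1 : {U : Finset GolayPt | U.card = 3 ∧ Disjoint (g • (enc.finOf Y0 : Finset GolayPt)) U ∧ inO (g • enc.finOf Y0) U} =
        (fun y => g • y) '' {U | U ∈ ({s | s.card = 3} : Set (Finset GolayPt)) ∧ (Disjoint (enc.finOf Y0 : Finset GolayPt) U ∧ inO (enc.finOf Y0) U)} := by
      ext y
      constructor
      · rintro ⟨h1, h2, h3⟩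
        refine ⟨g⁻¹ • y, ⟨(hcardS _ _).trans h1, ?_, ?_⟩, smul_inv_smul g y⟩
        · rw [← disjoint_smul g, smul_inv_smul]
          exact h2
        · rw [← inO_smul g, smul_inv_smul]
          exact h3
      · rintro ⟨z, ⟨h1, h2, h3⟩, rfl⟩
        exact ⟨(hcardS _ _).trans h1, (disjoint_smul g _ _).2 h2, (inO_smul g _ _).2 h3⟩
    show {U : Finset GolayPt | U.card = 3 ∧ Disjoint (g • (enc.finOf Y0 : Finset GolayPt)) U ∧ inO (g • enc.finOf Y0) U}.ncard = 210
    rw [h1, Set.ncard_image_of_injective _ (MulAction.injective g),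
      ncard_table (fun _ => zs3Table.mem_iff _) zs3Table.inj _ (fun k => Nat.beq (inv3 k) 8), zs3_count8]
    intro k hk
    rw [inv3_eq8]
    exact ⟨fun h => by rw [h]; rfl, Nat.eq_of_beq_eq_true⟩
  · have h1 : {U : Finset GolayPt | U.card = 3 ∧ Disjoint (g • (enc.finOf Y0 : Finset GolayPt)) U ∧ ¬ inO (g • enc.finOf Y0) U} =
        (fun y => g • y) '' {U | U ∈ ({s | s.card = 3} : Set (Finset GolayPt)) ∧ (Disjoint (enc.finOf Y0 : Finset GolayPt) U ∧ ¬ inO (enc.finOf Y0) U)} := by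
      ext y
      constructor
      · rintro ⟨h1, h2, h3⟩
        refine ⟨g⁻¹ • y, ⟨(hcardS _ _).trans h1, ?_, ?_⟩, smul_inv_smul g y⟩
        · rw [← disjoint_smul g, smul_inv_smul]
          exact h2
        · rw [← inO_smul g, smul_inv_smul]
          exact h3
      · rintro ⟨z, ⟨h1, h2, h3⟩, rfl⟩
        exact ⟨(hcardS _ _).trans h1, (disjoint_smul g _ _).2 h2, fun h4 => h3 ((inO_smul g _ _).1 h4)⟩
    show {U : Finset GolayPt | U.card = 3 ∧ Disjoint (g • (enc.finOf Y0 : Finset GolayPt)) U ∧ ¬ inO (g • enc.finOf Y0) U}.ncard = 1120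
    rw [h1, Set.ncard_image_of_injective _ (MulAction.injective g),
      ncard_table (fun _ => zs3Table.mem_iff _) zs3Table.inj _ (fun k => Nat.beq (inv3 k) 0), zs3_count0]
    intro k hk
    rw [inv3_eq0]
    exact ⟨fun h => by rw [h]; rfl, Nat.eq_of_beq_eq_true⟩
  · intro U U' hU hU' hd hd' hi
    have hi' : inO (g • (enc.finOf Y0 : Finset GolayPt)) U ↔ inO (g • (enc.finOf Y0 : Finset GolayPt)) U' := hi
    obtain ⟨k, hk, hke⟩ := (zs3Table.mem_iff (g⁻¹ • U)).1 ((hcardS _ _).trans hU)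
    obtain ⟨k', hk', hke'⟩ := (zs3Table.mem_iff (g⁻¹ • U')).1 ((hcardS _ _).trans hU')
    have h1 : Disjoint (enc.finOf Y0 : Finset GolayPt) (enc.finOf (zs3 k)) := by
      rw [← hke, ← disjoint_smul g, smul_inv_smul]
      exact hd
    have h1' : Disjoint (enc.finOf Y0 : Finset GolayPt) (enc.finOf (zs3 k')) := by
      rw [← hke', ← disjoint_smul g, smul_inv_smul]
      exact hd'
    have h2 : inO (enc.finOf Y0) (enc.finOf (zs3 k)) ↔ inO (g • (enc.finOf Y0 : Finset GolayPt)) U := by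
      rw [← hke, ← inO_smul g, smul_inv_smul]
    have h2' : inO (enc.finOf Y0) (enc.finOf (zs3 k')) ↔ inO (g • (enc.finOf Y0 : Finset GolayPt)) U' := by
      rw [← hke', ← inO_smul g, smul_inv_smul]
    have hinv : inv3 k = inv3 k' := by
      by_cases h3 : inO (g • (enc.finOf Y0 : Finset GolayPt)) U
      · rw [(inv3_eq8).1 ⟨h1, h2.2 h3⟩, (inv3_eq8).1 ⟨h1', h2'.2 (hi'.1 h3)⟩]
      · rw [(inv3_eq0).1 ⟨h1, fun h4 => h3 (h2.1 h4)⟩, (inv3_eq0).1 ⟨h1', fun h4 => h3 (hi'.2 (h2'.1 h4))⟩]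
    obtain ⟨hd0, _, _⟩ := zs3_main
    obtain ⟨r, hr, σ, hσ⟩ := hd0 k hk
    obtain ⟨r', hr', σ', hσ'⟩ := hd0 k' hk'
    have e1 := zs3_inv_smul σ k r hσ
    have e2 := zs3_inv_smul σ' k' r' hσ'
    have hrr : r = r' := (List.inj_on_of_nodup_map zs3_nodup) hr hr' (by rw [← e1, ← e2, hinv])
    subst hrr
    let τ : ↥M24 := g * ((σ' : ↥M24)⁻¹ * (σ : ↥M24)) * g⁻¹
    refine ⟨τ.1, τ.2, ?_, ?_⟩
    · show τ • (g • (enc.finOf Y0 : Finset GolayPt)) = g • (enc.finOf Y0 : Finset GolayPt)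
      have h0 : (σ : ↥M24) • (enc.finOf Y0 : Finset GolayPt) = enc.finOf Y0 := σ.2
      have h0' : (σ' : ↥M24) • (enc.finOf Y0 : Finset GolayPt) = enc.finOf Y0 := σ'.2
      show (g * ((σ' : ↥M24)⁻¹ * (σ : ↥M24)) * g⁻¹) • (g • (enc.finOf Y0 : Finset GolayPt)) = _
      rw [mul_smul, inv_smul_smul, mul_smul, mul_smul, h0, inv_smul_eq_iff.2 h0'.symm]
    · show τ • U = U'
      show (g * ((σ' : ↥M24)⁻¹ * (σ : ↥M24)) * g⁻¹) • U = U'
      have h5 : (σ : ↥M24) • (enc.finOf (zs3 k) : Finset GolayPt) = enc.finOf (zs3 r) := hσ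
      have h5' : (σ' : ↥M24) • (enc.finOf (zs3 k') : Finset GolayPt) = enc.finOf (zs3 r) := hσ'
      rw [mul_smul, mul_smul, mul_smul, hke, h5, ← h5', inv_smul_smul, ← hke', smul_inv_smul]

end Cfsg.Agent.Lib.M24
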