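import Cfsg.Agent.Lib.M24.Six
import Cfsg.Agent.Lib.M24.Data
import Cfsg.Agent.Lib.Steiner.Numbers
import Cfsg.Prelude.Def_SporadicCombinatorics

/-!
# Sextets and trios: tables and counting
-/

set_option autoImplicit false
set_option linter.constructorNameAsVariable false

namespace Cfsg.Agent.Lib.M24

open Cfsg Cfsg.Agent.Lib.Compute Cfsg.Agent.Lib.Golay
open scoped Pointwise

/-! ### The action on octads, sextets, trios -/

theorem smul_finset_eq_image (σ : Equiv.Perm GolayPt) (s : Finset GolayPt) : σ • s = s.image σ := rfl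

theorem smul_mem_octads {σ : Equiv.Perm GolayPt} (hσ : σ ∈ M24) {o : Finset GolayPt}
    (ho : o ∈ octads) : σ • o ∈ octads := image_mem_octads hσ ho

theorem smul_mem_dodecads {σ : Equiv.Perm GolayPt} (hσ : σ ∈ M24) {o : Finset GolayPt}
    (ho : o ∈ dodecads) : σ • o ∈ dodecads := image_mem_dodecads hσ ho

theorem smul_mem_sextets {σ : Equiv.Perm GolayPt} (hσ : σ ∈ M24) {S : Finset (Finset GolayPt)}
    (hS : S ∈ sextets) : σ • S ∈ sextets := by
  obtain ⟨h1, h2, h3⟩ := hS
  refine ⟨by rw [Finset.card_smul_finset, h1], fun t ht => ?_, fun t ht u hu hne => ?_⟩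
  · obtain ⟨a, ha, rfl⟩ := Finset.mem_smul_finset.1 ht
    rw [Finset.card_smul_finset]
    exact h2 a ha
  · obtain ⟨a, ha, rfl⟩ := Finset.mem_smul_finset.1 ht
    obtain ⟨b, hb, rfl⟩ := Finset.mem_smul_finset.1 hu
    rw [← Finset.smul_finset_union]
    exact smul_mem_octads hσ (h3 a ha b hb fun e => hne (by rw [e]))

theorem smul_mem_trios {σ : Equiv.Perm GolayPt} (hσ : σ ∈ M24) {T : Finset (Finset GolayPt)}
    (hT : T ∈ trios) : σ • T ∈ trios := by
  obtain ⟨h1, h2, h3⟩ := hT
  refine ⟨by rw [Finset.card_smul_finset, h1], fun t ht => ?_, fun t ht u hu hne => ?_⟩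
  · obtain ⟨a, ha, rfl⟩ := Finset.mem_smul_finset.1 ht
    exact smul_mem_octads hσ (h2 a ha)
  · obtain ⟨a, ha, rfl⟩ := Finset.mem_smul_finset.1 ht
    obtain ⟨b, hb, rfl⟩ := Finset.mem_smul_finset.1 hu
    have h4 := h3 a ha b hb fun e => hne (by rw [e])
    exact (Finset.disjoint_image σ.injective).2 h4

/-! ### Abstract facts on sextets -/

theorem sextet_disjoint {S : Finset (Finset GolayPt)} (hS : S ∈ sextets) {t u : Finset GolayPt}
    (ht : t ∈ S) (hu : u ∈ S) (hne : t ≠ u) : Disjoint t u := by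
  obtain ⟨_, h2, h3⟩ := hS
  have h8 := octads_card (h3 t ht u hu hne)
  rw [← Finset.card_union_eq_card_add_card, h8, h2 t ht, h2 u hu]

theorem sextet_cover {S : Finset (Finset GolayPt)} (hS : S ∈ sextets) (x : GolayPt) :
    ∃ t ∈ S, x ∈ t := by
  have h1 : (S.biUnion fun t => t).card = 24 := by
    rw [Finset.card_biUnion (fun t ht u hu hne => sextet_disjoint hS ht hu hne)]
    rw [Finset.sum_congr rfl fun t ht => hS.2.1 t ht, Finset.sum_const, hS.1]
    rfl
  have h2 : (S.biUnion fun t => t) = Finset.univ :=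
    Finset.eq_univ_of_card _ (by rw [h1]; decide)
  have h3 : x ∈ S.biUnion fun t => t := by rw [h2]; exact Finset.mem_univ x
  obtain ⟨t, ht, hx⟩ := Finset.mem_biUnion.1 h3
  exact ⟨t, ht, hx⟩

/-- A sextet is determined by any of its tetrads. -/
theorem sextet_sub_of_mem {S S' : Finset (Finset GolayPt)} (hS : S ∈ sextets) (hS' : S' ∈ sextets)
    {t : Finset GolayPt} (ht : t ∈ S) (ht' : t ∈ S') : S' ⊆ S := by
  intro u' hu'
  by_cases h0 : u' = t
  · rw [h0]; exact ht
  have hne : t ≠ u' := fun e => h0 e.symm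
  have hd' := sextet_disjoint hS' ht' hu' hne
  have hcard' : u'.card = 4 := hS'.2.1 u' hu'
  obtain ⟨x, hx⟩ : u'.Nonempty := Finset.card_pos.1 (by omega)
  obtain ⟨u, hu, hxu⟩ := sextet_cover hS x
  by_cases h1 : t = u
  · subst h1
    exact absurd hxu (Finset.disjoint_right.1 hd' hx)
  · have hoct := hS.2.2 t ht u hu h1
    have hoct' := hS'.2.2 t ht' u' hu' hne
    have hd := sextet_disjoint hS ht hu h1
    have heq : t ∪ u = t ∪ u' := by
      by_contra hn
      have h2 := card_inter_octads_le hoct hoct' hn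
      have h3 : insert x t ⊆ (t ∪ u) ∩ (t ∪ u') := by
        intro y hy
        rcases Finset.mem_insert.1 hy with rfl | hy
        · exact Finset.mem_inter.2 ⟨Finset.mem_union_right _ hxu, Finset.mem_union_right _ hx⟩
        · exact Finset.mem_inter.2 ⟨Finset.mem_union_left _ hy, Finset.mem_union_left _ hy⟩
      have h4 := Finset.card_le_card h3
      rw [Finset.card_insert_of_notMem (Finset.disjoint_right.1 hd hxu), hS.2.1 t ht] at h4
      omega
    have h5 : u = u' := by
      ext y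
      constructor
      · intro hy
        have : y ∈ t ∪ u' := by rw [← heq]; exact Finset.mem_union_right _ hy
        rcases Finset.mem_union.1 this with h | h
        · exact absurd hy (Finset.disjoint_left.1 hd h)
        · exact h
      · intro hy
        have : y ∈ t ∪ u := by rw [heq]; exact Finset.mem_union_right _ hy
        rcases Finset.mem_union.1 this with h | h
        · exact absurd hy (Finset.disjoint_left.1 hd' h)
        · exact h
    rw [← h5]
    exact hu

theorem sextet_eq_of_mem {S S' : Finset (Finset GolayPt)} (hS : S ∈ sextets) (hS' : S' ∈ sextets)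
    {t : Finset GolayPt} (ht : t ∈ S) (ht' : t ∈ S') : S = S' :=
  (sextet_sub_of_mem hS' hS ht' ht).antisymm (sextet_sub_of_mem hS hS' ht ht')

/-! ### The sextet table -/

/-- Mask `j` of sextet `k`. -/
noncomputable def sxT (k j : ℕ) : ℕ := pget 24 16777215 sxData (Nat.add (Nat.mul 6 k) j)

/-- Sextet `k`. -/
noncomputable def sxS (k : ℕ) : Finset (Finset GolayPt) :=
  (Finset.range 6).image fun j => enc.finOf (sxT k j)

theorem sxT_lt (k j : ℕ) : sxT k j < 2 ^ 24 := by
  have h : sxT k j = Nat.shiftRight sxData (Nat.mul 24 (Nat.add (Nat.mul 6 k) j)) &&& (2 ^ 24 - 1) := rfl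
  rw [h]
  exact Nat.and_lt_two_pow _ (by norm_num)

/-- The validity check of an entry. -/
noncomputable def sxValid (k : ℕ) : Bool :=
  allBelow (fun i => Nat.beq (Enc.popAux (sxT k i) 24) 4 && Nat.ble (sxT k 0) (sxT k i) &&
    allBelow (fun j => (fun m => inCode m && Nat.beq (Enc.popAux m 24) 8) (Nat.lor (sxT k j) (sxT k i))) i) 6

theorem sx_check1 : allBelow sxValid 1771 = true := by decide +kernel

theorem sx_sorted : allBelow (fun k => Nat.blt (sxT k 0) (sxT (k + 1) 0)) 1770 = true := by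
  decide +kernel

theorem sx_lt_of_lt {a b : ℕ} (hab : a < b) (hb : b < 1771) : sxT a 0 < sxT b 0 := by
  have step : ∀ k, k + 1 < 1771 → sxT k 0 < sxT (k + 1) 0 := fun k hk => by
    have := (allBelow_iff _ _).1 sx_sorted k (by omega)
    simpa [Nat.blt_eq] using this
  induction b, hab using Nat.le_induction with
  | base => exact step a hb
  | succ n hn ih => exact lt_trans (ih (by omega)) (step n hb)

theorem sxS_mem_iff {k : ℕ} {t : Finset GolayPt} :
    t ∈ sxS k ↔ ∃ j, j < 6 ∧ enc.finOf (sxT k j) = t := by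
  simp [sxS]

theorem sxT_inj {a b i j : ℕ} (h : enc.finOf (sxT a i) = enc.finOf (sxT b j)) : sxT a i = sxT b j :=
  enc.finOf_injOn (sxT_lt _ _) (sxT_lt _ _) h

theorem sx_spec {k : ℕ} (hk : k < 1771) {i : ℕ} (hi : i < 6) :
    Enc.popAux (sxT k i) 24 = 4 ∧ sxT k 0 ≤ sxT k i ∧ ∀ j, j < i →
      wordOf (Nat.lor (sxT k j) (sxT k i)) ∈ golayCode ∧ Enc.popAux (Nat.lor (sxT k j) (sxT k i)) 24 = 8 := by
  have h := (allBelow_iff _ _).1 ((allBelow_iff _ _).1 sx_check1 k hk) i hi
  simp only [Bool.and_eq_true] at h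
  refine ⟨Nat.eq_of_beq_eq_true h.1.1, Nat.le_of_ble_eq_true h.1.2, fun j hj => ?_⟩
  have h2 := (allBelow_iff _ _).1 h.2 j hj
  simp only [Bool.and_eq_true] at h2
  exact ⟨mem_of_inCode h2.1, Nat.eq_of_beq_eq_true h2.2⟩

theorem sx_union_octad {k : ℕ} (hk : k < 1771) {i j : ℕ} (hi : i < 6) (hj : j < i) :
    enc.finOf (sxT k j) ∪ enc.finOf (sxT k i) ∈ octads := by
  obtain ⟨_, _, h3⟩ := sx_spec hk hi
  obtain ⟨h4, h5⟩ := h3 j hj
  have h6 : enc.finOf (sxT k j) ∪ enc.finOf (sxT k i) = enc.finOf (Nat.lor (sxT k j) (sxT k i)) :=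
    (enc.finOf_or _ _).symm
  rw [h6]
  exact ⟨⟨_, h4, support_wordOf _⟩, by rw [card_enc_finOf, h5]⟩

theorem sxS_mem_sextets {k : ℕ} (hk : k < 1771) : sxS k ∈ sextets := by
  have hcard : ∀ i, i < 6 → (enc.finOf (sxT k i)).card = 4 := fun i hi => by
    rw [card_enc_finOf]
    exact (sx_spec hk hi).1
  have hun : ∀ i j, i < 6 → j < 6 → i ≠ j →
      enc.finOf (sxT k i) ∪ enc.finOf (sxT k j) ∈ octads := by
    intro i j hi hj hij
    rcases Nat.lt_or_gt_of_ne hij with h | h
    · exact sx_union_octad hk hj h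
    · rw [Finset.union_comm]
      exact sx_union_octad hk hi h
  have hinj : Set.InjOn (fun j => (enc.finOf (sxT k j) : Finset GolayPt)) (Finset.range 6 : Finset ℕ) := by
    intro i hi j hj hij
    by_contra hne
    have h1 := octads_card (hun i j (by simpa using hi) (by simpa using hj) hne)
    have h2 : (enc.finOf (sxT k i) : Finset GolayPt) = enc.finOf (sxT k j) := hij
    rw [← h2, Finset.union_self, hcard i (by simpa using hi)] at h1
    omega
  refine ⟨?_, ?_, ?_⟩
  · rw [sxS, Finset.card_image_of_injOn hinj]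
    rfl
  · intro t ht
    obtain ⟨j, hj, rfl⟩ := sxS_mem_iff.1 ht
    exact hcard j hj
  · intro t ht u hu hne
    obtain ⟨i, hi, rfl⟩ := sxS_mem_iff.1 ht
    obtain ⟨j, hj, rfl⟩ := sxS_mem_iff.1 hu
    exact hun i j hi hj fun e => hne (by rw [e])

theorem sxS_first_mem (k : ℕ) : enc.finOf (sxT k 0) ∈ sxS k :=
  sxS_mem_iff.2 ⟨0, by norm_num, rfl⟩

theorem sxS_injOn {a b : ℕ} (ha : a < 1771) (hb : b < 1771) (h : sxS a = sxS b) : a = b := by
  have h1 : ∀ a b, a < 1771 → b < 1771 → sxS a = sxS b → sxT b 0 ≤ sxT a 0 := by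
    intro a b ha hb h
    have h2 := sxS_first_mem a
    rw [h] at h2
    obtain ⟨j, hj, hj'⟩ := sxS_mem_iff.1 h2
    rw [← sxT_inj hj']
    exact (sx_spec hb hj).2.1
  have h2 := h1 a b ha hb h
  have h3 := h1 b a hb ha h.symm
  by_contra hne
  rcases Nat.lt_or_gt_of_ne hne with h4 | h4
  · have := sx_lt_of_lt h4 hb
    omega
  · have := sx_lt_of_lt h4 ha
    omega

/-- All the tetrads occur. -/
theorem sx_cover (t : Finset GolayPt) (ht : t.card = 4) : ∃ k, k < 1771 ∧ t ∈ sxS k := by
  have hdisj : ((Finset.range 1771 : Finset ℕ) : Set ℕ).PairwiseDisjoint sxS := by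
    intro a ha b hb hne
    refine Finset.disjoint_left.2 fun t hta htb => hne ?_
    have ha' : a < 1771 := Finset.mem_range.1 (Finset.mem_coe.1 ha)
    have hb' : b < 1771 := Finset.mem_range.1 (Finset.mem_coe.1 hb)
    exact sxS_injOn ha' hb' (sextet_eq_of_mem (sxS_mem_sextets ha') (sxS_mem_sextets hb') hta htb)
  have hU : ((Finset.range 1771).biUnion sxS).card = 10626 := by
    rw [Finset.card_biUnion hdisj, Finset.sum_congr rfl fun a ha =>
      (sxS_mem_sextets (Finset.mem_range.1 ha)).1]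
    simp only [Finset.sum_const, Finset.card_range, smul_eq_mul]
  have hsub : (Finset.range 1771).biUnion sxS ⊆ Finset.powersetCard 4 (Finset.univ : Finset GolayPt) := by
    intro u hu
    rw [Finset.mem_biUnion] at hu
    obtain ⟨a, ha, hua⟩ := hu
    rw [Finset.mem_powersetCard]
    exact ⟨Finset.subset_univ _, (sxS_mem_sextets (Finset.mem_range.1 ha)).2.1 u hua⟩
  have hall : (Finset.powersetCard 4 (Finset.univ : Finset GolayPt)).card = 10626 := by
    rw [Finset.card_powersetCard]
    have : (Finset.univ : Finset GolayPt).card = 24 := by decide +kernel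
    rw [this]
    decide +kernel
  have hEq := Finset.eq_of_subset_of_card_le hsub (le_of_eq (hall.trans hU.symm))
  have hmem : t ∈ (Finset.range 1771).biUnion sxS := by
    rw [hEq, Finset.mem_powersetCard]
    exact ⟨Finset.subset_univ _, ht⟩
  rw [Finset.mem_biUnion] at hmem
  obtain ⟨a, ha, hta⟩ := hmem
  exact ⟨a, Finset.mem_range.1 ha, hta⟩

/-- The table of sextets is complete. -/
theorem mem_sextets_iff {S : Finset (Finset GolayPt)} : S ∈ sextets ↔ ∃ k, k < 1771 ∧ S = sxS k := by
  constructor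
  · intro hS
    have h1 : 0 < S.card := by rw [hS.1]; norm_num
    obtain ⟨t, ht⟩ := Finset.card_pos.1 h1
    obtain ⟨k, hk, htk⟩ := sx_cover t (hS.2.1 t ht)
    exact ⟨k, hk, sextet_eq_of_mem hS (sxS_mem_sextets hk) ht htk⟩
  · rintro ⟨k, hk, rfl⟩
    exact sxS_mem_sextets hk

/-! ### The trio table -/

/-- Octad `j` of trio `k`. -/
noncomputable def trT (k j : ℕ) : ℕ := pget 24 16777215 trData (Nat.add (Nat.mul 3 k) j)

/-- Trio `k`. -/
noncomputable def trS (k : ℕ) : Finset (Finset GolayPt) :=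
  (Finset.range 3).image fun j => enc.finOf (trT k j)

theorem trT_lt (k j : ℕ) : trT k j < 2 ^ 24 := by
  have h : trT k j = Nat.shiftRight trData (Nat.mul 24 (Nat.add (Nat.mul 3 k) j)) &&& (2 ^ 24 - 1) := rfl
  rw [h]
  exact Nat.and_lt_two_pow _ (by norm_num)

theorem trT_inj {a b i j : ℕ} (h : enc.finOf (trT a i) = enc.finOf (trT b j)) : trT a i = trT b j :=
  enc.finOf_injOn (trT_lt _ _) (trT_lt _ _) h

/-- The validity check of an entry. -/
noncomputable def trValid (k : ℕ) : Bool :=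
  (fun a b c => inCode a && Nat.beq (Enc.popAux a 24) 8 && inCode b && Nat.beq (Enc.popAux b 24) 8 &&
    inCode c && Nat.beq (Enc.popAux c 24) 8 && Nat.beq (Nat.land a b) 0 && Nat.beq (Nat.land a c) 0 &&
    Nat.beq (Nat.land b c) 0 && Nat.blt a b && Nat.blt b c) (trT k 0) (trT k 1) (trT k 2)

theorem tr_check1 : allBelow trValid 3795 = true := by decide +kernel

/-- The key of a trio. -/
noncomputable def trKey (k : ℕ) : ℕ := Nat.add (Nat.mul (trT k 0) 16777216) (trT k 1)

theorem tr_sorted : allBelow (fun k => Nat.blt (trKey k) (trKey (k + 1))) 3794 = true := by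
  decide +kernel

theorem tr_lt_of_lt {a b : ℕ} (hab : a < b) (hb : b < 3795) : trKey a < trKey b := by
  have step : ∀ k, k + 1 < 3795 → trKey k < trKey (k + 1) := fun k hk => by
    have := (allBelow_iff _ _).1 tr_sorted k (by omega)
    simpa [Nat.blt_eq] using this
  induction b, hab using Nat.le_induction with
  | base => exact step a hb
  | succ n hn ih => exact lt_trans (ih (by omega)) (step n hb)

theorem trS_mem_iff {k : ℕ} {t : Finset GolayPt} :
    t ∈ trS k ↔ ∃ j, j < 3 ∧ enc.finOf (trT k j) = t := by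
  simp [trS]

theorem tr_spec {k : ℕ} (hk : k < 3795) :
    enc.finOf (trT k 0) ∈ octads ∧ enc.finOf (trT k 1) ∈ octads ∧ enc.finOf (trT k 2) ∈ octads ∧
      Nat.land (trT k 0) (trT k 1) = 0 ∧ Nat.land (trT k 0) (trT k 2) = 0 ∧
      Nat.land (trT k 1) (trT k 2) = 0 ∧ trT k 0 < trT k 1 ∧ trT k 1 < trT k 2 := by
  have h := (allBelow_iff _ _).1 tr_check1 k hk
  simp only [trValid, Bool.and_eq_true] at h
  obtain ⟨⟨⟨⟨⟨⟨⟨⟨⟨⟨h1, h2⟩, h3⟩, h4⟩, h5⟩, h6⟩, h7⟩, h8⟩, h9⟩, h10⟩, h11⟩ := h
  refine ⟨octad_of_mask (by simp only [Bool.and_eq_true]; exact ⟨h1, h2⟩),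
    octad_of_mask (by simp only [Bool.and_eq_true]; exact ⟨h3, h4⟩),
    octad_of_mask (by simp only [Bool.and_eq_true]; exact ⟨h5, h6⟩),
    Nat.eq_of_beq_eq_true h7, Nat.eq_of_beq_eq_true h8, Nat.eq_of_beq_eq_true h9, ?_, ?_⟩
  · simpa [Nat.blt_eq] using h10
  · simpa [Nat.blt_eq] using h11

theorem finOf_disjoint_of_land {a b : ℕ} (h : Nat.land a b = 0) :
    Disjoint (enc.finOf a : Finset GolayPt) (enc.finOf b) := by
  have h1 : (enc.finOf a : Finset GolayPt) ∩ enc.finOf b = enc.finOf (a &&& b) := (enc.finOf_and a b).symm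
  have h2 : a &&& b = 0 := h
  rw [h2] at h1
  rw [Finset.disjoint_iff_inter_eq_empty, h1]
  ext x
  simp

theorem trS_mem_trios {k : ℕ} (hk : k < 3795) : trS k ∈ trios := by
  obtain ⟨h0, h1, h2, h01, h02, h12, hlt, hlt'⟩ := tr_spec hk
  have hd01 := finOf_disjoint_of_land h01
  have hd02 := finOf_disjoint_of_land h02
  have hd12 := finOf_disjoint_of_land h12
  have hinj : Set.InjOn (fun j => (enc.finOf (trT k j) : Finset GolayPt)) (Finset.range 3 : Finset ℕ) := by
    intro i hi j hj hij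
    have hi' : i < 3 := by simpa using hi
    have hj' : j < 3 := by simpa using hj
    have e := trT_inj (a := k) (b := k) (i := i) (j := j) hij
    interval_cases i <;> interval_cases j <;> first | rfl | omega
  refine ⟨?_, ?_, ?_⟩
  · rw [trS, Finset.card_image_of_injOn hinj]
    rfl
  · intro t ht
    obtain ⟨j, hj, rfl⟩ := trS_mem_iff.1 ht
    interval_cases j <;> assumption
  · intro t ht u hu hne
    obtain ⟨i, hi, rfl⟩ := trS_mem_iff.1 ht
    obtain ⟨j, hj, rfl⟩ := trS_mem_iff.1 hu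
    interval_cases i <;> interval_cases j <;>
      first
        | exact absurd rfl hne
        | assumption
        | exact Disjoint.symm (by assumption)

theorem trS_injOn {a b : ℕ} (ha : a < 3795) (hb : b < 3795) (h : trS a = trS b) : a = b := by
  obtain ⟨_, _, _, _, _, _, h1, h2⟩ := tr_spec ha
  obtain ⟨_, _, _, _, _, _, h3, h4⟩ := tr_spec hb
  have key : ∀ a b j, j < 3 → trS a = trS b → trT a j = trT b 0 ∨ trT a j = trT b 1 ∨ trT a j = trT b 2 := by
    intro a b j hj h
    have h5 : enc.finOf (trT a j) ∈ trS b := by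
      rw [← h]
      exact trS_mem_iff.2 ⟨j, hj, rfl⟩
    obtain ⟨i, hi, hi'⟩ := trS_mem_iff.1 h5
    have := trT_inj hi'
    interval_cases i <;> omega
  have a0 := key a b 0 (by norm_num) h
  have a1 := key a b 1 (by norm_num) h
  have a2 := key a b 2 (by norm_num) h
  have b0 := key b a 0 (by norm_num) h.symm
  have b1 := key b a 1 (by norm_num) h.symm
  have b2 := key b a 2 (by norm_num) h.symm
  have e0 : trT a 0 = trT b 0 := by omega
  have e1 : trT a 1 = trT b 1 := by omega
  by_contra hne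
  rcases Nat.lt_or_gt_of_ne hne with h5 | h5
  · have := tr_lt_of_lt h5 hb
    simp only [trKey, Nat.add_eq, Nat.mul_eq] at this
    omega
  · have := tr_lt_of_lt h5 ha
    simp only [trKey, Nat.add_eq, Nat.mul_eq] at this
    omega

/-- A trio is determined by two of its octads. -/
theorem trio_eq_of_two {T T' : Finset (Finset GolayPt)} (hT : T ∈ trios) (hT' : T' ∈ trios)
    {a b : Finset GolayPt} (ha : a ∈ T) (hb : b ∈ T) (ha' : a ∈ T') (hb' : b ∈ T') (hab : a ≠ b) :
    T = T' := by
  have key : ∀ {T : Finset (Finset GolayPt)}, T ∈ trios → a ∈ T → b ∈ T → T = {a, b, Finset.univ \ (a ∪ b)} := by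
    intro T hT ha hb
    obtain ⟨c, hc⟩ : ∃ c, c ∈ T ∧ c ≠ a ∧ c ≠ b := by
      by_contra hcon
      push Not at hcon
      have h1 : T ⊆ {a, b} := fun c hc => by
        by_cases h : c = a
        · simp [h]
        · simp [hcon c hc h]
      have h2 := Finset.card_le_card h1
      rw [hT.1] at h2
      have h3 : ({a, b} : Finset (Finset GolayPt)).card ≤ 2 := Finset.card_le_two
      omega
    obtain ⟨hc, hca, hcb⟩ := hc
    have hda := hT.2.2 a ha b hb hab
    have hdc := hT.2.2 a ha c hc hca.symm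
    have hdc' := hT.2.2 b hb c hc hcb.symm
    have hcard : (a ∪ b ∪ c).card = 24 := by
      rw [Finset.card_union_of_disjoint (Finset.disjoint_union_left.2 ⟨hdc, hdc'⟩),
        Finset.card_union_of_disjoint hda, octads_card (hT.2.1 a ha), octads_card (hT.2.1 b hb),
        octads_card (hT.2.1 c hc)]
    have huniv : a ∪ b ∪ c = Finset.univ := Finset.eq_univ_of_card _ (by rw [hcard]; decide)
    have hc2 : c = Finset.univ \ (a ∪ b) := by
      rw [← huniv]
      ext x
      simp only [Finset.mem_sdiff, Finset.mem_union]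
      constructor
      · intro hx
        exact ⟨Or.inr hx, fun h => h.elim (fun h => Finset.disjoint_left.1 hdc h hx)
          (fun h => Finset.disjoint_left.1 hdc' h hx)⟩
      · rintro ⟨h | h, h2⟩
        · exact absurd h h2
        · exact h
    have hsub : ({a, b, c} : Finset (Finset GolayPt)) ⊆ T := by
      intro x hx
      simp only [Finset.mem_insert, Finset.mem_singleton] at hx
      rcases hx with rfl | rfl | rfl <;> assumption
    have h3 : ({a, b, c} : Finset (Finset GolayPt)).card = 3 := by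
      rw [Finset.card_insert_of_notMem, Finset.card_insert_of_notMem, Finset.card_singleton]
      · simpa using hcb.symm
      · simp only [Finset.mem_insert, Finset.mem_singleton, not_or]
        exact ⟨hab, hca.symm⟩
    rw [← hc2]
    exact (Finset.eq_of_subset_of_card_le hsub (by rw [hT.1, h3])).symm
  rw [key hT ha hb, key hT' ha' hb']

/-- The numbers of octads disjoint from an octad. -/
theorem card_disjoint_octads {a : Finset GolayPt} (ha : a ∈ octads) :
    ((Steiner.blocks octads).filter fun b => (b ∩ a).card = 0).card = 30 := by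
  have h := (Steiner.nfib_5_8_24 (α := GolayPt) (by decide) octads_steiner ha).1
  exact h

theorem card_octad_blocks : (Steiner.blocks octads).card = 759 := by
  rw [← Steiner.ncard_eq_card_blocks, ncard_octads]

/-- Any two disjoint octads lie in a trio of the table. -/
theorem tr_pair_cover {a b : Finset GolayPt} (ha : a ∈ octads) (hb : b ∈ octads)
    (hab : Disjoint a b) : ∃ k, k < 3795 ∧ a ∈ trS k ∧ b ∈ trS k := by
  classical
  let O := Steiner.blocks octads
  let P := (O ×ˢ O).filter fun x => (x.2 ∩ x.1).card = 0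
  have hP : P.card = 22770 := by
    show (Finset.filter _ _).card = _
    rw [Finset.card_filter, Finset.sum_product]
    have h1 : ∀ a ∈ O, (∑ b ∈ O, if (b ∩ a).card = 0 then 1 else 0) = 30 := by
      intro a ha
      rw [← Finset.card_filter]
      exact card_disjoint_octads (Steiner.mem_blocks.1 ha)
    rw [Finset.sum_congr rfl h1, Finset.sum_const, card_octad_blocks]
    rfl
  let Q := Finset.range 3795 ×ˢ (Finset.range 3).offDiag
  have hQ : Q.card = 22770 := by
    rw [Finset.card_product, Finset.offDiag_card, Finset.card_range, Finset.card_range]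
  let φ : ℕ × (ℕ × ℕ) → Finset GolayPt × Finset GolayPt := fun x =>
    (enc.finOf (trT x.1 x.2.1), enc.finOf (trT x.1 x.2.2))
  have hinj : Set.InjOn φ Q := by
    rintro ⟨k, i, j⟩ hx ⟨k', i', j'⟩ hy hxy
    simp only [Q, Finset.coe_product, Set.mem_prod, Finset.mem_coe, Finset.mem_range,
      Finset.mem_offDiag] at hx hy
    obtain ⟨hk, hi, hj, hne⟩ := hx
    obtain ⟨hk', hi', hj', hne'⟩ := hy
    have h1 : enc.finOf (trT k i) = enc.finOf (trT k' i') := congrArg Prod.fst hxy
    have h2 : enc.finOf (trT k j) = enc.finOf (trT k' j') := congrArg Prod.snd hxy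
    have hmask : ∀ {k i j : ℕ}, k < 3795 → i < 3 → j < 3 → trT k i = trT k j → i = j := by
      intro k i j hk hi hj h
      obtain ⟨_, _, _, _, _, _, h3, h4⟩ := tr_spec hk
      interval_cases i <;> interval_cases j <;> first | rfl | omega
    have hne2 : enc.finOf (trT k i) ≠ enc.finOf (trT k j) := fun h => hne (hmask hk hi hj (trT_inj h))
    have hkk : k = k' := by
      apply trS_injOn hk hk'
      exact trio_eq_of_two (trS_mem_trios hk) (trS_mem_trios hk') (trS_mem_iff.2 ⟨i, hi, rfl⟩)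
        (trS_mem_iff.2 ⟨j, hj, rfl⟩) (trS_mem_iff.2 ⟨i', hi', h1.symm⟩)
        (trS_mem_iff.2 ⟨j', hj', h2.symm⟩) hne2
    subst hkk
    have hii := hmask hk hi hi' (trT_inj h1)
    have hjj := hmask hk hj hj' (trT_inj h2)
    rw [hii, hjj]
  have himg : Q.image φ ⊆ P := by
    intro y hy
    rw [Finset.mem_image] at hy
    obtain ⟨⟨k, i, j⟩, hx, rfl⟩ := hy
    simp only [Q, Finset.mem_product, Finset.mem_range, Finset.mem_offDiag] at hx
    obtain ⟨hk, hi, hj, hne⟩ := hx
    have hT := trS_mem_trios hk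
    have hai : enc.finOf (trT k i) ∈ trS k := trS_mem_iff.2 ⟨i, hi, rfl⟩
    have haj : enc.finOf (trT k j) ∈ trS k := trS_mem_iff.2 ⟨j, hj, rfl⟩
    have hne2 : enc.finOf (trT k i) ≠ enc.finOf (trT k j) := fun h => hne (by
      have h5 := trT_inj h
      obtain ⟨_, _, _, _, _, _, h3, h4⟩ := tr_spec hk
      interval_cases i <;> interval_cases j <;> first | rfl | omega)
    simp only [P, O, Finset.mem_filter, Finset.mem_product, Steiner.mem_blocks, φ]
    refine ⟨⟨hT.2.1 _ hai, hT.2.1 _ haj⟩, ?_⟩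
    rw [Finset.card_eq_zero, Finset.inter_comm, ← Finset.disjoint_iff_inter_eq_empty]
    exact hT.2.2 _ hai _ haj hne2
  have hEq : Q.image φ = P := by
    apply Finset.eq_of_subset_of_card_le himg
    rw [Finset.card_image_of_injOn hinj, hP, hQ]
  have hmem : (a, b) ∈ P := by
    simp only [P, O, Finset.mem_filter, Finset.mem_product, Steiner.mem_blocks]
    refine ⟨⟨ha, hb⟩, ?_⟩
    rw [Finset.card_eq_zero, Finset.inter_comm, ← Finset.disjoint_iff_inter_eq_empty]
    exact hab
  rw [← hEq] at hmem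
  rw [Finset.mem_image] at hmem
  obtain ⟨⟨k, i, j⟩, hx, hy⟩ := hmem
  simp only [Q, Finset.mem_product, Finset.mem_range, Finset.mem_offDiag] at hx
  obtain ⟨hk, hi, hj, _⟩ := hx
  exact ⟨k, hk, trS_mem_iff.2 ⟨i, hi, congrArg Prod.fst hy⟩, trS_mem_iff.2 ⟨j, hj, congrArg Prod.snd hy⟩⟩

/-- The table of trios is complete. -/
theorem mem_trios_iff {T : Finset (Finset GolayPt)} : T ∈ trios ↔ ∃ k, k < 3795 ∧ T = trS k := by
  constructor
  · intro hT
    have h1 : 1 < T.card := by rw [hT.1]; norm_num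
    obtain ⟨a, ha, b, hb, hab⟩ := Finset.one_lt_card.1 h1
    obtain ⟨k, hk, h2, h3⟩ := tr_pair_cover (hT.2.1 a ha) (hT.2.1 b hb) (hT.2.2 a ha b hb hab)
    exact ⟨k, hk, trio_eq_of_two hT (trS_mem_trios hk) ha hb h2 h3 hab⟩
  · rintro ⟨k, hk, rfl⟩
    exact trS_mem_trios hk

/-! ### Counting in tables -/

theorem ncard_table {α : Type*} {A : Set α} {elt : ℕ → α} {K : ℕ} (hA : ∀ x, x ∈ A ↔ ∃ k, k < K ∧ x = elt k)
    (hinj : ∀ a b, a < K → b < K → elt a = elt b → a = b) (P : α → Prop) (c : ℕ → Bool)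
    (hc : ∀ k, k < K → (P (elt k) ↔ c k = true)) : {x | x ∈ A ∧ P x}.ncard = countBelow c K := by
  classical
  have hset : {x | x ∈ A ∧ P x} = elt '' (((Finset.range K).filter fun k => c k = true : Finset ℕ) : Set ℕ) := by
    ext x
    simp only [Set.mem_ofPred_eq, Set.mem_image, Finset.coe_filter, Finset.mem_range]
    constructor
    · rintro ⟨hx, hP⟩
      obtain ⟨k, hk, rfl⟩ := (hA x).1 hx
      exact ⟨k, ⟨hk, (hc k hk).1 hP⟩, rfl⟩
    · rintro ⟨k, ⟨hk, hck⟩, rfl⟩
      exact ⟨(hA _).2 ⟨k, hk, rfl⟩, (hc k hk).2 hck⟩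
  rw [hset, Set.InjOn.ncard_image, Set.ncard_coe_finset, countBelow_eq]
  intro a ha b hb hab
  simp only [Finset.coe_filter, Finset.mem_range, Set.mem_ofPred_eq] at ha hb
  exact hinj a b ha.1 hb.1 hab

theorem imgMask_lt {f : ℕ → ℕ} (hf : ∀ i, i < 24 → f i < 24) (m : ℕ) : ∀ n, n ≤ 24 → imgMask f m n < 2 ^ 24 := by
  intro n
  induction n with
  | zero => intro _; rw [imgMask_zero]; norm_num
  | succ n ih =>
    intro hn
    rw [imgMask_succ]
    have h1 := ih (by omega)
    cases tb m n
    · exact h1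
    · rw [bcond_true]
      show (1 <<< f n) ||| imgMask f m n < 2 ^ 24
      apply Nat.or_lt_two_pow _ h1
      rw [Nat.one_shiftLeft]
      exact Nat.pow_lt_pow_right (by norm_num) (hf n (by omega))

theorem code_lt' {σ : Equiv.Perm GolayPt} {f : ℕ → ℕ} (hf : enc.IsCode σ f) : ∀ i, i < 24 → f i < 24 :=
  fun _ hi => code_lt hf hi

theorem img_finOf {σ : Equiv.Perm GolayPt} {f : ℕ → ℕ} (hf : enc.IsCode σ f) (m : ℕ) :
    σ • (enc.finOf m : Finset GolayPt) = enc.finOf (imgMask f m 24) :=
  (hf.finOf_img m).symm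

/-- The test that a permutation preserves a family of masks. -/
noncomputable def famFix (f : ℕ → ℕ) (T : ℕ → ℕ) (n : ℕ) : Bool :=
  allBelow (fun j => anyBelow (fun j' => Nat.beq (imgMask f (T j) 24) (T j')) n) n

theorem famFix_iff {σ : Equiv.Perm GolayPt} {f : ℕ → ℕ} (hf : enc.IsCode σ f) {T : ℕ → ℕ} {n : ℕ}
    (hT : ∀ j, T j < 2 ^ 24) :
    famFix f T n = true ↔
      σ • ((Finset.range n).image fun j => (enc.finOf (T j) : Finset GolayPt)) =
        (Finset.range n).image fun j => (enc.finOf (T j) : Finset GolayPt) := by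
  set S := (Finset.range n).image fun j => (enc.finOf (T j) : Finset GolayPt) with hS
  constructor
  · intro h
    apply Finset.eq_of_subset_of_card_le
    · intro x hx
      obtain ⟨y, hy, rfl⟩ := Finset.mem_smul_finset.1 hx
      obtain ⟨j, hj, rfl⟩ := Finset.mem_image.1 hy
      have hj' : j < n := Finset.mem_range.1 hj
      obtain ⟨j', hj'', h2⟩ := (anyBelow_iff _ _).1 ((allBelow_iff _ _).1 h j hj')
      show σ • (enc.finOf (T j) : Finset GolayPt) ∈ S
      rw [img_finOf hf, Nat.eq_of_beq_eq_true h2]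
      exact Finset.mem_image.2 ⟨j', Finset.mem_range.2 hj'', rfl⟩
    · rw [Finset.card_smul_finset]
  · intro h
    refine (allBelow_iff _ _).2 fun j hj => (anyBelow_iff _ _).2 ?_
    have h1 : σ • (enc.finOf (T j) : Finset GolayPt) ∈ S := by
      rw [← h]
      exact Finset.smul_mem_smul_finset (Finset.mem_image.2 ⟨j, Finset.mem_range.2 hj, rfl⟩)
    rw [img_finOf hf] at h1
    obtain ⟨j', hj', h2⟩ := Finset.mem_image.1 h1
    refine ⟨j', Finset.mem_range.1 hj', ?_⟩
    have h3 := enc.finOf_injOn (hT j') (imgMask_lt (code_lt' hf) _ _ (le_refl _)) h2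
    rw [h3]
    exact Nat.beq_refl _

/-- Number of sextets fixed by a coded permutation. -/
theorem ncard_sextets_fixed {σ : Equiv.Perm GolayPt} {f : ℕ → ℕ} (hf : enc.IsCode σ f) :
    {S | S ∈ sextets ∧ σ • S = S}.ncard = countBelow (fun k => famFix f (sxT k) 6) 1771 := by
  apply ncard_table (fun _ => mem_sextets_iff) (fun a b ha hb h => sxS_injOn ha hb h)
  intro k _
  exact (famFix_iff hf fun j => sxT_lt k j).symm

/-- Number of trios fixed by a coded permutation. -/
theorem ncard_trios_fixed {σ : Equiv.Perm GolayPt} {f : ℕ → ℕ} (hf : enc.IsCode σ f) :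
    {S | S ∈ trios ∧ σ • S = S}.ncard = countBelow (fun k => famFix f (trT k) 3) 3795 := by
  apply ncard_table (fun _ => mem_trios_iff) (fun a b ha hb h => trS_injOn ha hb h)
  intro k _
  exact (famFix_iff hf fun j => trT_lt k j).symm

/-- The test for words of a given weight fixed by a coded permutation. -/
noncomputable def wordFix (f : ℕ → ℕ) (n k : ℕ) : Bool :=
  (fun w => Nat.beq (Enc.popAux w 24) n && Nat.beq (imgMask f w 24) w) (word k)

theorem ncard_weight_fixed {σ : Equiv.Perm GolayPt} {f : ℕ → ℕ} (hf : enc.IsCode σ f) (n : ℕ) :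
    {o | o ∈ wordsOfWeight (golayCode : Set (GolayPt → ZMod 2)) n ∧ σ • o = o}.ncard =
      countBelow (wordFix f n) 4096 := by
  have h := ncard_table (A := supports (golayCode : Set (GolayPt → ZMod 2)))
    (elt := fun k => enc.finOf (word k)) (K := 4096) (fun _ => mem_supports_iff)
    (fun a b ha hb h => word_injOn ha hb (enc.finOf_injOn (word_lt ha) (word_lt hb) h))
    (fun o => o.card = n ∧ σ • o = o) (wordFix f n)
    (fun k hk => by
      simp only [wordFix, Bool.and_eq_true]
      rw [img_finOf hf, card_enc_finOf]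
      constructor
      · rintro ⟨h1, h2⟩
        refine ⟨by rw [h1]; exact Nat.beq_refl _, ?_⟩
        have h3 := enc.finOf_injOn (imgMask_lt (code_lt' hf) _ _ (le_refl _)) (word_lt hk) h2
        rw [h3]
        exact Nat.beq_refl _
      · rintro ⟨h1, h2⟩
        exact ⟨Nat.eq_of_beq_eq_true h1, by rw [Nat.eq_of_beq_eq_true h2]⟩)
  rw [← h]
  congr 1
  ext o
  constructor
  · rintro ⟨⟨h1, h2⟩, h3⟩
    exact ⟨h1, h2, h3⟩
  · rintro ⟨h1, h2, h3⟩
    exact ⟨⟨h1, h2⟩, h3⟩

theorem ncard_octads_fixed {σ : Equiv.Perm GolayPt} {f : ℕ → ℕ} (hf : enc.IsCode σ f) :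
    {o | o ∈ octads ∧ σ • o = o}.ncard = countBelow (wordFix f 8) 4096 :=
  ncard_weight_fixed hf 8

theorem ncard_dodecads_fixed {σ : Equiv.Perm GolayPt} {f : ℕ → ℕ} (hf : enc.IsCode σ f) :
    {o | o ∈ dodecads ∧ σ • o = o}.ncard = countBelow (wordFix f 12) 4096 :=
  ncard_weight_fixed hf 12

/-! ### Conjugation -/

/-- Fixed points in an invariant set, under conjugation. -/
theorem ncard_fixed_conj {X : Type*} [MulAction (Equiv.Perm GolayPt) X] {A : Set X}
    (hA : ∀ k ∈ M24, ∀ x ∈ A, k • x ∈ A) {k : Equiv.Perm GolayPt} (hk : k ∈ M24)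
    (g : Equiv.Perm GolayPt) :
    {x | x ∈ A ∧ (k * g * k⁻¹) • x = x}.ncard = {x | x ∈ A ∧ g • x = x}.ncard := by
  have hset : {x | x ∈ A ∧ (k * g * k⁻¹) • x = x} = (fun x => k • x) '' {x | x ∈ A ∧ g • x = x} := by
    ext x
    simp only [Set.mem_ofPred_eq, Set.mem_image]
    constructor
    · rintro ⟨h1, h2⟩
      refine ⟨k⁻¹ • x, ⟨hA _ (M24.inv_mem hk) _ h1, ?_⟩, by simp⟩
      calc g • k⁻¹ • x = k⁻¹ • ((k * g * k⁻¹) • x) := by
            rw [smul_smul, smul_smul]
            congr 1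
            group
        _ = k⁻¹ • x := by rw [h2]
    · rintro ⟨y, ⟨h1, h2⟩, rfl⟩
      refine ⟨hA _ hk _ h1, ?_⟩
      rw [smul_smul]
      have : k * g * k⁻¹ * k = k * g := by group
      rw [this, ← smul_smul, h2]
  rw [hset, Set.ncard_image_of_injective _ (MulAction.injective k)]

end Cfsg.Agent.Lib.M24
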